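import Groth.Agent.H16Derived.KFlat.TorAmp
import Groth.Agent.H16Derived.KFlat.TildeStalk
import Groth.Agent.H16Derived.KFlat.StalkCriterion
import Groth.Agent.H10Coh.Proper

/-!
# Tor amplitude is tested by quasi-coherent modules
-/

set_option autoImplicit false
set_option linter.style.haveILetI false

universe u

open CategoryTheory CategoryTheory.Limits AlgebraicGeometry Opposite TopologicalSpace MonoidalCategory

attribute [local instance] HasDerivedCategory.standard

namespace Groth.Agent.H16Derived.TorTest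

open Groth.Agent.H16Derived.KFlat Groth.Agent.H16Derived.KFlat.Stalk
open Groth.Agent.H16Derived.KFlat.TildeStalk (top top_add top_smul)

variable {X : Scheme.{u}}

theorem preimage_fromSpecStalk (x : X) {W : X.Opens} (hx : x ∈ W) : X.fromSpecStalk x ⁻¹ᵁ W = ⊤ :=
  eq_top_iff.2 fun y _ => by
    have hy : X.fromSpecStalk x y ⤳ x := by
      have h : X.fromSpecStalk x y ∈ Set.range (X.fromSpecStalk x) := ⟨y, rfl⟩
      rwa [Scheme.range_fromSpecStalk] at h
    exact hy.mem_open W.2 hx

variable (x : X) (M : ModuleCat.{u} (X.presheaf.stalk x))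

/-- The quasi-coherent module with stalk `M` at `x`. -/
noncomputable def spread : X.Modules :=
  (Scheme.Modules.pushforward (X.fromSpecStalk x)).obj (tilde M)

theorem isQCoh_spread [QuasiSeparatedSpace X] : Coh.IsQCoh (spread x M) :=
  haveI : QuasiCompact (X.fromSpecStalk x) := quasiCompact_of_compactSpace _
  H10Coh.isQuasicoherent_pushforward (X.fromSpecStalk x) (tilde M)

/-- Global sections of `spread M`. -/
noncomputable def topS (m : M) : Γ(spread x M, ⊤) := top M m

/-- `M ⟶ (spread M)_x`. -/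
noncomputable def toStalk : M →+ (spread x M).presheaf.stalk x where
  toFun m := (spread x M).presheaf.germ ⊤ x trivial (topS x M m)
  map_zero' := (congrArg _ (map_zero (tilde.toOpen M ⊤).hom)).trans (map_zero _)
  map_add' m m' := (congrArg _ (top_add M m m')).trans (map_add ((spread x M).presheaf.germ ⊤ x trivial).hom (topS x M m) (topS x M m'))

theorem fromSpecStalk_app_apply {W : X.Opens} (hx : x ∈ W) (s : Γ(X, W)) :
    (X.fromSpecStalk x).app W s = (Spec (X.presheaf.stalk x)).presheaf.map
      (homOfLE (le_top : X.fromSpecStalk x ⁻¹ᵁ W ≤ ⊤)).op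
      ((Scheme.ΓSpecIso (X.presheaf.stalk x)).inv (X.presheaf.germ W x hx s)) :=
  congr($(Scheme.fromSpecStalk_app hx) s)

theorem toStalk_smul (r : X.presheaf.stalk x) (m : M) : toStalk x M (r • m) = r • toStalk x M m := by
  obtain ⟨W, hx, s, rfl⟩ := X.presheaf.exists_germ_eq r
  let i : W ⟶ ⊤ := homOfLE le_top
  have h1 : ∀ n : M, toStalk x M n = (spread x M).presheaf.germ W x hx ((spread x M).presheaf.map i.op (topS x M n)) :=
    fun n => (TopCat.Presheaf.germ_res_apply (spread x M).presheaf i x hx (topS x M n)).symm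
  rw [h1, h1, ← H06Mod.germ_smul]
  refine congrArg ((spread x M).presheaf.germ W x hx) ?_
  show (tilde M).presheaf.map (homOfLE (le_top : X.fromSpecStalk x ⁻¹ᵁ W ≤ ⊤)).op (top M (_ • m)) =
    (X.fromSpecStalk x).app W s •
      (tilde M).presheaf.map (homOfLE (le_top : X.fromSpecStalk x ⁻¹ᵁ W ≤ ⊤)).op (top M m)
  rw [top_smul, Scheme.Modules.map_smul, fromSpecStalk_app_apply x hx s]

theorem toStalk_bijective : Function.Bijective (toStalk x M) := by
  have htop : Function.Bijective (top M) := ConcreteCategory.bijective_of_isIso (tilde.toOpen M ⊤)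
  have hW : ∀ {W : X.Opens} (hx : x ∈ W), Function.Bijective
      ((spread x M).presheaf.map (homOfLE (le_top : W ≤ ⊤)).op) := fun {W} hx => by
    haveI : IsIso ((tilde M).presheaf.map
        (homOfLE (le_top : X.fromSpecStalk x ⁻¹ᵁ W ≤ ⊤)).op) := by
      have : IsIso (homOfLE (le_top : X.fromSpecStalk x ⁻¹ᵁ W ≤ ⊤)) :=
        ⟨homOfLE (preimage_fromSpecStalk x hx).ge, Subsingleton.elim _ _, Subsingleton.elim _ _⟩
      infer_instance
    exact ConcreteCategory.bijective_of_isIso ((tilde M).presheaf.map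
      (homOfLE (le_top : X.fromSpecStalk x ⁻¹ᵁ W ≤ ⊤)).op)
  refine ⟨fun m m' h => ?_, fun z => ?_⟩
  · obtain ⟨W, hx, i, i', h'⟩ := (spread x M).presheaf.germ_eq x (show x ∈ (⊤ : X.Opens) from trivial)
      (show x ∈ (⊤ : X.Opens) from trivial) (topS x M m) (topS x M m') h
    exact htop.1 ((hW hx).1 h')
  · obtain ⟨W, hx, a, rfl⟩ := (spread x M).presheaf.exists_germ_eq z
    obtain ⟨b, rfl⟩ := (hW hx).2 a
    obtain ⟨m, rfl⟩ := htop.2 b
    exact ⟨m, (TopCat.Presheaf.germ_res_apply (spread x M).presheaf (homOfLE (le_top : W ≤ ⊤)) x hx (topS x M m)).symm⟩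

/-- `(spread M)_x ≅ M`. -/
noncomputable def spreadStalkIso : (DerSch.stalkFunctor X x).obj (spread x M) ≅ M :=
  ((LinearEquiv.ofBijective ({ toFun := toStalk x M, map_add' := map_add _, map_smul' := toStalk_smul x M } :
    M →ₗ[X.presheaf.stalk x] (spread x M).presheaf.stalk x) (toStalk_bijective x M)).toModuleIso :
    M ≅ (DerSch.stalkFunctor X x).obj (spread x M)).symm

/-- `(- ⊗ F)_x` only depends on `F_x`. -/
noncomputable def tensorStalkIso (F : X.Modules) :
    DCoh.tensorRightMod F ⋙ DerSch.stalkFunctor X x ≅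
      DerSch.stalkFunctor X x ⋙ tensorRight ((DerSch.stalkFunctor X x).obj F) :=
  Functor.isoWhiskerRight (tensorRightModIso F) _ ≪≫ rightIso F x

/-- Modules with isomorphic stalks have isomorphic tensor stalks. -/
noncomputable def tensorStalkCongr {F F' : X.Modules}
    (e : (DerSch.stalkFunctor X x).obj F ≅ (DerSch.stalkFunctor X x).obj F') :
    DCoh.tensorRightMod F ⋙ DerSch.stalkFunctor X x ≅ DCoh.tensorRightMod F' ⋙ DerSch.stalkFunctor X x :=
  tensorStalkIso x F ≪≫ Functor.isoWhiskerLeft _ ((tensoringRight _).mapIso e) ≪≫ (tensorStalkIso x F').symm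

/-- Tor amplitude is tested by quasi-coherent modules. -/
theorem hasTorAmplitudeIn_of_qcoh [QuasiSeparatedSpace X] (E : DCoh.D X) (a b : ℤ)
    (h : ∀ (F : X.Modules), Coh.IsQCoh F → ∀ [DCoh.HasLTensorMod F] (i : ℤ), (i < a ∨ b < i) →
        IsZero (DCoh.HD ((DCoh.LTensorMod F).obj E) i)) :
    DCoh.HasTorAmplitudeIn a b E := by
  intro F _ i hi
  let G := DerivedCategory.Q.objPreimage E
  let P := (res (X := X)).obj G
  haveI : IsIso (DerivedCategory.Q.map ((resψ (X := X)).app G)) := isIso_Q_map _ (quasiIso_resψ G)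
  let e : DCoh.toD X P ≅ E :=
    asIso (DerivedCategory.Q.map ((resψ (X := X)).app G)) ≪≫ DerivedCategory.Q.objObjPreimageIso E
  have hP : lkflat X P := isKFlat_flip_res G
  let C := fun F' : X.Modules =>
    ((DCoh.tensorRightMod F').mapHomologicalComplex (ComplexShape.up ℤ)).obj P
  have key : ∀ (F' : X.Modules) [DCoh.HasLTensorMod F'],
      IsZero (DCoh.HD ((DCoh.LTensorMod F').obj E) i) ↔ ((C F').sc i).Exact := fun F' _ =>
    ((((DerivedCategory.homologyFunctor X.Modules i).mapIso ((DCoh.LTensorMod F').mapIso e.symm)) ≪≫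
      hdLTensorModIso F' P hP i).isZero_iff).trans (ShortComplex.exact_iff_isZero_homology _).symm
  refine (key F).2 ((exact_iff _).2 fun x => ?_)
  let M := (DerSch.stalkFunctor X x).obj F
  haveI := hasLTensorMod (spread x M)
  have h' := (exact_iff _).1 ((key _).1 (h _ (isQCoh_spread x M) i hi)) x
  exact (ShortComplex.exact_iff_of_iso
    ((P.sc i).mapNatIso (tensorStalkCongr x (spreadStalkIso x M)))).1 h'

end Groth.Agent.H16Derived.TorTest
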