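import Groth.Agent.H16Derived.TorTest.StalkRestrict
import Groth.Agent.H16Derived.TorTest.QCohTest
import Groth.Agent.H16Derived.ProjFormula.DQc
import Groth.Agent.H16Derived.QCohD.RpushUnb

/-!
# Tor amplitude of derived direct images relative to a base
-/

set_option autoImplicit false
set_option linter.style.haveILetI false

universe u

open CategoryTheory CategoryTheory.Limits AlgebraicGeometry MonoidalCategory
open Groth.Agent.H16Derived
open Groth.Agent.H16Derived.KFlat Groth.Agent.H16Derived.KFlat.Stalk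
open Groth.Agent.H4DR.TorAmp

attribute [local instance] HasDerivedCategory.standard

namespace Groth.Agent.H16Derived.TorTest

open Groth.Agent.H4DR.KFlatMod (bi)

variable {X W U : Scheme.{u}}

theorem isQCohD_inD {M : X.Modules} (hM : Coh.IsQCoh M) : DCoh.IsQCohD (DCoh.inD X M) := fun i => by
  rcases eq_or_ne i 0 with rfl | hi
  · exact QCohD.isQCoh_iso (hdSingle M 0).symm hM
  · refine QCohD.isQCoh_isZero _ ?_
    rcases lt_or_gt_of_ne hi with h | h
    · exact DerivedCategory.isZero_of_isGE _ 0 i h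
    · exact DerivedCategory.isZero_of_isLE _ 0 i h

/-- The test complexes can be any K-flat complex isomorphic to the module. -/
theorem exactAt_test_congr {A : Type u} [CommRing A] {X' F G : DRing.Cx A} {N : ModuleCat.{u} A}
    (hF : IsFlatRes N F) (hG : KFlat.IsKFlat (bi A) G)
    (e : DRing.toD G ≅ DRing.toD ((HomologicalComplex.single (ModuleCat.{u} A) (ComplexShape.up ℤ) 0).obj N))
    (i : ℤ) : (X' ⊗ F).ExactAt i ↔ (X' ⊗ G).ExactAt i := by
  obtain ⟨r, hr, hK⟩ := hF
  obtain ⟨P, hP, ⟨e'⟩⟩ := exists_projRep (c := 0) (K := DRing.toD ((HomologicalComplex.single (ModuleCat.{u} A) (ComplexShape.up ℤ) 0).obj N))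
    fun j hj => ModuleCat.subsingleton_of_isZero (((HomologicalComplex.exactAt_iff _ _).2
      (ShortComplex.exact_of_isZero_X₂ (((HomologicalComplex.single (ModuleCat.{u} A) (ComplexShape.up ℤ) 0).obj N).sc j)
        (HomologicalComplex.isZero_single_obj_X (ComplexShape.up ℤ) 0 N j (by omega)))).isZero_homology.of_iso
      ((DerivedCategory.homologyFunctorFactors (ModuleCat.{u} A) j).app _))
  have hPK := isKFlat_of_flat hP.above hP.flat
  obtain ⟨f, hf, -⟩ := exists_qis hP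
    (e' ≪≫ (@asIso _ _ _ _ _ (H25DTen.isIso_Q_map r hr)).symm)
  obtain ⟨g, hg, -⟩ := exists_qis hP (e' ≪≫ e.symm)
  exact ((exactAt_of_quasiIso _ (H25DTen.quasiIso_whiskerLeft' X' f hPK hK) i).symm).trans
    (exactAt_of_quasiIso _ (H25DTen.quasiIso_whiskerLeft' X' g hPK hG) i)

/-- Cohomology bounds from tor amplitude. -/
theorem bounds_of_ta (p : X ⟶ U) {F : CochainComplex X.Modules ℤ} {a b : ℤ}
    (hF : DerSch.HasTorAmplitude p a b F) :
    (DCoh.toD X F).IsGE a ∧ (DCoh.toD X F).IsLE b := by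
  have h : ∀ i : ℤ, (i < a ∨ b < i) → IsZero (DCoh.HD (DCoh.toD X F) i) := fun i hi => by
    refine IsZero.of_iso ?_ ((DerivedCategory.homologyFunctorFactors X.Modules i).app F)
    refine (ShortComplex.exact_iff_isZero_homology _).1 ((exact_iff _).2 fun x => ?_)
    have h0 : ((DerSch.stalkCxOver p x).obj F).ExactAt i := by
      refine (HomologicalComplex.exactAt_iff_isZero_homology _ _).2 ?_
      haveI := bound_of_ta (hF x) i hi
      exact (ModuleCat.isZero_of_iff_subsingleton.2 inferInstance).of_iso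
        ((DerivedCategory.homologyFunctorFactors _ i).app _).symm
    exact (HomologicalComplex.exactAt_iff _ _).1
      ((exactAt_res_iff (p.stalkMap x).hom ((Sx x).obj F) i).1 h0)
  exact ⟨(DerivedCategory.isGE_iff _ _).2 fun i hi => h i (Or.inl hi),
    (DerivedCategory.isLE_iff _ _).2 fun i hi => h i (Or.inr hi)⟩

variable (f : X ⟶ W) (q : W ⟶ U) [QuasiCompact f] [QuasiSeparated f]
  [QuasiSeparatedSpace U] [DCoh.HasRpush f]

/-- `Rf_*` adds the cohomological dimension to the amplitude. -/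
theorem hasTorAmplitudeD_rpush {N : ℕ} (hN : QCohD.Bound f N) (F : CochainComplex X.Modules ℤ)
    (hqc : DCoh.IsQCohD (DCoh.toD X F)) {a b : ℤ} (hF : DerSch.HasTorAmplitude (f ≫ q) a b F) :
    DerSch.HasTorAmplitudeD q a (b + N) ((DCoh.Rpush f).obj (DCoh.toD X F)) := by
  haveI := hasLpull q
  haveI := hasLpull f
  haveI := hasLpull (f ≫ q)
  haveI := isGrothendieckAbelian_modules (X := X)
  haveI := QCohD.hasInjectiveResolutions_modules (X := X)
  obtain ⟨ha, hb⟩ := bounds_of_ta (f ≫ q) hF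
  obtain ⟨I, hI, -, ⟨eI⟩⟩ := MVPush.exists_rep (DCoh.toD X F)
  haveI := hI
  haveI := ProjFormula.isIso_η₀ f I
  obtain ⟨K, -, hK, ⟨eK⟩⟩ := Dual.exists_rep ((DCoh.Rpush f).obj (DCoh.toD X F))
  obtain ⟨F', hF'1, hF'2, ⟨eF⟩⟩ := Dual.exists_rep (DCoh.toD X F)
  have hF' : DerSch.HasTorAmplitude (f ≫ q) a b F' := hasTorAmplitude_of_iso eF.symm hF
  haveI := hasLTensorCx F'
  intro K₁ ⟨e₁⟩
  refine hasTorAmplitude_of_iso (eK ≪≫ e₁.symm) fun y => ?_
  have hRv : ∀ i, b + N ≤ i → IsZero (DCoh.HD ((DCoh.Rpush f).obj (DCoh.toD X F)) i) := fun i hi =>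
    QCohD.isZero_rpush_of_isLE f hN _ hqc b i hi
  refine ta_of_test (c := b + N) (fun i hi => ?_) fun Nm Fl hFl i hi => ?_
  · refine (exactAt_res_iff (q.stalkMap y).hom ((Sx y).obj K) i).2
      ((HomologicalComplex.exactAt_iff _ _).2 ((exact_iff _).1 ((ShortComplex.exact_iff_isZero_homology _).2
        ((hRv i (le_of_lt hi)).of_iso (((DerivedCategory.homologyFunctorFactors W.Modules i).app K).symm ≪≫
          (DerivedCategory.homologyFunctor W.Modules i).mapIso eK))) y))
  let u := q.base y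
  let M := spread u Nm
  obtain ⟨P, hP, ⟨eP⟩⟩ := exists_kflat_rep (DCoh.inD U M)
  let eM : DCoh.inD U M ≅ DCoh.toD U ((HomologicalComplex.single U.Modules (ComplexShape.up ℤ) 0).obj M) :=
    (DerivedCategory.singleFunctorIsoCompQ U.Modules 0).app M
  let eS : DRing.toD ((Sx u).obj P) ≅
      DRing.toD ((HomologicalComplex.single (ModuleCat.{u} (U.presheaf.stalk u)) (ComplexShape.up ℤ) 0).obj Nm) :=
    (DerSch.stalkFunctor U u).mapDerivedCategoryFactors.symm.app P ≪≫
      (DerSch.stalkFunctor U u).mapDerivedCategory.mapIso (eP ≪≫ eM) ≪≫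
      (DerSch.stalkFunctor U u).mapDerivedCategoryFactors.app _ ≪≫
      DerivedCategory.Q.mapIso ((HomologicalComplex.singleMapHomologicalComplex (DerSch.stalkFunctor U u)
          (ComplexShape.up ℤ) 0).app M ≪≫
        (HomologicalComplex.single _ (ComplexShape.up ℤ) 0).mapIso (spreadStalkIso u Nm))
  refine (exactAt_test_congr hFl ((H25DTen.isKFlat_iff _).1 ((isKFlat_iff_stalk P).1 hP u)) eS i).2 ?_
  let Q := (ProjFormula.pullCx q).obj P
  let T := ((DCoh.tensorCx (X := W)).obj Q).obj K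
  suffices hT : T.ExactAt i by
    have h1 : ((DerSch.stalkCxOver q y).obj T).ExactAt i :=
      (exactAt_res_iff (q.stalkMap y).hom ((Sx y).obj T) i).2 ((HomologicalComplex.exactAt_iff _ _).2
        ((exact_iff _).1 ((HomologicalComplex.exactAt_iff _ _).1 hT) y))
    exact h1.of_iso (stalkPullTensorIso q y P K)
  refine (HomologicalComplex.exactAt_iff_isZero_homology _ _).2 (IsZero.of_iso ?_
    ((DerivedCategory.homologyFunctorFactors W.Modules i).app T).symm)
  let Lq := (DCoh.Lpull q).obj (DCoh.inD U M)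
  let eLq : DerivedCategory.Q.obj Q ≅ Lq := (lpullObjIso q P hP).symm ≪≫ (DCoh.Lpull q).mapIso eP
  have hLq : DCoh.IsQCohD Lq := QCohD.isQCohD_lpull q (isQCohD_inD (isQCoh_spread u Nm))
  haveI := ProjFormula.isIso_θ_of_isQCohD f I (QCohD.isQCohD_iso eI.symm hqc) Lq hLq
  let eR : DerivedCategory.Q.obj ((ProjFormula.pushCx f).obj I) ≅ DerivedCategory.Q.obj K :=
    asIso ((ProjFormula.η₀ f).app I) ≪≫ (DCoh.Rpush f).mapIso eI ≪≫ eK.symm
  let E := ((Dual.T X).obj (DerivedCategory.Q.obj I)).obj ((DCoh.Lpull f).obj Lq)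
  let e₀ : DerivedCategory.Q.obj T ≅ (DCoh.Rpush f).obj E :=
    DerivedCategory.Q.mapIso (Dual.braidC Q K) ≪≫ ((Dual.TObjIso K hK).app Q).symm ≪≫
      ((Dual.T W).mapIso eR.symm).app _ ≪≫ ((Dual.T W).obj _).mapIso eLq ≪≫
      asIso ((ProjFormula.θ f I).app Lq)
  let Q' := (ProjFormula.pullCx (f ≫ q)).obj P
  let e₂ : E ≅ (DCoh.LTensorCx F').obj ((DCoh.Lpull (f ≫ q)).obj (DCoh.inD U M)) :=
    ((Dual.T X).mapIso (eI ≪≫ eF.symm)).app _ ≪≫
      ((Dual.T X).obj _).mapIso ((DCoh.Lpull f).mapIso eLq.symm ≪≫ lpullObjIso f Q (isKFlat_pullback q hP)) ≪≫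
      (Dual.TObjIso F' hF'2).app _ ≪≫
      DerivedCategory.Q.mapIso (Dual.braidC F' ((ProjFormula.pullCx f).obj Q) ≪≫ ((DCoh.tensorCx (X := X)).mapIso
        ((NatIso.mapHomologicalComplex (Scheme.Modules.pullbackComp f q) (ComplexShape.up ℤ)).app P)).app F') ≪≫
      ((ltensorCxIso F').app ⟨Q', lkflat_of_kflat (isKFlat_pullback (f ≫ q) hP)⟩).symm ≪≫
      (DCoh.LTensorCx F').mapIso ((lpullObjIso (f ≫ q) P hP).symm ≪≫ (DCoh.Lpull (f ≫ q)).mapIso eP)
  have hE : ∀ j : ℤ, (j < a ∨ b < j) → IsZero (DCoh.HD E j) := fun j hj =>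
    (isZero_hd_tensor_inD (f ≫ q) F' hF' M hj).of_iso ((DerivedCategory.homologyFunctor X.Modules j).mapIso e₂)
  have hEq : DCoh.IsQCohD E := QCohD.isQCohD_iso e₂.symm (QCohD.isQCohD_ltensorCx F'
    (QCohD.isQCohD_iso eF.symm hqc) (QCohD.isQCohD_lpull (f ≫ q) (isQCohD_inD (isQCoh_spread u Nm))))
  haveI : E.IsGE a := (DerivedCategory.isGE_iff _ _).2 fun j hj => hE j (Or.inl hj)
  haveI : E.IsLE b := (DerivedCategory.isLE_iff _ _).2 fun j hj => hE j (Or.inr hj)
  refine IsZero.of_iso ?_ ((DerivedCategory.homologyFunctor W.Modules i).mapIso e₀)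
  rcases hi with hi | hi
  · haveI := isGE_rpush f E a
    exact DerivedCategory.isZero_of_isGE _ a i hi
  · exact QCohD.isZero_rpush_of_isLE f hN E hEq b i (le_of_lt hi)

end Groth.Agent.H16Derived.TorTest
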