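import Groth.Agent.H16Derived.TorTest.RpushAmpLoc
import Groth.Agent.H16Derived.KFlat.PerfConcD
import Groth.Agent.H16Derived.KFlat.PerfFlat
import Groth.Agent.H4DR.TorAmp.Perfect

/-!
# A pseudo-coherent complex with tor amplitude at a point is perfect near the point
-/

set_option autoImplicit false
set_option linter.style.haveILetI false

universe u

open CategoryTheory CategoryTheory.Limits AlgebraicGeometry
open Groth.Agent.H16Derived
open Groth.Agent.H16Derived.KFlat Groth.Agent.H16Derived.KFlat.Stalk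
open Groth.Agent.H4DR.TorAmp


attribute [local instance] HasDerivedCategory.standard

namespace Groth.Agent.H16Derived.TorTest

/-- A complex with tor amplitude from `m` on and flat terms above `m` has a flat bottom term. -/
theorem flat_bot_of_ta {R : Type u} [CommRing R] {W : DRing.Cx R} {m n C : ℤ} (hnC : n ≤ C)
    (hz : DRing.VanishesOutside W m C) (hF : ∀ i, m < i → Module.Flat R (W.X i))
    (hT : DRing.HasTorAmplitudeIn R m n (DRing.toD W)) : Module.Flat R (W.X m) := by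
  let T₀ := ShortComplex.mk (KFlat.Brutal.ι W (m + 1)) _
    (cokernel.condition (KFlat.Brutal.ι W (m + 1)))
  have hT₀ : T₀.ShortExact := KFlat.Brutal.shortExact W (m + 1)
  have h₁ : DRing.HasTorAmplitudeIn R (m + 1) (C + 1) (DRing.toD (KFlat.Brutal.geq W (m + 1))) := by
    refine ⟨_, fun i hi => ?_, fun i => ?_, ⟨Iso.refl _⟩⟩
    · by_cases h : m + 1 ≤ i
      · have := KFlat.Brutal.isIso_ι_f W (m + 1) h
        exact (hz i (Or.inr (by omega))).of_iso (asIso ((KFlat.Brutal.ι W (m + 1)).f i))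
      · exact KFlat.Brutal.isZero_geq W _ (by omega)
    · by_cases h : m + 1 ≤ i
      · have := KFlat.Brutal.isIso_ι_f W (m + 1) h
        haveI := hF i (by omega)
        exact Module.Flat.of_linearEquiv (asIso ((KFlat.Brutal.ι W (m + 1)).f i)).toLinearEquiv
      · haveI := ModuleCat.subsingleton_of_isZero
          (KFlat.Brutal.isZero_geq W (m + 1) (show i < m + 1 by omega))
        infer_instance
  have h₃ : DRing.HasTorAmplitudeIn R m C (DRing.toD (cokernel (KFlat.Brutal.ι W (m + 1)))) :=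
    ta_obj₃ (a := m) (b := C) _ (DerivedCategory.triangleOfSES_distinguished hT₀) h₁
      (ta_mono le_rfl (by omega) hT)
  have hzc : ∀ i, i ≠ m → IsZero ((cokernel (KFlat.Brutal.ι W (m + 1))).X i) := fun i hi => by
    by_cases h : m + 1 ≤ i
    · exact KFlat.Brutal.isZero_cokernel W _ h
    · have := KFlat.Brutal.isIso_cokernel_π W (m + 1) (show i < m + 1 by omega)
      exact (hz i (Or.inl (by omega))).of_iso
        (asIso ((cokernel.π (KFlat.Brutal.ι W (m + 1))).f i)).symm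
  haveI : (cokernel (KFlat.Brutal.ι W (m + 1))).IsStrictlyGE m :=
    (CochainComplex.isStrictlyGE_iff _ m).2 fun q hq => hzc q (by omega)
  haveI : (cokernel (KFlat.Brutal.ι W (m + 1))).IsStrictlyLE m :=
    (CochainComplex.isStrictlyLE_iff _ m).2 fun q hq => hzc q (by omega)
  obtain ⟨Y, ⟨eY⟩⟩ := CochainComplex.exists_iso_single (cokernel (KFlat.Brutal.ι W (m + 1))) m
  have := KFlat.Brutal.isIso_cokernel_π W (m + 1) (show m < m + 1 by omega)
  let eY' : W.X m ≅ Y := asIso ((cokernel.π (KFlat.Brutal.ι W (m + 1))).f m) ≪≫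
    (HomologicalComplex.eval (ModuleCat.{u} R) (ComplexShape.up ℤ) m).mapIso eY ≪≫
    HomologicalComplex.singleObjXSelf (ComplexShape.up ℤ) m Y
  haveI : Module.Flat R Y := flat_of_ta Y (ta_top (ta_of_shift (-m) (a' := m) (b' := C)
    (a := 0) (b := C - m) (by omega) (by omega)
    (ta_of_iso (DerivedCategory.Q.mapIso eY ≪≫ H4DR.PCoh.singleIso Y m) h₃)) fun i hi =>
      H4DR.PCoh.subsingleton_HD_inD Y i (by omega))
  exact Module.Flat.of_linearEquiv eY'.toLinearEquiv

variable {X : Scheme.{u}}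

/-- Perfectness spreads from a point. -/
theorem exists_hasPerfModel {G : CochainComplex X.Modules ℤ} {a b : ℤ} [G.IsStrictlyGE a]
    (hpc : DCoh.IsPseudoCoherentD (a - 1) (DCoh.toD X G)) (x : X)
    (hG : DerSch.HasTorAmplitudeAt (𝟙 X) a b G x) :
    ∃ (U : Scheme.{u}) (j : U ⟶ X) (_ : IsOpenImmersion j), x ∈ j.opensRange ∧
      HasPerfModel j (DCoh.toD X G) := by
  obtain ⟨V, hxV, P, α, hP, hα⟩ := (isPseudoCoherentD_iff _ _).1 hpc x
  let RG := (DCoh.restrictCx V).obj G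
  obtain ⟨W, π, hxW, hπ⟩ := exists_real hP (α ≫ ((rdQ V.ι).app G).hom) ⟨x, hxV⟩
  have hπ' : Approx (a - 1) (DerivedCategory.Q.map π) := hπ ▸ (Approx.of_isIso _ _).comp
    (((hα.comp (Approx.of_isIso _ _)).map_rd W.ι).comp (Approx.of_isIso _ _))
  let U : Scheme.{u} := (W : Scheme.{u})
  let P₀ : CochainComplex U.Modules ℤ := (DCoh.restrictCx W).obj P
  let G₀ : CochainComplex U.Modules ℤ := (DCoh.restrictCx W).obj RG
  have hP₀ : DCoh.IsStrictlyPerfect P₀ := isStrictlyPerfect_rd W.ι hP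
  haveI : G₀.IsStrictlyGE a := (CochainComplex.isStrictlyGE_iff _ _).2 fun i hi =>
    (Scheme.Modules.restrictFunctor W.ι).map_isZero
      ((Scheme.Modules.restrictFunctor V.ι).map_isZero (G.isZero_of_isStrictlyGE a i hi))
  obtain ⟨β, hβ, -⟩ := exists_factor_truncGE P₀ a π fun i hi =>
    (NatIso.isIso_map_iff (DerivedCategory.homologyFunctorFactors U.Modules i) _).1
      (hπ'.1 i (by omega))
  haveI : IsIso (DerivedCategory.Q.map β) := isIso_Q_map _ hβ
  let w : U := ⟨⟨x, hxV⟩, hxW⟩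
  let T := P₀.truncGE a
  have h1 : DerSch.HasTorAmplitudeAt (W.ι ≫ V.ι ≫ 𝟙 X) a b G₀ w :=
    (at_restrict W.ι (V.ι ≫ 𝟙 X) a b RG w).2 ((at_restrict V.ι (𝟙 X) a b G ⟨x, hxV⟩).2 hG)
  have h2 : DerSch.HasTorAmplitudeAt (𝟙 U) a b G₀ w :=
    at_cancel (𝟙 U) (W.ι ≫ V.ι)
      ((at_congr (p' := W.ι ≫ V.ι ≫ 𝟙 X) (by rw [Category.id_comp, Category.comp_id]) a b G₀ w).2 h1)
  have h3 : DRing.HasTorAmplitudeIn (U.presheaf.stalk w) a b (DRing.toD ((Sx w).obj T)) :=
    ta_of_bijective ((𝟙 U : U ⟶ U).stalkMap w).hom (ConcreteCategory.bijective_of_isIso ((𝟙 U : U ⟶ U).stalkMap w))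
      (ta_of_iso (stalkOverIso (𝟙 U) w (asIso (DerivedCategory.Q.map β))).symm h2)
  obtain ⟨⟨p, q, hpq⟩, hPf⟩ := hP₀
  have hTf : ∀ i, a < i → FlatMod.IsFinLocFree (T.X i) := fun i hi =>
    isFinLocFree_of_iso (P₀.truncGEXIso a i hi).symm (hPf i)
  have hTz : ∀ i, (i < a ∨ max (max a q) b < i) → IsZero (T.X i) := fun i hi => by
    rcases hi with hi | hi
    · exact T.isZero_of_isStrictlyGE a i hi
    · exact (hpq i (Or.inr (by omega))).of_iso (P₀.truncGEXIso a i (by omega))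
  haveI : Module.Flat (U.presheaf.stalk w) (((Sx w).obj T).X a) :=
    flat_bot_of_ta (n := b) (C := max (max a q) b) (by omega)
      (fun i hi => (DerSch.stalkFunctor U w).map_isZero (hTz i hi))
      (fun i hi => isFlat_of_isFinLocFree (hTf i hi) w) h3
  obtain ⟨W', hw, hfree⟩ := exists_isFinLocFree_nhd (isFP_truncGE ⟨⟨p, q, hpq⟩, hPf⟩ a) w
    (‹Module.Flat (U.presheaf.stalk w) (((Sx w).obj T).X a)›)
  let E := (DCoh.restrictCx W').obj T
  refine ⟨(W' : Scheme.{u}), W'.ι ≫ W.ι ≫ V.ι, inferInstance, ⟨⟨w, hw⟩, rfl⟩, E, ⟨⟨a, max (max a q) b,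
    fun i hi => (Scheme.Modules.restrictFunctor W'.ι).map_isZero (hTz i hi)⟩, fun i => ?_⟩, ⟨?_⟩⟩
  · rcases lt_trichotomy i a with hi | rfl | hi
    · exact isFinLocFree_of_isZero ((Scheme.Modules.restrictFunctor W'.ι).map_isZero
        (hTz i (Or.inl hi)))
    · exact hfree
    · exact isFinLocFree_of_iso ((Scheme.Modules.restrictFunctorIsoPullback W'.ι).app _).symm
        (isFinLocFree_pullback W'.ι (hTf i hi))
  · exact ((rdQ W'.ι).app T).symm ≪≫ (rd W'.ι).mapIso (asIso (DerivedCategory.Q.map β) ≪≫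
      ((rdQ W.ι).app RG).symm ≪≫ (rd W.ι).mapIso ((rdQ V.ι).app G).symm ≪≫
      (rdComp W.ι V.ι _ rfl _).symm) ≪≫ (rdComp W'.ι (W.ι ≫ V.ι) _ rfl _).symm

end Groth.Agent.H16Derived.TorTest
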