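import Groth.Agent.H16Derived.TorTest.StalkRestrict
import Groth.Agent.H16Derived.TorTest.QCohTest

/-!
# Absolute tor amplitude from the stalks
-/

set_option autoImplicit false
set_option linter.style.haveILetI false

universe u

open CategoryTheory CategoryTheory.Limits AlgebraicGeometry MonoidalCategory
open Groth.Agent.H16Derived
open Groth.Agent.H16Derived.KFlat Groth.Agent.H16Derived.KFlat.Stalk
open Groth.Agent.H4DR.TorAmp

attribute [local instance] HasDerivedCategory.standard

namespace Groth.Agent.H16Derived.TorTest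

open Groth.Agent.H4DR.KFlatMod (bi)

variable {X Y : Scheme.{u}}

/-- A bounded complex of modules flat over the base has bounded tor amplitude. -/
theorem hasTorAmplitude_of_flat (f : X ⟶ Y) {E : CochainComplex X.Modules ℤ} {a b : ℤ}
    (hE : DCoh.VanishesOutside E a b) (hf : ∀ i, FlatMod.IsFlatOver f (E.X i)) :
    DerSch.HasTorAmplitude f a b E := fun x =>
  ⟨(DerSch.stalkCxOver f x).obj E, fun i hi => (DerSch.stalkOver f x).map_isZero (hE i hi),
    fun i => hf i x, ⟨Iso.refl _⟩⟩

/-- The absolute derived-tensor form from the stalks. -/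
theorem hasTorAmplitudeIn_of_stalk {F : CochainComplex X.Modules ℤ} {a b : ℤ}
    (hF : DerSch.HasTorAmplitude (𝟙 X) a b F) : DCoh.HasTorAmplitudeIn a b (DCoh.toD X F) := by
  intro M _ i hi
  obtain ⟨P, -, hP, ⟨eP⟩⟩ := Dual.exists_rep (DCoh.toD X F)
  refine IsZero.of_iso ?_ ((DerivedCategory.homologyFunctor X.Modules i).mapIso
    ((DCoh.LTensorMod M).mapIso eP.symm) ≪≫ hdLTensorModIso M P hP i)
  refine (ShortComplex.exact_iff_isZero_homology _).1 ((exact_iff _).2 fun x => ?_)
  refine (ShortComplex.exact_iff_of_iso ((P.sc i).mapNatIso (tensorStalkIso x M))).2 ?_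
  have hk : KFlat.IsKFlat (bi (X.presheaf.stalk x)) ((Sx x).obj P) := by
    refine (H25DTen.isKFlat_iff _).1 ((isKFlat_iff_stalk P).1 ?_ x)
    exact fun L hL => KFlat.acyclic_of_iso
      (KFlat.totFlipIso (F := DCoh.tensorBi (X := X)) P L ≪≫ Dual.braidC P L) (hP L hL)
  have h : DRing.HasTorAmplitudeIn (X.presheaf.stalk x) a b (DRing.toD ((Sx x).obj P)) :=
    ta_of_bijective ((𝟙 X : X ⟶ X).stalkMap x).hom (ConcreteCategory.bijective_of_isIso ((𝟙 X : X ⟶ X).stalkMap x))
      (hasTorAmplitude_of_iso eP.symm hF x)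
  obtain ⟨Pp, c, hPp, ⟨e⟩, hex⟩ := tv_of_ta h
  obtain ⟨φ, hφ, -⟩ := exists_qis hPp e
  haveI := hφ
  exact (HomologicalComplex.exactAt_iff _ _).1
    ((exactAt_of_quasiIso _ (quasiIso_tens φ (isKFlat_of_flat hPp.above hPp.flat) hk
      ((DerSch.stalkFunctor X x).obj M)) i).1 (hex _ i hi))

end Groth.Agent.H16Derived.TorTest
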