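import Groth.Agent.H16Derived.TorTest.RpushAmp

/-!
# Tor amplitude of derived direct images: globalisation
-/

set_option autoImplicit false
set_option linter.style.haveILetI false

universe u

open CategoryTheory CategoryTheory.Limits AlgebraicGeometry
open Groth.Agent.H16Derived
open Groth.Agent.H16Derived.KFlat Groth.Agent.H16Derived.KFlat.Stalk
open Groth.Agent.H4DR.TorAmp

attribute [local instance] HasDerivedCategory.standard

namespace Groth.Agent.H16Derived.TorTest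

variable {X Y S : Scheme.{u}}

theorem at_congr {p p' : X ⟶ S} (h : p = p') (a b : ℤ) (F : CochainComplex X.Modules ℤ) (x : X) :
    DerSch.HasTorAmplitudeAt p a b F x ↔ DerSch.HasTorAmplitudeAt p' a b F x := by
  subst h; rfl

/-- Restriction of the source to an open. -/
theorem at_restrict (j : Y ⟶ X) [IsOpenImmersion j] (p : X ⟶ S) (a b : ℤ)
    (F : CochainComplex X.Modules ℤ) (y : Y) :
    DerSch.HasTorAmplitudeAt (j ≫ p) a b
        (((Scheme.Modules.restrictFunctor j).mapHomologicalComplex (ComplexShape.up ℤ)).obj F) y ↔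
      DerSch.HasTorAmplitudeAt p a b F (j.base y) :=
  let e := DerivedCategory.Q.mapIso (stalkOverCompIso j p y _ ≪≫
    (DTen.resCx (p.stalkMap (j.base y)).hom).mapIso (stalkRestrictIso j F y))
  ⟨fun h => ta_of_iso e h, fun h => ta_of_iso e.symm h⟩

/-- Restriction of the base to an open. -/
theorem at_cancel {U : Scheme.{u}} (g : X ⟶ U) (j : U ⟶ S) [IsOpenImmersion j] {a b : ℤ}
    {F : CochainComplex X.Modules ℤ} {x : X} (h : DerSch.HasTorAmplitudeAt (g ≫ j) a b F x) :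
    DerSch.HasTorAmplitudeAt g a b F x :=
  ta_of_bijective (j.stalkMap (g.base x)).hom (ConcreteCategory.bijective_of_isIso (j.stalkMap (g.base x)))
    (ta_of_iso (DerivedCategory.Q.mapIso (stalkOverCompIso g j x _)) h)

/-- Tor amplitude in an open of the base. -/
theorem at_comp {U : Scheme.{u}} (g : X ⟶ U) (j : U ⟶ S) [IsOpenImmersion j] {a b : ℤ}
    {F : CochainComplex X.Modules ℤ} {x : X} (h : DerSch.HasTorAmplitudeAt g a b F x) :
    DerSch.HasTorAmplitudeAt (g ≫ j) a b F x := by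
  obtain ⟨E, hE, hf, ⟨e⟩⟩ := h
  letI : Algebra (S.presheaf.stalk (j.base (g.base x))) (U.presheaf.stalk (g.base x)) := (j.stalkMap (g.base x)).hom.toAlgebra
  have hB : DRing.HasTorAmplitudeIn (S.presheaf.stalk (j.base (g.base x))) (-((0 : ℕ) : ℤ)) 0
      (Dual.inD (S.presheaf.stalk (j.base (g.base x))) (U.presheaf.stalk (g.base x))) := by
    refine (ta_inD_iff 0 (ModuleCat.of _ _)).2 (H8Props.PseudoCoh.hasTorDimLE_zero_iff.2 ?_)
    exact RingHom.Flat.of_bijective (f := (j.stalkMap (g.base x)).hom)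
      (ConcreteCategory.bijective_of_isIso (j.stalkMap (g.base x)))
  have h' := ta_restrict hB ⟨E, hE, hf, ⟨e⟩⟩
  rw [Nat.cast_zero, sub_zero] at h'
  exact ta_of_iso ((DTen.resFactors (j.stalkMap (g.base x)).hom).app _ ≪≫
    DerivedCategory.Q.mapIso (stalkOverCompIso g j x F).symm) h'

theorem at_mono {p : X ⟶ S} {a b a' b' : ℤ} (ha : a' ≤ a) (hb : b ≤ b') {F : CochainComplex X.Modules ℤ} {x : X}
    (h : DerSch.HasTorAmplitudeAt p a b F x) : DerSch.HasTorAmplitudeAt p a' b' F x := ta_mono ha hb h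

variable (p : X ⟶ S) (q : Y ⟶ S) (f : X ⟶ Y) [QuasiCompact f] [QuasiSeparated f] [DCoh.HasRpush f]
  (F : CochainComplex X.Modules ℤ)

/-- The local statement: near `y`, with a bound of the cohomological dimension of an affine open. -/
theorem exists_nbhd (w : f ≫ q = p) (hqc : DCoh.IsQCohD (DCoh.toD X F)) (y : Y) :
    ∃ W : Y.Opens, y ∈ W ∧ IsAffineOpen W ∧ ∀ a b : ℤ, (∀ x : X, f.base x ∈ W → DerSch.HasTorAmplitudeAt p a b F x) →
      ∃ N : ℕ, ∀ (K : CochainComplex Y.Modules ℤ), Nonempty (DCoh.toD Y K ≅ (DCoh.Rpush f).obj (DCoh.toD X F)) →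
        ∀ y' : Y, y' ∈ W → DerSch.HasTorAmplitudeAt q a (b + N) K y' := by
  obtain ⟨_, ⟨(U : S.Opens), hU, rfl⟩, hsU, -⟩ :=
    S.isBasis_affineOpens.exists_subset_of_mem_open (Set.mem_univ (q.base y)) isOpen_univ
  obtain ⟨_, ⟨(W : Y.Opens), hW, rfl⟩, hyW, hWU⟩ :=
    Y.isBasis_affineOpens.exists_subset_of_mem_open (show y ∈ ((q ⁻¹ᵁ U : Y.Opens) : Set Y) from hsU) (q ⁻¹ᵁ U).2
  have hWU' : W ≤ q ⁻¹ᵁ U := hWU
  refine ⟨W, hyW, hW, fun a b hab => ?_⟩
  haveI : IsAffine (U : Scheme.{u}) := hU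
  haveI : IsAffine (W : Scheme.{u}) := hW
  haveI := QCohD.hasRpush (f ∣_ W)
  obtain ⟨N, hN⟩ := QCohD.exists_bound (f ∣_ W)
  refine ⟨N, fun K ⟨eK⟩ y' hy' => ?_⟩
  obtain ⟨e⟩ := nonempty_restrictD_rpush_iso f W
  let q' := q.resLE U W hWU'
  let F' := (DCoh.restrictCx (f ⁻¹ᵁ W)).obj F
  have hF' : DerSch.HasTorAmplitude (f ∣_ W ≫ q') a b F' := fun x => by
    refine at_cancel _ U.ι ((at_congr (p' := (f ⁻¹ᵁ W).ι ≫ p) ?_ a b F' x).2 ?_)
    · rw [Category.assoc, Scheme.Hom.resLE_comp_ι, morphismRestrict_ι_assoc, w]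
    · exact (at_restrict (f ⁻¹ᵁ W).ι p a b F x).2 (hab _ x.2)
  let eF : DCoh.toD _ F' ≅ (DCoh.restrictD (f ⁻¹ᵁ W).ι).obj (DCoh.toD X F) :=
    ((rdQ (f ⁻¹ᵁ W).ι).app F).symm
  have hqc' : DCoh.IsQCohD (DCoh.toD _ F') := QCohD.isQCohD_iso eF.symm (QCohD.isQCohD_rd _ hqc)
  have h := hasTorAmplitudeD_rpush (f ∣_ W) q' hN F' hqc' hF' ((DCoh.restrictCx W).obj K)
    ⟨((rdQ W.ι).app K).symm ≪≫ (rd W.ι).mapIso eK ≪≫ e.app _ ≪≫ (DCoh.Rpush (f ∣_ W)).mapIso eF.symm⟩
    ⟨y', hy'⟩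
  exact (at_restrict W.ι q a (b + N) K ⟨y', hy'⟩).1
    ((at_congr (Scheme.Hom.resLE_comp_ι q hWU') a (b + N) _ _).1 (at_comp q' U.ι h))

omit [QuasiCompact f] [QuasiSeparated f] in
/-- Exactness of stalk complexes over the base from vanishing of cohomology. -/
theorem subsingleton_stalk_hd (K : CochainComplex Y.Modules ℤ) (i : ℤ)
    (h : IsZero (DCoh.HD (DCoh.toD Y K) i)) (y : Y) :
    Subsingleton (Dual.HD (S.presheaf.stalk (q.base y)) (DRing.toD ((DerSch.stalkCxOver q y).obj K)) i) := by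
  refine ModuleCat.subsingleton_of_isZero (IsZero.of_iso ?_
    ((DerivedCategory.homologyFunctorFactors _ i).app _))
  refine ((exactAt_res_iff (q.stalkMap y).hom ((Sx y).obj K) i).2 ((HomologicalComplex.exactAt_iff _ _).2
    ((exact_iff _).1 ((ShortComplex.exact_iff_isZero_homology _).2
      (h.of_iso ((DerivedCategory.homologyFunctorFactors Y.Modules i).app K).symm)) y))).isZero_homology

/-- With a given bound on the cohomological dimension. -/
theorem hasTorAmplitudeD_rpush_bound (w : f ≫ q = p) (hqc : DCoh.IsQCohD (DCoh.toD X F)) (N : ℕ)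
    (hN : ∀ M : X.Modules, Coh.IsQCoh M → ∀ i : ℤ, (N : ℤ) < i →
      IsZero (DCoh.HD ((DCoh.Rpush f).obj (DCoh.inD X M)) i))
    {a b : ℤ} (hF : DerSch.HasTorAmplitude p a b F) :
    DerSch.HasTorAmplitudeD q a (b + N) ((DCoh.Rpush f).obj (DCoh.toD X F)) := by
  intro K ⟨eK⟩ y
  obtain ⟨W, hy, -, hW⟩ := exists_nbhd p q f F w hqc y
  obtain ⟨N', hN'⟩ := hW a b fun x _ => hF x
  haveI := (bounds_of_ta p hF).2
  haveI := QCohD.hasInjectiveResolutions_modules (X := X)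
  have hB : QCohD.Bound f (N + 1) := fun M hM _ i hi => by
    obtain ⟨e⟩ := QCohD.nonempty_hd_rpush_single f M i
    exact (hN M hM i (by omega)).of_iso e.symm
  refine ta_top (hN' K ⟨eK⟩ y hy) fun i hi => subsingleton_stalk_hd q K i ?_ y
  exact (QCohD.isZero_rpush_of_isLE f hB _ hqc b i (by omega)).of_iso
    ((DerivedCategory.homologyFunctor Y.Modules i).mapIso eK)

omit [QuasiCompact f] [QuasiSeparated f] in
/-- One interval on a quasi-compact set. -/
theorem exists_interval {T : Set X} (hT : IsCompact T) (hF : DerSch.LocFiniteTorAmplitude p F) :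
    ∃ a b : ℤ, ∀ x ∈ T, DerSch.HasTorAmplitudeAt p a b F x := by
  choose V a b hV h using hF
  obtain ⟨s, hs⟩ := hT.elim_finite_subcover (fun x : X => (V x : Set X)) (fun x => (V x).2)
    fun x _ => Set.mem_iUnion.2 ⟨x, hV x⟩
  obtain ⟨a₀, ha₀⟩ := (s.image a).bddBelow
  obtain ⟨b₀, hb₀⟩ := (s.image b).bddAbove
  refine ⟨a₀, b₀, fun x hx => ?_⟩
  obtain ⟨i, hi, hxi⟩ := Set.mem_iUnion₂.1 (hs hx)
  exact at_mono (ha₀ (Finset.mem_coe.2 (Finset.mem_image_of_mem a hi)))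
    (hb₀ (Finset.mem_coe.2 (Finset.mem_image_of_mem b hi))) (h i x hxi)

/-- Local finiteness. -/
theorem locFiniteTorAmplitudeD_rpush (w : f ≫ q = p) (hqc : DCoh.IsQCohD (DCoh.toD X F))
    (hF : DerSch.LocFiniteTorAmplitude p F) :
    DerSch.LocFiniteTorAmplitudeD q ((DCoh.Rpush f).obj (DCoh.toD X F)) := by
  intro K hK y
  obtain ⟨W, hy, hWa, hW⟩ := exists_nbhd p q f F w hqc y
  obtain ⟨a, b, hab⟩ := exists_interval p F (T := (f ⁻¹ᵁ W : Set X))
    (QuasiCompact.isCompact_preimage (f := f) W W.2 hWa.isCompact) hF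
  obtain ⟨N, hN⟩ := hW a b fun x hx => hab x hx
  exact ⟨W, a, b + N, hy, hN K hK⟩

end Groth.Agent.H16Derived.TorTest
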