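import Groth.Agent.H16Derived.TorTest.PushStalkAmp
import Groth.Agent.H16Derived.TorTest.PerfSpread
import Groth.Agent.H06EGA9.StructureStalk
import Groth.Agent.S6200

/-!
# Locally finite tor dimension in the stalkwise and in the absolute form
-/

set_option autoImplicit false
set_option linter.style.haveILetI false
set_option backward.isDefEq.respectTransparency false

universe u

open CategoryTheory CategoryTheory.Limits AlgebraicGeometry
open Groth.Agent.H16Derived
open Groth.Agent.H16Derived.KFlat Groth.Agent.H16Derived.KFlat.Stalk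
open Groth.Agent.H4DR.TorAmp

attribute [local instance] HasDerivedCategory.standard

namespace Groth.Agent.H16Derived.TorTest

variable {X Y S : Scheme.{u}}

/-- Finite tor amplitude of the structure sheaf bounds the tor dimension of the stalk. -/
theorem exists_torDim_of_at_unit (g : Y ⟶ S) {a b : ℤ} {y : Y}
    (hg : DerSch.HasTorAmplitudeAt g a b (DerSch.unitCx Y) y) :
    letI := (g.stalkMap y).hom.toAlgebra
    DRing.HasTorDimLE ↑(S.presheaf.stalk (g y)) (-a).toNat ↑(Y.presheaf.stalk y) := by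
  letI := H06Mod.stalkAlgebra g y
  let l : ModuleCat.of (Y.presheaf.stalk y) (Y.presheaf.stalk y) ≅
      (DerSch.stalkFunctor Y y).obj (Coh.structureModule Y) :=
    (LinearEquiv.ofBijective (LinearMap.toSpanSingleton (Y.presheaf.stalk y) _ (H06EGA9.oneStalk y))
      (H06EGA9.bijective_smul_oneStalk y)).toModuleIso
  let o : ModuleCat.of (S.presheaf.stalk (g.base y)) (Y.presheaf.stalk y) ≅
      (ModuleCat.restrictScalars (g.stalkMap y).hom).obj (ModuleCat.of (Y.presheaf.stalk y) (Y.presheaf.stalk y)) :=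
    (AddEquiv.toLinearEquiv (AddEquiv.refl _) (fun r a => rfl) :
      (ModuleCat.of (S.presheaf.stalk (g.base y)) (Y.presheaf.stalk y)) ≃ₗ[S.presheaf.stalk (g.base y)]
        (ModuleCat.restrictScalars (g.stalkMap y).hom).obj (ModuleCat.of (Y.presheaf.stalk y) (Y.presheaf.stalk y))).toModuleIso
  let e := DerivedCategory.Q.mapIso ((HomologicalComplex.singleMapHomologicalComplex
      (DerSch.stalkOver g y) (ComplexShape.up ℤ) 0).app (Coh.structureModule Y)) ≪≫
    ((DerivedCategory.singleFunctorIsoCompQ (ModuleCat.{u} (S.presheaf.stalk (g.base y))) 0).app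
      ((DerSch.stalkOver g y).obj (Coh.structureModule Y))).symm ≪≫
    (DerivedCategory.singleFunctor _ 0).mapIso
      ((ModuleCat.restrictScalars (g.stalkMap y).hom).mapIso l.symm ≪≫ o.symm)
  have h1 : DRing.HasTorAmplitudeIn (S.presheaf.stalk (g.base y)) (-((-a).toNat : ℤ)) (max b 0)
      (Dual.inD (S.presheaf.stalk (g.base y)) (Y.presheaf.stalk y)) :=
    ta_of_iso e (ta_mono (by omega) (le_max_left b 0) hg)
  exact (ta_inD_iff (-a).toNat (ModuleCat.of _ _)).1
    (ta_top h1 fun i hi => H4DR.PCoh.subsingleton_HD_inD (ModuleCat.of _ _) i (by omega))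

/-- Composition with a morphism locally of finite tor dimension. -/
theorem locFiniteTorAmplitude_comp (f : X ⟶ Y) (g : Y ⟶ S) {F : CochainComplex X.Modules ℤ}
    (hF : DerSch.LocFiniteTorAmplitude f F) (hg : DerSch.LocFiniteTorDim g) :
    DerSch.LocFiniteTorAmplitude (f ≫ g) F := fun x => by
  obtain ⟨U, a, b, hx, hU⟩ := hF x
  obtain ⟨V, c, d, hy, hV⟩ := hg (f.base x)
  exact ⟨U ⊓ f ⁻¹ᵁ V, a - ((-c).toNat : ℤ), b, ⟨hx, hy⟩, fun x' hx' =>
    at_comp_torDim f g (hU x' hx'.1) (exists_torDim_of_at_unit g (hV (f.base x') hx'.2))⟩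

/-- Absolute finite tor dimension gives the stalkwise form. -/
theorem locFiniteTorAmplitude_id_of_locHasFiniteTorDim {F : CochainComplex X.Modules ℤ}
    (hF : DCoh.LocHasFiniteTorDim (DCoh.toD X F)) : DerSch.LocFiniteTorAmplitude (𝟙 X) F := fun x => by
  obtain ⟨V, a, b, hx, h⟩ := hF x
  obtain ⟨E, hv, hf, ⟨e⟩⟩ := h F ⟨Iso.refl _⟩
  refine ⟨V, a, b, hx, fun x' hx' => ?_⟩
  have h1 := hasTorAmplitude_of_iso e
    (hasTorAmplitude_of_flat (𝟙 (V : Scheme.{u})) hv fun i => isFlatOver_id (hf i))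
  exact (at_restrict V.ι (𝟙 X) a b F ⟨x', hx'⟩).1
    ((at_congr (p' := V.ι ≫ 𝟙 X) (by rw [Category.id_comp, Category.comp_id]) a b _ _).1
      (at_comp (𝟙 (V : Scheme.{u})) V.ι (h1 ⟨x', hx'⟩)))

/-- The stalkwise form gives absolute finite tor dimension. -/
theorem locHasFiniteTorDim_of_locFiniteTorAmplitudeD {K : DCoh.D X}
    (hK : DerSch.LocFiniteTorAmplitudeD (𝟙 X) K) : DCoh.LocHasFiniteTorDim K := fun x => by
  let F := DerivedCategory.Q.objPreimage K
  let eF : DCoh.toD X F ≅ K := DerivedCategory.Q.objObjPreimageIso K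
  obtain ⟨V, a, b, hx, h⟩ := hK F ⟨eF⟩ x
  have h' : DerSch.HasTorAmplitude (𝟙 (V : Scheme.{u})) a b ((DCoh.restrictCx V).obj F) := fun w => by
    refine at_cancel (𝟙 _) V.ι ((at_congr (p' := V.ι ≫ 𝟙 X) ?_ a b _ w).2
      ((at_restrict V.ι (𝟙 X) a b F w).2 (h w.1 w.2)))
    rw [Category.id_comp, Category.comp_id]
  haveI := (bounds_of_ta _ h').2
  obtain ⟨E, h1, h2, ⟨e⟩⟩ := (S6200.result ((DCoh.restrictCx V).obj F) b a b).2 h'
  exact ⟨V, a, b, hx, fun F' hF' => ⟨E, h1, h2, ⟨e ≪≫ ((rdQ V.ι).app F).symm ≪≫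
    (rd V.ι).mapIso (eF ≪≫ hF'.some.symm) ≪≫ (rdQ V.ι).app F'⟩⟩⟩

end Groth.Agent.H16Derived.TorTest
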