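import Groth.Prelude.Def_KSix
import Groth.Agent.H16Derived.TorTest.PerfSpread
import Groth.Agent.H16Derived.TorTest.TorDimLoc
import Groth.Agent.H16Derived.KFlat.PerfCoh
import Groth.Agent.S6200

/-!
# Perfect amplitude from pseudo-coherence and tor amplitude
-/

set_option autoImplicit false
set_option linter.style.haveILetI false

universe u

open CategoryTheory CategoryTheory.Limits AlgebraicGeometry
open Groth.Agent.H16Derived
open Groth.Agent.H16Derived.KFlat Groth.Agent.H16Derived.KFlat.Stalk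
open Groth.Agent.H4DR.TorAmp

attribute [local instance] HasDerivedCategory.standard

namespace Groth.Agent.H16Derived.TorTest

variable {X : Scheme.{u}}

/-- Perfectness spreads from a point, keeping the lower bound. -/
theorem exists_hasPerfModel_ge {G : CochainComplex X.Modules ℤ} {a b : ℤ} [G.IsStrictlyGE a]
    (hpc : DCoh.IsPseudoCoherentD (a - 1) (DCoh.toD X G)) (x : X)
    (hG : DerSch.HasTorAmplitudeAt (𝟙 X) a b G x) :
    ∃ (U : Scheme.{u}) (j : U ⟶ X) (_ : IsOpenImmersion j), x ∈ j.opensRange ∧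
      ∃ (E : CochainComplex U.Modules ℤ), (∀ i, i < a → IsZero (E.X i)) ∧ DCoh.IsStrictlyPerfect E ∧
        Nonempty (DerivedCategory.Q.obj E ≅ (rd j).obj (DCoh.toD X G)) := by
  obtain ⟨V, hxV, P, α, hP, hα⟩ := (isPseudoCoherentD_iff _ _).1 hpc x
  let RG := (DCoh.restrictCx V).obj G
  obtain ⟨W, π, hxW, hπ⟩ := exists_real hP (α ≫ ((rdQ V.ι).app G).hom) ⟨x, hxV⟩
  have hπ' : Approx (a - 1) (DerivedCategory.Q.map π) := hπ ▸ (Approx.of_isIso _ _).comp
    (((hα.comp (Approx.of_isIso _ _)).map_rd W.ι).comp (Approx.of_isIso _ _))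
  let U : Scheme.{u} := (W : Scheme.{u})
  let P₀ : CochainComplex U.Modules ℤ := (DCoh.restrictCx W).obj P
  let G₀ : CochainComplex U.Modules ℤ := (DCoh.restrictCx W).obj RG
  have hP₀ : DCoh.IsStrictlyPerfect P₀ := isStrictlyPerfect_rd W.ι hP
  haveI : G₀.IsStrictlyGE a := (CochainComplex.isStrictlyGE_iff _ _).2 fun i hi =>
    (Scheme.Modules.restrictFunctor W.ι).map_isZero
      ((Scheme.Modules.restrictFunctor V.ι).map_isZero (G.isZero_of_isStrictlyGE a i hi))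
  obtain ⟨β, hβ, -⟩ := exists_factor_truncGE P₀ a π fun i hi =>
    (NatIso.isIso_map_iff (DerivedCategory.homologyFunctorFactors U.Modules i) _).1
      (hπ'.1 i (by omega))
  haveI : IsIso (DerivedCategory.Q.map β) := isIso_Q_map _ hβ
  let w : U := ⟨⟨x, hxV⟩, hxW⟩
  let T := P₀.truncGE a
  have h1 : DerSch.HasTorAmplitudeAt (W.ι ≫ V.ι ≫ 𝟙 X) a b G₀ w :=
    (at_restrict W.ι (V.ι ≫ 𝟙 X) a b RG w).2 ((at_restrict V.ι (𝟙 X) a b G ⟨x, hxV⟩).2 hG)
  have h2 : DerSch.HasTorAmplitudeAt (𝟙 U) a b G₀ w :=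
    at_cancel (𝟙 U) (W.ι ≫ V.ι)
      ((at_congr (p' := W.ι ≫ V.ι ≫ 𝟙 X) (by rw [Category.id_comp, Category.comp_id]) a b G₀ w).2 h1)
  have h3 : DRing.HasTorAmplitudeIn (U.presheaf.stalk w) a b (DRing.toD ((Sx w).obj T)) :=
    ta_of_bijective ((𝟙 U : U ⟶ U).stalkMap w).hom (ConcreteCategory.bijective_of_isIso ((𝟙 U : U ⟶ U).stalkMap w))
      (ta_of_iso (stalkOverIso (𝟙 U) w (asIso (DerivedCategory.Q.map β))).symm h2)
  obtain ⟨⟨p, q, hpq⟩, hPf⟩ := hP₀
  have hTf : ∀ i, a < i → FlatMod.IsFinLocFree (T.X i) := fun i hi =>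
    isFinLocFree_of_iso (P₀.truncGEXIso a i hi).symm (hPf i)
  have hTz : ∀ i, (i < a ∨ max (max a q) b < i) → IsZero (T.X i) := fun i hi => by
    rcases hi with hi | hi
    · exact T.isZero_of_isStrictlyGE a i hi
    · exact (hpq i (Or.inr (by omega))).of_iso (P₀.truncGEXIso a i (by omega))
  haveI : Module.Flat (U.presheaf.stalk w) (((Sx w).obj T).X a) :=
    flat_bot_of_ta (n := b) (C := max (max a q) b) (by omega)
      (fun i hi => (DerSch.stalkFunctor U w).map_isZero (hTz i hi))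
      (fun i hi => isFlat_of_isFinLocFree (hTf i hi) w) h3
  obtain ⟨W', hw, hfree⟩ := exists_isFinLocFree_nhd (isFP_truncGE ⟨⟨p, q, hpq⟩, hPf⟩ a) w
    (‹Module.Flat (U.presheaf.stalk w) (((Sx w).obj T).X a)›)
  let E := (DCoh.restrictCx W').obj T
  refine ⟨(W' : Scheme.{u}), W'.ι ≫ W.ι ≫ V.ι, inferInstance, ⟨⟨w, hw⟩, rfl⟩, E,
    fun i hi => (Scheme.Modules.restrictFunctor W'.ι).map_isZero (hTz i (Or.inl hi)), ⟨⟨a, max (max a q) b,
    fun i hi => (Scheme.Modules.restrictFunctor W'.ι).map_isZero (hTz i hi)⟩, fun i => ?_⟩, ⟨?_⟩⟩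
  · rcases lt_trichotomy i a with hi | rfl | hi
    · exact isFinLocFree_of_isZero ((Scheme.Modules.restrictFunctor W'.ι).map_isZero
        (hTz i (Or.inl hi)))
    · exact hfree
    · exact isFinLocFree_of_iso ((Scheme.Modules.restrictFunctorIsoPullback W'.ι).app _).symm
        (isFinLocFree_pullback W'.ι (hTf i hi))
  · exact ((rdQ W'.ι).app T).symm ≪≫ (rd W'.ι).mapIso (asIso (DerivedCategory.Q.map β) ≪≫
      ((rdQ W.ι).app RG).symm ≪≫ (rd W.ι).mapIso ((rdQ V.ι).app G).symm ≪≫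
      (rdComp W.ι V.ι _ rfl _).symm) ≪≫ (rdComp W'.ι (W.ι ≫ V.ι) _ rfl _).symm

/-- Cutting a strictly perfect complex above its cohomology. -/
theorem isStrictlyPerfect_truncLE {D : CochainComplex X.Modules ℤ} (hD : DCoh.IsStrictlyPerfect D) {a n : ℤ}
    (hlo : ∀ i, i < a → IsZero (D.X i)) (hex : ∀ i, n < i → IsZero (D.homology i)) :
    DCoh.VanishesOutside (D.truncLE n) a n ∧ ∀ i, FlatMod.IsFinLocFree ((D.truncLE n).X i) := by
  refine ⟨fun i hi => ?_, fun i => ?_⟩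
  · rcases lt_or_ge n i with h | h
    · exact (D.truncLE n).isZero_of_isStrictlyLE n i h
    · have hia : i < a := hi.resolve_right (by omega)
      rcases h.lt_or_eq with h' | rfl
      · exact (hlo i hia).of_iso (D.truncLEXIso n i h')
      · exact (IsZero.of_mono (D.iCycles i) (hlo i hia)).of_iso (D.truncLEXIsoCycles i)
  · rcases lt_trichotomy i n with h | rfl | h
    · exact isFinLocFree_of_iso (D.truncLEXIso n i h).symm (hD.2 i)
    · exact isFinLocFree_of_iso (D.truncLEXIsoCycles i).symm (isFinLocFree_cycles hD i hex i le_rfl)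
    · exact isFinLocFree_of_isZero ((D.truncLE n).isZero_of_isStrictlyLE n i h)

/-- **Perfect amplitude from pseudo-coherence and stalkwise tor amplitude.** -/
theorem hasPerfectAmplitudeIn_of_at {K : DCoh.D X} {F : CochainComplex X.Modules ℤ} (eF : DCoh.toD X F ≅ K)
    {a b : ℤ} (hpc : DCoh.IsPseudoCoherentD (a - 1) K) (hF : DerSch.HasTorAmplitude (𝟙 X) a b F) :
    KSix.HasPerfectAmplitudeIn a b K := fun x => by
  obtain ⟨hb1, hb2⟩ := bounds_of_ta (𝟙 X) hF
  haveI : F.IsGE a := (DerivedCategory.isGE_Q_obj_iff F a).1 hb1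
  haveI : IsIso (DerivedCategory.Q.map (CochainComplex.πTruncGE F a)) :=
    isIso_Q_map _ (inferInstance : QuasiIso (CochainComplex.πTruncGE F a))
  let e : K ≅ DCoh.toD X (F.truncGE a) :=
    eF.symm ≪≫ asIso (DerivedCategory.Q.map (CochainComplex.πTruncGE F a))
  obtain ⟨U, j, hj, hx, E, hlo, hE, ⟨θ⟩⟩ := exists_hasPerfModel_ge (isPseudoCoherentD_of_iso e hpc) x
    (hasTorAmplitude_of_iso (asIso (DerivedCategory.Q.map (CochainComplex.πTruncGE F a))) hF x)
  let k := j.isoOpensRange.inv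
  let E₁ : CochainComplex (j.opensRange : Scheme.{u}).Modules ℤ := ((Scheme.Modules.restrictFunctor k).mapHomologicalComplex (ComplexShape.up ℤ)).obj E
  have hE₁ : DCoh.IsStrictlyPerfect E₁ := isStrictlyPerfect_rd k hE
  let α : DerivedCategory.Q.obj E₁ ≅ (rd j.opensRange.ι).obj K :=
    (rdQ k).symm.app E ≪≫ (rd k).mapIso (θ ≪≫ (rd j).mapIso e.symm) ≪≫
      (rdComp k j j.opensRange.ι j.isoOpensRange_inv_comp K).symm
  haveI : K.IsLE b := DerivedCategory.TStructure.t.isLE_of_iso eF b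
  haveI := isLE_rd j.opensRange.ι K b
  haveI : (DerivedCategory.Q.obj E₁).IsLE b := DerivedCategory.TStructure.t.isLE_of_iso α.symm b
  haveI hLE : E₁.IsLE b := (DerivedCategory.isLE_Q_obj_iff E₁ b).1 inferInstance
  have hex : ∀ i, b < i → IsZero (E₁.homology i) := fun i hi =>
    (E₁.exactAt_of_isLE b i hi).isZero_homology
  obtain ⟨hv, hfree⟩ := isStrictlyPerfect_truncLE hE₁
    (fun i hi => (Scheme.Modules.restrictFunctor k).map_isZero (hlo i hi)) hex
  haveI : QuasiIso (E₁.ιTruncLE b) := (E₁.quasiIso_ιTruncLE_iff b).2 hLE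
  haveI := isIso_Q_map _ (inferInstance : QuasiIso (E₁.ιTruncLE b))
  exact ⟨j.opensRange, hx, fun G ⟨eG⟩ => ⟨E₁.truncLE b, hv, hfree,
    ⟨(rdQ j.opensRange.ι).symm.app G ≪≫ (rd j.opensRange.ι).mapIso eG ≪≫ α.symm ≪≫
      (asIso (DerivedCategory.Q.map (E₁.ιTruncLE b))).symm⟩⟩⟩

/-- Perfect amplitude gives stalkwise tor amplitude. -/
theorem hasTorAmplitude_of_hasPerfectAmplitudeIn {F : CochainComplex X.Modules ℤ} {a b : ℤ}
    (h : KSix.HasPerfectAmplitudeIn a b (DCoh.toD X F)) : DerSch.HasTorAmplitude (𝟙 X) a b F := fun x => by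
  obtain ⟨V, hx, hV⟩ := h x
  obtain ⟨C, h1, h2, ⟨e⟩⟩ := hV F ⟨Iso.refl _⟩
  have h3 := hasTorAmplitude_of_iso e.symm
    (hasTorAmplitude_of_flat (𝟙 (V : Scheme.{u})) h1 fun j => isFlatOver_id (isFlat_of_isFinLocFree (h2 j))) ⟨x, hx⟩
  exact (at_restrict V.ι (𝟙 X) a b F ⟨x, hx⟩).1
    ((at_congr (p' := V.ι ≫ 𝟙 X) (by rw [Category.id_comp, Category.comp_id]) a b _ _).1
      (at_comp (𝟙 (V : Scheme.{u})) V.ι h3))

/-- Perfect amplitude gives perfection. -/
theorem isPerfect_of_hasPerfectAmplitudeIn {K : DCoh.D X} {a b : ℤ}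
    (h : KSix.HasPerfectAmplitudeIn a b K) : DCoh.IsPerfect K := fun y => by
  obtain ⟨V, hy, hV⟩ := h y
  exact ⟨V, hy, fun G hG => by
    obtain ⟨C, h1, h2, h3⟩ := hV G hG
    exact ⟨C, ⟨⟨a, b, h1⟩, h2⟩, h3⟩⟩

end Groth.Agent.H16Derived.TorTest
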