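import Groth.Agent.H16Derived.TorTest.Ring
import Groth.Agent.H16Derived.KFlat.PullKFlat
import Groth.Agent.H16Derived.KFlat.SheafTri
import Groth.Agent.H16Derived.KFlat.TorAmp
import Groth.Agent.H16Derived.KFlat.LpullLocal
import Groth.Agent.H16Derived.Dual.Symm
import Groth.Prelude.Def_DerSch

/-!
# Stalkwise tor amplitude of `Lf^* G ⊗^L F`
-/

set_option autoImplicit false
set_option linter.style.haveILetI false

universe u

open CategoryTheory CategoryTheory.Limits AlgebraicGeometry MonoidalCategory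
open Groth.Agent.H16Derived
open Groth.Agent.H16Derived.KFlat Groth.Agent.H16Derived.KFlat.Stalk
open Groth.Agent.H4DR.TorAmp

attribute [local instance] HasDerivedCategory.standard
attribute [local instance] Groth.Agent.H06Mod.stalkAlgebra

namespace Groth.Agent.H16Derived.TorTest

open Groth.Agent.H4DR.KFlatMod (bi)

section Ring

variable {A C : Type u} [CommRing A] [CommRing C]

/-- Tensoring with a K-flat complex respects isomorphisms in the derived category. -/
theorem tensor_congr {E W K : DRing.Cx C} {b : ℤ} (hb : DRing.VanishesAbove E b)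
    (hK : KFlat.IsKFlat (bi C) K) (e : DRing.toD E ≅ DRing.toD W) :
    Nonempty (DRing.toD (E ⊗ K) ≅ DRing.toD (W ⊗ K)) := by
  obtain ⟨P, hP, ⟨e'⟩⟩ := exists_projRep (K := DRing.toD E) (c := b) fun i hi =>
    ModuleCat.subsingleton_of_isZero (((HomologicalComplex.exactAt_iff _ _).2
      (ShortComplex.exact_of_isZero_X₂ _ (hb i hi))).isZero_homology.of_iso
        ((DerivedCategory.homologyFunctorFactors (ModuleCat.{u} C) i).app E))
  obtain ⟨f, hf, -⟩ := exists_qis hP e'
  obtain ⟨g, hg, -⟩ := exists_qis hP (e' ≪≫ e)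
  have hf' := H25DTen.quasiIso_whiskerRight f (L := K) hK
  have hg' := H25DTen.quasiIso_whiskerRight g (L := K) hK
  exact ⟨(@asIso _ _ _ _ _ (H25DTen.isIso_Q_map (f ▷ K) hf')).symm ≪≫
    @asIso _ _ _ _ _ (H25DTen.isIso_Q_map (g ▷ K) hg')⟩

variable (φ : A →+* C)

/-- Restriction of scalars on isomorphisms of the derived category. -/
noncomputable def resQ {X Y : DRing.Cx C} (e : DRing.toD X ≅ DRing.toD Y) :
    DRing.toD ((DTen.resCx φ).obj X) ≅ DRing.toD ((DTen.resCx φ).obj Y) :=
  ((DTen.resFactors φ).app X).symm ≪≫ (DRing.restrictD φ).mapIso e ≪≫ (DTen.resFactors φ).app Y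

/-- The amplitude of `W ⊗_C K` over `A`. -/
theorem ta_tensor_kflat {W K : DRing.Cx C} {a b c d : ℤ}
    (hW : DRing.HasTorAmplitudeIn C a b (DRing.toD W)) (hK : KFlat.IsKFlat (bi C) K)
    (hG : DRing.HasTorAmplitudeIn A c d (DRing.toD ((DTen.resCx φ).obj K))) :
    DRing.HasTorAmplitudeIn A (a + c) (b + d) (DRing.toD ((DTen.resCx φ).obj (W ⊗ K))) := by
  obtain ⟨E, hE, hf, ⟨e⟩⟩ := hW
  obtain ⟨e'⟩ := tensor_congr (fun i hi => hE i (Or.inr hi)) hK e
  exact ta_of_iso (resQ φ e') (ta_res_tensor φ hE hf hG)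

end Ring

variable {X Y Z : Scheme.{u}}

/-- K-flatness of complexes of modules is symmetric. -/
theorem lkflat_of_kflat {E : CochainComplex X.Modules ℤ} (h : kflat X E) : lkflat X E := fun L hL =>
  KFlat.acyclic_of_iso (Dual.braidC L E ≪≫ (KFlat.totFlipIso (F := DCoh.tensorBi (X := X)) E L).symm) (h L hL)

/-- Stalks over the base respect isomorphisms in the derived category. -/
noncomputable def stalkOverIso (f : X ⟶ Y) (x : X) {F F' : CochainComplex X.Modules ℤ}
    (e : DCoh.toD X F ≅ DCoh.toD X F') :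
    DRing.toD ((DerSch.stalkCxOver f x).obj F) ≅ DRing.toD ((DerSch.stalkCxOver f x).obj F') :=
  haveI : PreservesFiniteLimits (DerSch.stalkOver f x) := comp_preservesFiniteLimits _ _
  haveI : PreservesFiniteColimits (DerSch.stalkOver f x) := comp_preservesFiniteColimits _ _
  (DerSch.stalkOver f x).mapDerivedCategoryFactors.symm.app F ≪≫
    (DerSch.stalkOver f x).mapDerivedCategory.mapIso e ≪≫
    (DerSch.stalkOver f x).mapDerivedCategoryFactors.app F'

/-- Tor amplitude over the base only depends on the object of the derived category. -/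
theorem hasTorAmplitude_of_iso {f : X ⟶ Y} {a b : ℤ} {F F' : CochainComplex X.Modules ℤ}
    (e : DCoh.toD X F ≅ DCoh.toD X F') (h : DerSch.HasTorAmplitude f a b F) :
    DerSch.HasTorAmplitude f a b F' := fun x => ta_of_iso (stalkOverIso f x e) (h x)

/-- The stalk of a complex of modules. -/
noncomputable abbrev Sx (x : X) :
    CochainComplex X.Modules ℤ ⥤ DRing.Cx (X.presheaf.stalk x) :=
  (DerSch.stalkFunctor X x).mapHomologicalComplex (ComplexShape.up ℤ)

/-- Stalks over a composition. -/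
noncomputable def stalkOverCompIso (f : X ⟶ Y) (g : Y ⟶ Z) (x : X) (F : CochainComplex X.Modules ℤ) :
    (DerSch.stalkCxOver (f ≫ g) x).obj F ≅
      (DTen.resCx (g.stalkMap (f.base x)).hom).obj ((DerSch.stalkCxOver f x).obj F) :=
  (NatIso.mapHomologicalComplex (Functor.isoWhiskerLeft (DerSch.stalkFunctor X x)
    (ModuleCat.restrictScalarsComp' (g.stalkMap (f.base x)).hom (f.stalkMap x).hom
      ((f ≫ g).stalkMap x).hom (by rw [Scheme.Hom.stalkMap_comp]; rfl))) (ComplexShape.up ℤ)).app F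

/-- The stalk over the base of `f^* K ⊗ F`. -/
noncomputable def stalkPullTensorIso (f : X ⟶ Y) (x : X) (K : CochainComplex Y.Modules ℤ)
    (F : CochainComplex X.Modules ℤ) :
    (DerSch.stalkCxOver f x).obj (((DCoh.tensorCx (X := X)).obj
        (((Scheme.Modules.pullback f).mapHomologicalComplex (ComplexShape.up ℤ)).obj K)).obj F) ≅
      (DerSch.stalkCxOver f x).obj F ⊗ (Sx (f.base x)).obj K :=
  (DTen.resCx (f.stalkMap x).hom).mapIso
      (Stalk.stalkTotIso x (((Scheme.Modules.pullback f).mapHomologicalComplex (ComplexShape.up ℤ)).obj K) F ≪≫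
        DTen.braidCx ((Sx x).obj (((Scheme.Modules.pullback f).mapHomologicalComplex (ComplexShape.up ℤ)).obj K))
          ((Sx x).obj F)) ≪≫
    bcIso ((Sx x).obj F) _ ((Sx (f.base x)).obj K)
      (fun q => H06Mod.pullStalkEquiv f (K.X q) x)
      (fun q t => (pullStalkLin_naturality f x (K.d q (q + 1)) t).symm)

/-- `Lf^* G ⊗^L F` has the sum of the amplitudes. -/
theorem hasTorAmplitudeD_tensor (f : X ⟶ Y) (g : Y ⟶ Z) [DCoh.HasLpull f]
    (F : CochainComplex X.Modules ℤ) [DCoh.HasLTensorCx F] {a b c d : ℤ}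
    (hF : DerSch.HasTorAmplitude f a b F) {G : CochainComplex Y.Modules ℤ}
    (hG : DerSch.HasTorAmplitude g c d G) :
    DerSch.HasTorAmplitudeD (f ≫ g) (a + c) (b + d)
      ((DCoh.LTensorCx F).obj ((DCoh.Lpull f).obj (DCoh.toD Y G))) := by
  obtain ⟨P, hP, ⟨eP⟩⟩ := exists_kflat_rep (DCoh.toD Y G)
  let Q := ((Scheme.Modules.pullback f).mapHomologicalComplex (ComplexShape.up ℤ)).obj P
  intro F₁ ⟨e₁⟩
  have e₂ : DCoh.toD X (((DCoh.tensorCx (X := X)).obj Q).obj F) ≅
      (DCoh.LTensorCx F).obj ((DCoh.Lpull f).obj (DCoh.toD Y G)) :=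
    ((ltensorCxIso F).app ⟨Q, lkflat_of_kflat (isKFlat_pullback f hP)⟩).symm ≪≫
      (DCoh.LTensorCx F).mapIso ((lpullObjIso f P hP).symm ≪≫ (DCoh.Lpull f).mapIso eP)
  refine hasTorAmplitude_of_iso (e₂ ≪≫ e₁.symm) fun x => ?_
  refine ta_of_iso (DerivedCategory.Q.mapIso (stalkOverCompIso f g x _ ≪≫
    (DTen.resCx (g.stalkMap (f.base x)).hom).mapIso (stalkPullTensorIso f x P F))).symm ?_
  exact ta_tensor_kflat (g.stalkMap (f.base x)).hom (hF x)
    ((H25DTen.isKFlat_iff _).1 ((isKFlat_iff_stalk P).1 hP (f.base x)))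
    (ta_of_iso (stalkOverIso g (f.base x) eP.symm) (hG (f.base x)))

end Groth.Agent.H16Derived.TorTest
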