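import Groth.Agent.H16Derived.Dual.PseudoCoh
import Groth.Agent.H16Derived.TorTest.PerfAmpIn
import Groth.Agent.H8Props.PushClosedBasic
import Groth.Agent.S0889

/-!
# Direct images of tensor products of pseudo-coherent objects along closed immersions
-/

set_option autoImplicit false
set_option linter.style.haveILetI false
set_option backward.isDefEq.respectTransparency false

universe u

open CategoryTheory CategoryTheory.Limits AlgebraicGeometry Pretriangulated
open Groth.Agent.H16Derived Groth.Agent.H16Derived.KFlat Groth.Agent.H16Derived.KFlat.Stalk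
open Groth.Agent.H16Derived.Dual Groth.Agent.H16Derived.QCohD Groth.Agent.H8Props.PushPC

attribute [local instance] HasDerivedCategory.standard

namespace Groth.Agent.H16Derived.TorTest

variable {Z X : Scheme.{u}}

/-- Bounds of the derived tensor product. -/
theorem isLE_T (L H : DCoh.D Z) (d b : ℤ) [L.IsLE d] [H.IsLE b] : (((T Z).obj L).obj H).IsLE (b + d) := by
  let K := DerivedCategory.Q.objPreimage L
  let eK : DCoh.toD Z K ≅ L := DerivedCategory.Q.objObjPreimageIso L
  haveI := hasLTensorCx K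
  haveI : (DCoh.toD Z K).IsLE d := DerivedCategory.TStructure.t.isLE_of_iso eK.symm d
  haveI := Thomason.isLE_ltensorCx K d (C := H) b
  exact DerivedCategory.TStructure.t.isLE_of_iso
    (((ltensorCxIsoT K).app H).symm ≪≫ ((T Z).obj H).mapIso eK ≪≫ σ H L) (b + d)

/-- Pseudo-coherence of a zero object. -/
theorem isPseudoCoherentD_of_isZero {K : DCoh.D X} (hK : IsZero K) (m : ℤ) : DCoh.IsPseudoCoherentD m K :=
  isPseudoCoherentD_of_isPerfect (Thomason.isPerfect_zero hK) m

/-- A pseudo-coherent approximation by a bounded complex of free modules. -/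
theorem exists_free_approx {H : DCoh.D Z} {a b : ℤ} (hab : a ≤ b) [H.IsLE b]
    (hH : DCoh.IsPseudoCoherentD a H) (z : Z) :
    ∃ (U : Scheme.{u}) (j : U ⟶ Z) (_ : IsOpenImmersion j) (E : CochainComplex U.Modules ℤ)
      (α : DerivedCategory.Q.obj E ⟶ (rd j).obj H), z ∈ j.opensRange ∧ DCoh.VanishesOutside E a b ∧
        (∀ q, ∃ n, Nonempty (E.X q ≅ FlatMod.freeMod U n)) ∧ Approx a α := by
  classical
  obtain ⟨V, hzV, P₀, α₀, hP₀, hα₀⟩ := (isPseudoCoherentD_iff _ _).1 hH z
  obtain ⟨P, ι, hP, hlo, hι⟩ := exists_trunc hP₀ a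
  have hα := hι.comp hα₀
  haveI := isLE_rd V.ι H b
  have hex : ∀ i, b < i → IsZero (P.homology i) := fun i hi => by
    haveI := hα.1 i (by omega)
    exact (DerivedCategory.isZero_of_isLE ((rd V.ι).obj H) b i hi).of_iso
      (((DerivedCategory.homologyFunctorFactors _ i).app P).symm ≪≫
        asIso ((DerivedCategory.homologyFunctor _ i).map (DerivedCategory.Q.map ι ≫ α₀)))
  obtain ⟨hv, hfree⟩ := isStrictlyPerfect_truncLE hP hlo hex
  haveI : P.IsLE b := (CochainComplex.isLE_iff P b).2 fun i hi =>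
    (HomologicalComplex.exactAt_iff_isZero_homology _ _).2 (hex i hi)
  haveI : QuasiIso (P.ιTruncLE b) := (P.quasiIso_ιTruncLE_iff b).2 inferInstance
  haveI := isIso_Q_map _ (inferInstance : QuasiIso (P.ιTruncLE b))
  choose W n hW eW using fun q => hfree q ⟨z, hzV⟩
  let G : (V : Scheme.{u}).Opens := (Finset.Icc a b).inf W
  let E := ((Scheme.Modules.restrictFunctor G.ι).mapHomologicalComplex (ComplexShape.up ℤ)).obj (P.truncLE b)
  refine ⟨(G : Scheme.{u}), G.ι ≫ V.ι, inferInstance, E,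
    (rdQ G.ι).inv.app _ ≫ (rd G.ι).map (DerivedCategory.Q.map (P.ιTruncLE b) ≫ DerivedCategory.Q.map ι ≫ α₀) ≫
      (rdComp G.ι V.ι _ rfl H).inv,
    ⟨⟨⟨z, hzV⟩, H10Coh.finset_inf_mem _ _ fun q _ => hW q⟩, rfl⟩,
    fun q hq => (Scheme.Modules.restrictFunctor G.ι).map_isZero (hv q hq), fun q => ?_, ?_⟩
  · by_cases hq : q ∈ Finset.Icc a b
    · have hle : G ≤ W q := Finset.inf_le hq
      exact ⟨n q, nonempty_restrict_free hle (eW q).some⟩
    · refine ⟨0, ⟨IsZero.iso ((Scheme.Modules.restrictFunctor G.ι).map_isZero (hv q ?_)) ?_⟩⟩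
      · simp only [Finset.mem_Icc] at hq; omega
      · exact (IsZero.iff_id_eq_zero _).2 (Sigma.hom_ext _ _ fun i => i.elim0)
  · exact (Approx.of_isIso _ _).comp ((((Approx.of_isIso _ _).comp hα).map_rd G.ι).comp (Approx.of_isIso _ _))

/-- **Tensor products under a closed immersion.** -/
theorem pc_pushD_tensor (J : Z ⟶ X) [IsClosedImmersion J] {H L : DCoh.D Z} {a b c d : ℤ}
    [H.IsLE b] [L.IsLE d] (hH : DCoh.IsPseudoCoherentD a H)
    (hL : DCoh.IsPseudoCoherentD c ((pushD J).obj L)) :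
    DCoh.IsPseudoCoherentD (max (a + d) (b + c)) ((pushD J).obj (((T Z).obj L).obj H)) := by
  let m := max (a + d) (b + c)
  rcases lt_or_ge b a with hab | hab
  · haveI := isLE_T L H d b
    haveI := isLE_pushD J (((T Z).obj L).obj H) (b + d)
    exact isPseudoCoherentD_of_isLE (b + d) _ (by omega)
  refine isPseudoCoherentD_of_rd fun x => ?_
  by_cases hx : x ∈ Set.range J.base
  swap
  · let W : X.Opens := ⟨(Set.range J.base)ᶜ, J.isClosedEmbedding.isClosed_range.isOpen_compl⟩
    haveI : IsEmpty ((J ⁻¹ᵁ W : Z.Opens) : Scheme.{u}) := ⟨fun w => w.2 ⟨w.1, rfl⟩⟩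
    refine ⟨W, hx, isPseudoCoherentD_of_isZero ?_ _⟩
    refine ((pushD (J ∣_ W)).map_isZero ?_).of_iso (rdPushD J W _)
    exact MVPush.isZero_of_hd _ fun i => H17.FPExt.isZero_of_stalk _ fun w => isEmptyElim w
  obtain ⟨z, rfl⟩ := hx
  obtain ⟨U, j, hj, E₀, α₀, hz, hE₀, hF₀, hα₀⟩ := exists_free_approx hab hH z
  let W : X.Opens := ⟨(J.base '' (↑j.opensRange)ᶜ)ᶜ,
    (J.isClosedEmbedding.isClosedMap _ j.opensRange.2.isClosed_compl).isOpen_compl⟩
  have hzW : J.base z ∈ W := by
    rintro ⟨w, hw, e⟩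
    exact hw (J.isClosedEmbedding.injective e ▸ hz)
  let A : Z.Opens := J ⁻¹ᵁ W
  have hA : A ≤ j.opensRange := fun w hw => by
    by_contra h
    exact hw ⟨w, h, rfl⟩
  let k : (A : Scheme.{u}) ⟶ U := Z.homOfLE hA ≫ j.isoOpensRange.inv
  have hk : k ≫ j = A.ι := by
    simp only [k, Category.assoc, j.isoOpensRange_inv_comp, Scheme.homOfLE_ι]
  let E := ((Scheme.Modules.restrictFunctor k).mapHomologicalComplex (ComplexShape.up ℤ)).obj E₀
  have hEz : ∀ q, (q < a ∨ b < q) → IsZero (E.X q) := fun q hq =>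
    (Scheme.Modules.restrictFunctor k).map_isZero (hE₀ q hq)
  have hEf : ∀ q, ∃ n, Nonempty (E.X q ≅ FlatMod.freeMod (A : Scheme.{u}) n) := fun q => by
    obtain ⟨n, ⟨e⟩⟩ := hF₀ q
    exact ⟨n, ⟨(Scheme.Modules.restrictFunctor k).mapIso e ≪≫
      (Scheme.Modules.restrictFunctorIsoPullback k).app _ ≪≫ freeModPullbackIso k _⟩⟩
  let α : DerivedCategory.Q.obj E ⟶ (rA A).obj H :=
    (rdQ k).inv.app E₀ ≫ (rd k).map α₀ ≫ (rdComp k j A.ι hk H).inv
  have hα : Approx a α := (Approx.of_isIso _ _).comp ((hα₀.map_rd k).comp (Approx.of_isIso _ _))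
  refine ⟨W, hzW, ?_⟩
  -- the property tested on `W`
  let P : DCoh.D Z → Prop := fun r =>
    DCoh.IsPseudoCoherentD m ((rd W.ι).obj ((pushD J).obj (((T Z).obj L).obj r)))
  have hinv : InvOn A P := fun {r r'} φ h => by
    haveI : IsIso ((rA A).map (((T Z).obj L).map φ)) := isoOn_TObj L h
    let e : (rd W.ι).obj ((pushD J).obj (((T Z).obj L).obj r)) ≅
        (rd W.ι).obj ((pushD J).obj (((T Z).obj L).obj r')) :=
      rdPushD J W _ ≪≫ (pushD (J ∣_ W)).mapIso (asIso ((rA A).map (((T Z).obj L).map φ))) ≪≫ (rdPushD J W _).symm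
    exact ⟨fun hp => isPseudoCoherentD_of_iso e.symm hp, fun hp => isPseudoCoherentD_of_iso e hp⟩
  have hiso : ∀ {r r' : DCoh.D Z}, (r ≅ r') → P r → P r' := fun e hp =>
    (hinv e.hom (isoOn_of_isIso A _)).2 hp
  have hzero : ∀ r, IsZero r → P r := fun r hr => isPseudoCoherentD_of_isZero
    (Functor.map_isZero _ (Functor.map_isZero _ (Functor.map_isZero _ hr))) _
  have hext : ∀ T₀ : Triangle (DCoh.D Z), T₀ ∈ distTriang _ → P T₀.obj₁ → P T₀.obj₃ → P T₀.obj₂ :=
    fun T₀ hT h₁ h₃ => by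
      obtain ⟨T', hT', ⟨e₁⟩, ⟨e₂⟩, ⟨e₃⟩⟩ := exists_triangle_TObj L hT
      let G := pushD J ⋙ rd W.ι
      have hd := (rd W.ι).map_distinguished _ ((pushD J).map_distinguished _ hT')
      exact isPseudoCoherentD_of_iso (G.mapIso e₂) ((S0889.result m _ hd).2.1
        (isPseudoCoherentD_of_iso (G.mapIso e₁).symm h₁) (isPseudoCoherentD_of_iso (G.mapIso e₃).symm h₃))
  -- the free part
  let k₁ := (CxOX.extZeroD A.ι).obj (DerivedCategory.Q.obj E)
  have hk₁ : P k₁ := by
    let C := ((CxOX.extZero A.ι).mapHomologicalComplex (ComplexShape.up ℤ)).obj E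
    refine hiso ((CxOX.extZero A.ι).mapDerivedCategoryFactors.app E).symm
      (bounded_induction P hiso hext hzero (b + 1 - a).toNat a C
        (fun q hq => (CxOX.extZero A.ι).map_isZero (hEz q (Or.inl hq)))
        (fun q hq => (CxOX.extZero A.ι).map_isZero (hEz q (Or.inr (by omega)))) fun q => ?_)
    by_cases hq : q < a ∨ b < q
    · exact hzero _ (Functor.map_isZero _ ((CxOX.extZero A.ι).map_isZero (hEz q hq)))
    obtain ⟨n, ⟨en⟩⟩ := hEf q
    let G := CxOX.extZero A.ι ⋙ DerivedCategory.singleFunctor Z.Modules q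
    have h1 : P (G.obj (Coh.structureModule (A : Scheme.{u}))) := by
      let r : (CxOX.extZero A.ι).obj (Coh.structureModule (A : Scheme.{u})) ⟶ Coh.structureModule Z :=
        (CxOX.extZero A.ι).map (Scheme.Modules.restrictUnitIso A.ι).inv ≫
          (MV.ε A).app (Coh.structureModule Z)
      haveI : IsIso ((Scheme.Modules.restrictFunctor A.ι).map r) := by
        haveI := MV.isIso_restrict_ε A (Coh.structureModule Z)
        simp only [r, Functor.map_comp]
        infer_instance
      refine (hinv _ (isoOn_single_map A r q)).1 (hiso ((DerivedCategory.Q.commShiftIso (-q)).app (S₀ Z) ≪≫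
        ((DerivedCategory.singleFunctors Z.Modules).shiftIso (-q) q 0 (by omega)).app _) ?_)
      obtain ⟨e⟩ := nonempty_TObj_o L (-q)
      refine isPseudoCoherentD_rd W.ι (isPseudoCoherentD_of_iso
        ((pushD J).mapIso e ≪≫ ((pushD J).commShiftIso (-q)).app L).symm ?_)
      exact isPseudoCoherentD_shift (isPseudoCoherentD_mono hL (show c ≤ m + (-q) by omega)) (-q) m (by omega)
    have hsum : ∀ (k : ℕ) (M : Fin k → (A : Scheme.{u}).Modules), (∀ i, P (G.obj (M i))) → P (G.obj (∐ M)) := by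
      intro k
      induction k with
      | zero =>
        intro M _
        refine hzero _ (G.map_isZero ?_)
        exact (IsZero.iff_id_eq_zero _).2 (Sigma.hom_ext _ _ fun i => i.elim0)
      | succ k ih =>
        intro M h
        haveI := preservesBinaryBiproducts_of_preservesBiproducts G
        exact hiso ((G.mapBiprod _ _).symm ≪≫ G.mapIso (sigmaFinSuccIso M).symm)
          (hext _ (binaryBiproductTriangle_distinguished _ _) (h 0) (ih _ fun i => h i.succ))
    exact hiso (G.mapIso en.symm) (hsum n _ fun _ => h1)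
  -- the map to `H` and its cone
  haveI := Thomason.isIso_extZeroRdAdj_unit A
  let adj := Thomason.extZeroRdAdj A
  haveI : IsIso (adj.unit.app (DerivedCategory.Q.obj E)) := NatIso.isIso_app_of_isIso _ _
  let φ : k₁ ⟶ H := (adj.homEquiv _ _).symm α
  have hφ : adj.unit.app (DerivedCategory.Q.obj E) ≫ (rA A).map φ = α :=
    (adj.homEquiv_unit _ _ φ).symm.trans (Equiv.apply_symm_apply _ _)
  obtain ⟨C, p, w, hT⟩ := distinguished_cocone_triangle φ
  have happ : Approx a ((rA A).map φ) := by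
    rw [show (rA A).map φ = inv (adj.unit.app (DerivedCategory.Q.obj E)) ≫ α by rw [IsIso.eq_inv_comp, hφ]]
    exact (Approx.of_isIso a _).comp hα
  haveI hCA := (approx_iff ((rA A).map_distinguished _ hT) a).1 happ
  let C' := (CxOX.extZeroD A.ι).obj ((rA A).obj C)
  have hψ : IsoOn A (adj.counit.app C) := by
    haveI : IsIso (adj.unit.app ((rA A).obj C)) := NatIso.isIso_app_of_isIso _ _
    haveI : IsIso (adj.unit.app ((rA A).obj C) ≫ (rA A).map (adj.counit.app C)) := by
      have h : adj.unit.app ((rA A).obj C) ≫ (rA A).map (adj.counit.app C) = 𝟙 _ :=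
        adj.right_triangle_components C
      rw [h]
      infer_instance
    exact IsIso.of_isIso_comp_left (adj.unit.app ((rA A).obj C)) _
  have hC : P C := by
    refine (hinv (adj.counit.app C) hψ).2 ?_
    haveI : DerivedCategory.IsLE C' (a - 1) := by
      haveI : DerivedCategory.IsLE ((rA A).obj C) (a - 1) := hCA
      exact Dual.isLE_extZeroD A _ (a - 1)
    haveI := isLE_T L C' d (a - 1)
    haveI := isLE_pushD J (((T Z).obj L).obj C') (a - 1 + d)
    haveI := isLE_rd W.ι ((pushD J).obj (((T Z).obj L).obj C')) (a - 1 + d)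
    show DCoh.IsPseudoCoherentD m ((rd W.ι).obj ((pushD J).obj (((T Z).obj L).obj C')))
    exact @isPseudoCoherentD_of_isLE _ _ (a - 1 + d) m this (by omega)
  exact hext _ hT hk₁ hC

end Groth.Agent.H16Derived.TorTest
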