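import Groth.Agent.H16Derived.TorTest.RpushAmpLoc
import Groth.Agent.H16Derived.ProjFormula.ClosedImm
import Groth.Agent.H16Derived.ProperSupp.Tensor
import Groth.Agent.H06EGA9.StructureStalk

/-!
# Tor amplitude and direct images along closed immersions
-/

set_option autoImplicit false
set_option linter.style.haveILetI false
set_option backward.isDefEq.respectTransparency false

universe u

open CategoryTheory CategoryTheory.Limits AlgebraicGeometry
open Groth.Agent.H16Derived
open Groth.Agent.H16Derived.KFlat Groth.Agent.H16Derived.KFlat.Stalk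
open Groth.Agent.H4DR.TorAmp

attribute [local instance] HasDerivedCategory.standard

namespace Groth.Agent.H16Derived.TorTest

variable {X X' S : Scheme.{u}}

/-- Stalks of a direct image along a closed immersion. -/
noncomputable def pushStalkOverIso (i : X ⟶ X') [IsClosedImmersion i] (x : X) :
    Scheme.Modules.pushforward i ⋙ DerSch.stalkFunctor X' (i.base x) ≅ DerSch.stalkOver i x :=
  NatIso.ofComponents (fun G => LinearEquiv.toModuleIso
      ({ AddEquiv.ofBijective (ProjFormula.pushStalk i G x) (ProjFormula.pushStalk_bijective i G x) with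
         map_smul' := fun r σ => ProjFormula.pushStalk_smul i G x r σ } :
        ((Scheme.Modules.pushforward i ⋙ DerSch.stalkFunctor X' (i.base x)).obj G) ≃ₗ[X'.presheaf.stalk (i.base x)]
          ((DerSch.stalkOver i x).obj G)))
    (fun {G G'} φ => by
      ext σ
      exact ProjFormula.pushStalk_naturality i φ x σ)

/-- The stalk over the identity. -/
noncomputable def stalkOverIdIso (x : X) : DerSch.stalkOver (𝟙 X) x ≅ DerSch.stalkFunctor X x :=
  Functor.isoWhiskerLeft (DerSch.stalkFunctor X x)
    (ModuleCat.restrictScalarsId' ((𝟙 X : X ⟶ X).stalkMap x).hom (by rw [Scheme.Hom.stalkMap_id]; rfl)) ≪≫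
    (DerSch.stalkFunctor X x).rightUnitor

/-- Tor amplitude relative to a closed immersion is absolute tor amplitude of the direct image. -/
theorem at_push_iff (i : X ⟶ X') [IsClosedImmersion i] (a b : ℤ) (F : CochainComplex X.Modules ℤ) (x : X) :
    DerSch.HasTorAmplitudeAt i a b F x ↔ DerSch.HasTorAmplitudeAt (𝟙 X') a b
      (((Scheme.Modules.pushforward i).mapHomologicalComplex (ComplexShape.up ℤ)).obj F) (i.base x) :=
  let e := DerivedCategory.Q.mapIso ((NatIso.mapHomologicalComplex
    (Functor.isoWhiskerLeft (Scheme.Modules.pushforward i) (stalkOverIdIso (i.base x)) ≪≫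
      pushStalkOverIso i x) (ComplexShape.up ℤ)).app F)
  ⟨fun h => ta_of_iso e.symm h, fun h => ta_of_iso e h⟩

/-- A bound of the tor dimension of the stalk of the base. -/
theorem at_comp_torDim {Y : Scheme.{u}} (f : X ⟶ Y) (g : Y ⟶ S) {a b : ℤ} {d : ℕ} {F : CochainComplex X.Modules ℤ}
    {x : X} (hF : DerSch.HasTorAmplitudeAt f a b F x)
    (hd : letI := (g.stalkMap (f x)).hom.toAlgebra
      DRing.HasTorDimLE ↑(S.presheaf.stalk (g (f x))) d ↑(Y.presheaf.stalk (f x))) :
    DerSch.HasTorAmplitudeAt (f ≫ g) (a - d) b F x := by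
  letI : Algebra (S.presheaf.stalk (g.base (f.base x))) (Y.presheaf.stalk (f.base x)) :=
    (g.stalkMap (f.base x)).hom.toAlgebra
  have hB : DRing.HasTorAmplitudeIn (S.presheaf.stalk (g.base (f.base x))) (-(d : ℤ)) 0
      (Dual.inD (S.presheaf.stalk (g.base (f.base x))) (Y.presheaf.stalk (f.base x))) :=
    (ta_inD_iff d (ModuleCat.of _ _)).2 hd
  exact ta_of_iso ((DTen.resFactors (g.stalkMap (f.base x)).hom).app _ ≪≫
    DerivedCategory.Q.mapIso (stalkOverCompIso f g x F).symm) (ta_restrict hB hF)

/-- Composition with a flat morphism. -/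
theorem at_comp_flat {Y : Scheme.{u}} (f : X ⟶ Y) (g : Y ⟶ S) [Flat g] {a b : ℤ}
    {F : CochainComplex X.Modules ℤ} {x : X} (hF : DerSch.HasTorAmplitudeAt f a b F x) :
    DerSch.HasTorAmplitudeAt (f ≫ g) a b F x := by
  letI := (g.stalkMap (f x)).hom.toAlgebra
  have h := at_comp_torDim f g (d := 0) hF
    (H8Props.PseudoCoh.hasTorDimLE_zero_iff.2 (Flat.stalkMap g (f.base x)))
  rwa [Nat.cast_zero, sub_zero] at h

end Groth.Agent.H16Derived.TorTest
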