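import Groth.Agent.H16Derived.TorTest.RelFlatPC
import Groth.Agent.H16Derived.TorTest.PushStalkAmp
import Groth.Agent.H16Derived.TorTest.PerfSpread
import Groth.Agent.H8Props.RelPCTransfer
import Groth.Agent.H8Props.RelPCBaseChange

/-!
# Flat finitely presented modules relative to a morphism locally of finite type
-/

set_option autoImplicit false
set_option linter.style.haveILetI false
set_option backward.isDefEq.respectTransparency false

universe u

open CategoryTheory CategoryTheory.Limits AlgebraicGeometry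
open Groth.Agent.H16Derived Groth.Agent.H16Derived.KFlat Groth.Agent.H16Derived.KFlat.Stalk
open Groth.Agent.H8Props.RelPC Groth.Agent.H8Props.PushPC
open Groth.Agent.H4DR.TorAmp

attribute [local instance] HasDerivedCategory.standard

namespace Groth.Agent.H16Derived.TorTest

variable {X P S : Scheme.{u}}

/-- `M[0]`. -/
noncomputable abbrev sgl (M : X.Modules) : CochainComplex X.Modules ℤ :=
  (HomologicalComplex.single _ (ComplexShape.up ℤ) 0).obj M

/-- Flatness at a point as tor amplitude. -/
theorem isFlatOverAt_iff_ta (f : X ⟶ S) (M : X.Modules) (x : X) :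
    FlatMod.IsFlatOverAt f M x ↔ DerSch.HasTorAmplitudeAt f 0 0 (sgl M) x := by
  have hz : DRing.VanishesOutside ((DerSch.stalkCxOver f x).obj (sgl M)) 0 0 := fun i hi =>
    (DerSch.stalkOver f x).map_isZero (HomologicalComplex.isZero_single_obj_X _ _ _ _ (by omega))
  let e : (sgl M).X 0 ≅ M := HomologicalComplex.singleObjXSelf (ComplexShape.up ℤ) 0 M
  constructor
  · intro h
    refine ⟨(DerSch.stalkCxOver f x).obj (sgl M), hz, fun i => ?_, ⟨Iso.refl _⟩⟩
    by_cases hi : i = 0
    · subst hi; exact BaseChange.isFlatOverAt_of_iso e.symm h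
    · haveI := ModuleCat.subsingleton_of_isZero ((DerSch.stalkOver f x).map_isZero
        (HomologicalComplex.isZero_single_obj_X (ComplexShape.up ℤ) 0 M i hi))
      show Module.Flat _ ((DerSch.stalkOver f x).obj ((sgl M).X i))
      infer_instance
  · intro h
    refine BaseChange.isFlatOverAt_of_iso e ?_
    exact flat_bot_of_ta (W := (DerSch.stalkCxOver f x).obj (sgl M)) (m := 0) (n := 0) (C := 0) le_rfl hz
      (fun i hi => by
        haveI := ModuleCat.subsingleton_of_isZero (hz i (Or.inr hi))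
        infer_instance) h

/-- Tor amplitude over a base through a closed immersion. -/
theorem at_push_comp_iff (g : X ⟶ P) [IsClosedImmersion g] (p : P ⟶ S) (a b : ℤ)
    (F : CochainComplex X.Modules ℤ) (x : X) :
    DerSch.HasTorAmplitudeAt (g ≫ p) a b F x ↔ DerSch.HasTorAmplitudeAt p a b
      (((Scheme.Modules.pushforward g).mapHomologicalComplex (ComplexShape.up ℤ)).obj F) (g.base x) :=
  let e : DRing.toD ((DerSch.stalkCxOver (g ≫ p) x).obj F) ≅ DRing.toD ((DerSch.stalkCxOver p (g.base x)).obj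
      (((Scheme.Modules.pushforward g).mapHomologicalComplex (ComplexShape.up ℤ)).obj F)) :=
    DerivedCategory.Q.mapIso (stalkOverCompIso g p x F ≪≫ (DTen.resCx (p.stalkMap (g.base x)).hom).mapIso
      ((NatIso.mapHomologicalComplex (pushStalkOverIso g x) (ComplexShape.up ℤ)).app F).symm)
  ⟨fun h => ta_of_iso e h, fun h => ta_of_iso e.symm h⟩

/-- Flatness over the base of a direct image along a closed immersion. -/
theorem isFlatOver_push (g : X ⟶ P) [IsClosedImmersion g] (p : P ⟶ S) {M : X.Modules}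
    (h : FlatMod.IsFlatOver (g ≫ p) M) : FlatMod.IsFlatOver p ((Scheme.Modules.pushforward g).obj M) := fun y => by
  by_cases hy : y ∈ Set.range g.base
  · obtain ⟨x, rfl⟩ := hy
    refine (isFlatOverAt_iff_ta p _ _).2 ?_
    exact ta_of_iso (stalkOverIso p (g.base x) (DerivedCategory.Q.mapIso
      ((HomologicalComplex.singleMapHomologicalComplex (Scheme.Modules.pushforward g) (ComplexShape.up ℤ) 0).app M)))
      ((at_push_comp_iff g p 0 0 _ x).1 ((isFlatOverAt_iff_ta (g ≫ p) M x).1 (h x)))
  · haveI := ProjFormula.subsingleton_stalk_push g M y hy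
    letI := FlatMod.moduleStalkOver p ((Scheme.Modules.pushforward g).obj M) y
    show Module.Flat (S.presheaf.stalk (p.base y)) (((Scheme.Modules.pushforward g).obj M).presheaf.stalk y)
    infer_instance

/-- The chart over the base. -/
theorem chartImm_fromSpec (f : X ⟶ S) {U : X.Opens} (hU : IsAffineOpen U) {V : S.Opens} (hV : IsAffineOpen V)
    (e : U ≤ f ⁻¹ᵁ V) {n : ℕ} (φ : MvPolynomial (Fin n) Γ(S, V) →+* Γ(X, U)) (hφ : DerSch.IsChart f U V e φ) :
    DerSch.chartImm U φ ≫ Spec.map (CommRingCat.ofHom (MvPolynomial.C (R := Γ(S, V)))) ≫ hV.fromSpec = U.ι ≫ f := by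
  have h : CommRingCat.ofHom (MvPolynomial.C (R := Γ(S, V))) ≫ CommRingCat.ofHom φ = f.appLE V U e :=
    CommRingCat.hom_ext hφ.2
  rw [DerSch.chartImm, Category.assoc, ← Spec.map_comp_assoc, h, IsAffineOpen.SpecMap_appLE_fromSpec f hV hU e,
    hU.toSpecΓ_fromSpec_assoc]

/-- A finitely presented module flat over the base is pseudo-coherent relative to it. -/
theorem isPseudoCoherentRel_of_flat (f : X ⟶ S) {M : X.Modules} (hfl : FlatMod.IsFlatOver f M)
    (hfp : DerSch.IsPseudoCoherentRel f (-1) (DCoh.inD X M)) (m : ℤ) :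
    DerSch.IsPseudoCoherentRel f m (DCoh.inD X M) := by
  haveI : LocallyOfFiniteType f := hfp.1
  refine rel_of_charts f m _ fun U V e n φ hφ => ?_
  haveI := isClosedImmersion_chartImm U.2 φ hφ.1
  let g := DerSch.chartImm (U : X.Opens) φ
  let N := (Scheme.Modules.pushforward g).obj (M.restrict (U : X.Opens).ι)
  let i : (pushD g).obj ((rd (U : X.Opens).ι).obj (DCoh.inD X M)) ≅ DCoh.inD _ N :=
    (pushD g).mapIso (rdInD _ _) ≪≫ pushDInD g _
  rw [chartPC_iff]
  refine isPseudoCoherentD_of_iso i.symm ?_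
  have hN : CohB1.IsFP N := (isFP_iff_pc N).1
    (isPseudoCoherentD_of_iso i ((chartPC_iff φ _ _).1 (chartPC_of_rel hfp U.2 V.2 e φ hφ)))
  let C₀ := CommRingCat.ofHom (MvPolynomial.C (σ := Fin n) (R := Γ(S, (V : S.Opens))))
  let p := Spec.map C₀
  haveI : Flat p := (HasRingHomProperty.Spec_iff (P := @Flat)).2
    (RingHom.flat_algebraMap_iff.2 (inferInstanceAs (Module.Flat Γ(S, (V : S.Opens)) (MvPolynomial (Fin n) Γ(S, (V : S.Opens))))))
  haveI : LocallyOfFinitePresentation p := (HasRingHomProperty.Spec_iff (P := @LocallyOfFinitePresentation)).2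
    (RingHom.finitePresentation_algebraMap.2 (inferInstanceAs (Algebra.FinitePresentation Γ(S, (V : S.Opens)) (MvPolynomial (Fin n) Γ(S, (V : S.Opens))))))
  refine isPseudoCoherentD_inD_of_relFlat p hN (isFlatOver_push g p fun x => ?_) m
  refine (isFlatOverAt_iff_ta _ _ x).2 (at_cancel (g ≫ p) V.2.fromSpec ?_)
  refine (at_congr (p' := (U : X.Opens).ι ≫ f) ?_ 0 0 _ x).2 ?_
  · rw [Category.assoc]
    exact chartImm_fromSpec f U.2 V.2 e φ hφ
  · exact (isFlatOverAt_iff_ta _ _ x).1 (isFlatOver_restrict f (U : X.Opens).ι hfl x)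

/-- `M[0]` in both forms. -/
noncomputable def sglIso (M : X.Modules) : DCoh.inD X M ≅ DCoh.toD X (sgl M) :=
  (DerivedCategory.singleFunctorIsoCompQ X.Modules 0).app M

/-- Bounded above complexes of such modules. -/
theorem isPseudoCoherentRelAll_of_flat (f : X ⟶ S) (E : CochainComplex X.Modules ℤ) (b : ℤ)
    (hb : ∀ i, b < i → IsZero (E.X i)) (hfl : ∀ i, FlatMod.IsFlatOver f (E.X i))
    (hfp : ∀ i, DerSch.IsPseudoCoherentRel f (-1) (DCoh.toD X (sgl (E.X i)))) :
    DerSch.IsPseudoCoherentRelAll f (DCoh.toD X E) := fun m =>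
  rel_of_termwise f m E b hb fun i =>
    isPseudoCoherentRel_of_flat f (hfl i) (rel_of_iso (sglIso (E.X i)).symm (hfp i)) _

end Groth.Agent.H16Derived.TorTest
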