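import Groth.Agent.H8Props.RelPCBaseChangeAny
import Groth.Agent.H16Derived.BaseChange.RelFlatPull
import Groth.Agent.H16Derived.TorTest.RelFlatRel

/-!
# Tor-independent base change of relative pseudo-coherence
-/

set_option autoImplicit false
set_option linter.style.haveILetI false
set_option backward.isDefEq.respectTransparency false

universe u

open CategoryTheory CategoryTheory.Limits AlgebraicGeometry
open Groth.Agent.H16Derived Groth.Agent.H16Derived.KFlat Groth.Agent.H16Derived.KFlat.Stalk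
open Groth.Agent.H8Props Groth.Agent.H8Props.PushPC Groth.Agent.H8Props.RelPC

attribute [local instance] HasDerivedCategory.standard
attribute [local instance] MvPolynomial.algebraMvPolynomial

namespace Groth.Agent.H16Derived.TorTest

variable {X Y Y' X' : Scheme.{u}} {f : X ⟶ Y} {g : Y' ⟶ Y} {g' : X' ⟶ X} {f' : X' ⟶ Y'}

/-- `Lg'^*` of a bounded above complex of modules flat over the base is computed termwise. -/
theorem nonempty_lpull_of_flatOver_le (h : IsPullback g' f' f g) [Flat f] [DCoh.HasLpull g']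
    (E : CochainComplex X.Modules ℤ) (b : ℤ) [E.IsStrictlyLE b]
    (hflat : ∀ i, FlatMod.IsFlatOver f (E.X i)) :
    Nonempty ((DCoh.Lpull g').obj (DCoh.toD X E) ≅
      DCoh.toD X' (((Scheme.Modules.pullback g').mapHomologicalComplex (ComplexShape.up ℤ)).obj E)) := by
  obtain ⟨P, α, hP, hPf, hα⟩ := exists_flat_resolution E b
  haveI := hP
  haveI := hα
  let W := CochainComplex.mappingCone α
  have hWf : ∀ i, FlatMod.IsFlatOver f (W.X i) := fun i =>
    BaseChange.isFlatOver_mid (S := (CochainComplex.mappingCone.triangleRotateShortComplex α).map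
        (HomologicalComplex.eval X.Modules (ComplexShape.up ℤ) i))
      (CochainComplex.mappingCone.triangleRotateShortComplexSplitting α i).shortExact
      (hflat i) (BaseChange.isFlatOver_of_isFlat f (hPf (i + 1)))
  have hWb : ∀ i, b < i → IsZero (W.X i) := fun i hi =>
    ((CochainComplex.mappingCone.triangleRotateShortComplexSplitting α i).shortExact.exact).isZero_of_both_zeros
      ((E.isZero_of_isStrictlyLE b i hi).eq_of_src _ _)
      ((P.isZero_of_isStrictlyLE b (i + 1) (by omega)).eq_of_tgt _ _)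
  have hWa := (AcyclicLES.quasiIso_iff_acyclic_mappingCone α).1 hα
  have hq : QuasiIso (((Scheme.Modules.pullback g').mapHomologicalComplex (ComplexShape.up ℤ)).map α) :=
    (AcyclicLES.quasiIso_iff_acyclic_mappingCone _).2 (KFlat.acyclic_of_iso
      (CochainComplex.mappingCone.mapHomologicalComplexIso α (Scheme.Modules.pullback g'))
      (BaseChange.acyclic_pullback_of_isPullback h W b hWb hWa hWf))
  haveI := isIso_Q_map _ hq
  haveI := isIso_Q_map α hα
  exact ⟨(DCoh.Lpull g').mapIso (asIso (DerivedCategory.Q.map α)).symm ≪≫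
    lpullObjIso g' P (kflat_of_boundedAbove P b (fun q hq => P.isZero_of_isStrictlyLE b q hq) hPf) ≪≫
    asIso (DerivedCategory.Q.map (((Scheme.Modules.pullback g').mapHomologicalComplex (ComplexShape.up ℤ)).map α))⟩

/-- Tor-independent base change of direct images along closed immersions. -/
theorem nonempty_lpull_pushD_indep {Z Z' S₀ T₀ : Scheme.{u}} {i : Z ⟶ Y} {g₀ : Z' ⟶ Z} {i' : Z' ⟶ Y'}
    [IsClosedImmersion i] [IsClosedImmersion i'] (H : IsPullback g₀ i' i g) {p : Y ⟶ S₀} {p' : Y' ⟶ T₀}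
    {h₀ : T₀ ⟶ S₀} (H₀ : IsPullback g p' p h₀) [Flat p] [Flat (i ≫ p)]
    [DCoh.HasLpull g] [DCoh.HasLpull g₀] (K : DCoh.D Z) (b : ℤ) [K.IsLE b] :
    Nonempty ((DCoh.Lpull g).obj ((pushD i).obj K) ≅ (pushD i').obj ((DCoh.Lpull g₀).obj K)) := by
  obtain ⟨E, hE, ⟨e⟩⟩ := K.exists_iso_Q_obj_of_isLE b
  haveI := hE
  obtain ⟨P, α, hP, hPf, hα⟩ := exists_flat_resolution E b
  haveI := hP
  haveI := isIso_Q_map α hα
  let eP : DerivedCategory.Q.obj P ≅ K := asIso (DerivedCategory.Q.map α) ≪≫ e.symm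
  let C : CochainComplex Y.Modules ℤ := ((Scheme.Modules.pushforward i).mapHomologicalComplex (ComplexShape.up ℤ)).obj P
  haveI : C.IsStrictlyLE b := (CochainComplex.isStrictlyLE_iff _ _).2 fun n hn =>
    (Scheme.Modules.pushforward i).map_isZero (P.isZero_of_isStrictlyLE b n hn)
  obtain ⟨a⟩ := nonempty_lpull_of_flatOver_le H₀ C b fun n =>
    isFlatOver_push i p (BaseChange.isFlatOver_of_isFlat (i ≫ p) (hPf n))
  exact ⟨(DCoh.Lpull g).mapIso ((pushD i).mapIso eP.symm ≪≫ pushDQ i P) ≪≫ a ≪≫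
    DerivedCategory.Q.mapIso ((NatIso.mapHomologicalComplex (ClosedBC.baseChangeIso H) (ComplexShape.up ℤ)).app P) ≪≫
    (pushDQ i' (((Scheme.Modules.pullback g₀).mapHomologicalComplex (ComplexShape.up ℤ)).obj P)).symm ≪≫
    (pushD i').mapIso ((lpullObjIso g₀ P (kflat_of_boundedAbove P b (fun q hq => P.isZero_of_isStrictlyLE b q hq) hPf)).symm ≪≫
      (DCoh.Lpull g₀).mapIso eP)⟩

variable {S T : Scheme.{u}} {t : Y ⟶ S} {q : T ⟶ S} {tY' : Y' ⟶ T}

/-- Tor-independent base change of relative pseudo-coherence. -/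
theorem isPseudoCoherentRel_lpull_indep (H : IsPullback g' f' f g) (H₀ : IsPullback g tY' t q) [Flat t]
    [Flat (f ≫ t)] [DCoh.HasLpull g'] {m : ℤ} {E : DCoh.D X} (b : ℤ) [E.IsLE b]
    (hE : DerSch.IsPseudoCoherentRel f m E) :
    DerSch.IsPseudoCoherentRel f' m ((DCoh.Lpull g').obj E) := by
  haveI : LocallyOfFiniteType f := hE.1
  haveI : LocallyOfFiniteType f' := MorphismProperty.of_isPullback H inferInstance
  refine rel_of_local f' m _ fun x => ?_
  obtain ⟨_, ⟨V₀, hV₀, rfl⟩, hxV₀, -⟩ :=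
    S.isBasis_affineOpens.exists_subset_of_mem_open (Set.mem_univ (t (g (f' x)))) isOpen_univ
  obtain ⟨_, ⟨V, hV, rfl⟩, hxV, eV⟩ :=
    Y.isBasis_affineOpens.exists_subset_of_mem_open (show g (f' x) ∈ t ⁻¹ᵁ V₀ from hxV₀) (t ⁻¹ᵁ V₀).2
  have hq : tY' (f' x) ∈ q ⁻¹ᵁ V₀ := by
    show q (tY' (f' x)) ∈ V₀
    rw [show q (tY' (f' x)) = t (g (f' x)) from (congr($(H₀.w) (f' x))).symm]
    exact hxV₀
  obtain ⟨_, ⟨W₀, hW₀, rfl⟩, hxW₀, eW₀⟩ := T.isBasis_affineOpens.exists_subset_of_mem_open hq (q ⁻¹ᵁ V₀).2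
  obtain ⟨hW, hp₀⟩ := pushout_sections H₀ hV hV₀ eV hW₀ eW₀
  let W := g ⁻¹ᵁ V ⊓ tY' ⁻¹ᵁ W₀
  have eW : W ≤ g ⁻¹ᵁ V := inf_le_left
  have hfg : g' x ∈ f ⁻¹ᵁ V := by
    show f (g' x) ∈ V
    rw [show f (g' x) = g (f' x) from congr($(H.w) x)]
    exact hxV
  obtain ⟨_, ⟨U, hU, rfl⟩, hxU, eU⟩ := X.isBasis_affineOpens.exists_subset_of_mem_open hfg (f ⁻¹ᵁ V).2
  obtain ⟨n, φ, hφ⟩ := exists_isChart f U V eU (f.finiteType_appLE hV hU eU)
  have hc := chartPC_of_rel hE hU hV eU φ hφ
  obtain ⟨hU', hp⟩ := pushout_sections H hU hV eU hW eW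
  let U' := g' ⁻¹ᵁ U ⊓ f' ⁻¹ᵁ W
  let R := Γ(Y, V)
  let R' := Γ(Y', W)
  let A := Γ(X, U)
  let A' := Γ(X', U')
  letI : Algebra R A := (f.appLE V U eU).hom.toAlgebra
  letI : Algebra R R' := (g.appLE V W eW).hom.toAlgebra
  letI : Algebra R' A' := (f'.appLE W U' inf_le_right).hom.toAlgebra
  letI : Algebra A A' := (g'.appLE U U' inf_le_left).hom.toAlgebra
  letI : Algebra R A' := ((f'.appLE W U' inf_le_right).hom.comp (g.appLE V W eW).hom).toAlgebra
  haveI : IsScalarTower R R' A' := IsScalarTower.of_algebraMap_eq fun _ => rfl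
  haveI : IsScalarTower R A A' :=
    IsScalarTower.of_algebraMap_eq fun x => congrArg (fun φ => φ.hom x) hp.w.symm
  haveI : Algebra.IsPushout R R' A A' := CommRingCat.isPushout_iff_isPushout.mp hp.flip
  let α : MvPolynomial (Fin n) R →ₐ[R] A := ⟨φ, fun r => congr($(hφ.2) r)⟩
  let β := RingRelPC.bcPres R' A' α
  let P := MvPolynomial (Fin n) R
  let P' := MvPolynomial (Fin n) R'
  refine ⟨U', hU', W, hW, inf_le_right, n, β.toRingHom, ⟨hxU, hxV, hxW₀⟩,
    ⟨RingRelPC.bcPres_surjective R' A' α hφ.1, β.comp_algebraMap⟩, ?_⟩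
  letI : Algebra P A := α.toRingHom.toAlgebra
  letI : Algebra P' A' := β.toRingHom.toAlgebra
  letI : Algebra P A' := RingRelPC.bcAlg A' α
  haveI := RingRelPC.bcPres_tower₁ A' α
  haveI := RingRelPC.bcPres_tower₂ R' A' α
  haveI := RingRelPC.bcPres_isPushout R' A' α
  haveI : Algebra.IsPushout P A P' A' := Algebra.IsPushout.symm inferInstance
  let qP : Spec (CommRingCat.of P') ⟶ Spec (CommRingCat.of P) :=
    Spec.map (CommRingCat.ofHom (algebraMap P P'))
  have hsq : IsPullback (Spec.map (g'.appLE U U' inf_le_left)) (Spec.map (CommRingCat.ofHom β.toRingHom))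
      (Spec.map (CommRingCat.ofHom φ)) qP :=
    isPullback_SpecMap_of_isPushout _ _ _ _ (CommRingCat.isPushout_of_isPushout P A P' A')
  have hi : IsPullback (g'.resLE U U' inf_le_left) (Scheme.Opens.toSpecΓ U') (Scheme.Opens.toSpecΓ U)
      (Spec.map (g'.appLE U U' inf_le_left)) := by
    haveI : IsIso (Scheme.Opens.toSpecΓ U) := by rw [← hU.isoSpec_hom]; infer_instance
    haveI : IsIso (Scheme.Opens.toSpecΓ U') := by rw [← hU'.isoSpec_hom]; infer_instance
    exact IsPullback.of_vert_isIso ⟨(Scheme.Opens.toSpecΓ_SpecMap_appLE g' U U' inf_le_left).symm⟩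
  have hH : IsPullback (g'.resLE U U' inf_le_left) (DerSch.chartImm U' β.toRingHom)
      (DerSch.chartImm U φ) qP := hi.paste_vert hsq
  haveI : Algebra.IsPushout R R' P P' := inferInstance
  haveI : Algebra.IsPushout R P R' P' := Algebra.IsPushout.symm inferInstance
  have hP : IsPullback qP (Spec.map (CommRingCat.ofHom (algebraMap R' P')))
      (Spec.map (CommRingCat.ofHom (algebraMap R P))) (Spec.map (g.appLE V W eW)) :=
    isPullback_SpecMap_of_isPushout _ _ _ _ (CommRingCat.isPushout_of_isPushout R P R' P')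
  have hP₀ := hP.paste_vert (isPullback_SpecMap_of_isPushout _ _ _ _ hp₀)
  haveI := isClosedImmersion_chartImm hU φ hφ.1
  haveI := isClosedImmersion_chartImm hU' β.toRingHom (RingRelPC.bcPres_surjective R' A' α hφ.1)
  haveI := hasLpull qP
  haveI := hasLpull (g'.resLE U U' inf_le_left)
  let p : Spec (CommRingCat.of P) ⟶ Spec Γ(S, V₀) :=
    Spec.map (CommRingCat.ofHom (algebraMap R P)) ≫ Spec.map (t.appLE V₀ V eV)
  haveI : Flat (Spec.map (CommRingCat.ofHom (algebraMap R P))) := (HasRingHomProperty.Spec_iff (P := @Flat)).2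
    (RingHom.flat_algebraMap_iff.2 (inferInstance : Module.Flat R P))
  haveI : Flat (Spec.map (t.appLE V₀ V eV)) := (HasRingHomProperty.Spec_iff (P := @Flat)).2
    (HasRingHomProperty.appLE (P := @Flat) t inferInstance ⟨V₀, hV₀⟩ ⟨V, hV⟩ eV)
  haveI : Flat p := inferInstance
  haveI : Flat (DerSch.chartImm U φ ≫ p) := by
    have e : DerSch.chartImm U φ ≫ p =
        (Scheme.Opens.toSpecΓ U) ≫ Spec.map ((f ≫ t).appLE V₀ U (fun z hz => eV (eU hz))) := by
      have h2 : Spec.map (CommRingCat.ofHom φ) ≫ Spec.map (CommRingCat.ofHom (algebraMap R P)) =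
          Spec.map (f.appLE V U eU) := by
        rw [← Spec.map_comp]
        exact congrArg Spec.map (CommRingCat.hom_ext hφ.2)
      simp only [p, DerSch.chartImm, Category.assoc]
      rw [← Category.assoc (Spec.map (CommRingCat.ofHom φ)), h2, ← Spec.map_comp, Scheme.Hom.appLE_comp_appLE]
    rw [e]
    haveI : IsIso (Scheme.Opens.toSpecΓ U) := by rw [← hU.isoSpec_hom]; infer_instance
    haveI : Flat (Spec.map ((f ≫ t).appLE V₀ U (fun z hz => eV (eU hz)))) := (HasRingHomProperty.Spec_iff (P := @Flat)).2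
      (HasRingHomProperty.appLE (P := @Flat) (f ≫ t) inferInstance ⟨V₀, hV₀⟩ ⟨U, hU⟩ _)
    infer_instance
  haveI := isLE_rd (Scheme.Opens.ι U) E b
  obtain ⟨a⟩ := nonempty_lpull_pushD_indep (p := p) hH hP₀ ((rd (Scheme.Opens.ι U)).obj E) b
  obtain ⟨c⟩ := H16Derived.QCohD.lpull_factor g' (Scheme.Opens.ι U') (g'.resLE U U' inf_le_left) (Scheme.Opens.ι U)
    (Scheme.Hom.resLE_comp_ι g' inf_le_left) E
  rw [chartPC_iff] at hc ⊢
  exact isPseudoCoherentD_of_iso (a ≪≫ (pushD _).mapIso c.symm) (isPseudoCoherentD_lpull qP hc)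

end Groth.Agent.H16Derived.TorTest
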