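import Groth.Agent.H16Derived.TorTest.FibreGE
import Groth.Agent.H16Derived.BaseChange.FinitePC
import Groth.Agent.H16Derived.ProperSupp.Tensor

/-!
# Perfection is detected on the fibres
-/

set_option autoImplicit false
set_option linter.style.haveILetI false
set_option backward.isDefEq.respectTransparency false

universe u

open CategoryTheory CategoryTheory.Limits AlgebraicGeometry
open Groth.Agent.H16Derived Groth.Agent.H16Derived.KFlat Groth.Agent.H16Derived.KFlat.Stalk
open Groth.Agent.H4DR.TorAmp Groth.Agent.H4DR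

attribute [local instance] HasDerivedCategory.standard
attribute [local instance] Groth.Agent.H06Mod.stalkAlgebra

namespace Groth.Agent.H16Derived.TorTest

variable {X Y S : Scheme.{u}}

/-- The stalk of a pullback as an extension of scalars. -/
noncomputable def pullStalkModIso (g : X ⟶ Y) (z : X) :
    DerSch.stalkFunctor Y (g.base z) ⋙ ModuleCat.extendScalars.{u, u, u} (g.stalkMap z).hom ≅
      Scheme.Modules.pullback g ⋙ DerSch.stalkFunctor X z :=
  NatIso.ofComponents (fun N => (H06Mod.pullStalkEquiv g N z).toModuleIso) fun {N N'} φ => by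
    refine ModuleCat.hom_ext (LinearMap.ext fun t => ?_)
    exact pullStalkLin_naturality g z φ t

/-- Tor amplitude at a point of a fibre bounds the derived reduction to the residue field. -/
theorem subsingleton_lbase_residue (g : X ⟶ Y) (z : X) {K : CochainComplex Y.Modules ℤ}
    (hK : kflat Y K) {a b : ℤ}
    (h : DerSch.HasTorAmplitudeAt (𝟙 X) a b
      (((Scheme.Modules.pullback g).mapHomologicalComplex (ComplexShape.up ℤ)).obj K) z)
    [DRing.HasLBaseChange ((IsLocalRing.residue (X.presheaf.stalk z)).comp (g.stalkMap z).hom)]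
    (i : ℤ) (hi : i < a) :
    Subsingleton (Dual.HD (IsLocalRing.ResidueField (X.presheaf.stalk z))
      ((DRing.LBaseChange ((IsLocalRing.residue (X.presheaf.stalk z)).comp (g.stalkMap z).hom)).obj
        (DRing.toD ((Sx (g.base z)).obj K))) i) := by
  let φ := (g.stalkMap z).hom
  let r := IsLocalRing.residue (X.presheaf.stalk z)
  have hKx := (KFlat.isKFlat_iff_homology _ _).2 ((KFlat.Stalk.isKFlat_iff_stalk (E := K)).1 hK (g.base z))
  haveI := hasLBaseChange r
  have h1 : DRing.HasTorAmplitudeIn (X.presheaf.stalk z) a b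
      (DRing.toD ((DTen.extCx φ).obj ((Sx (g.base z)).obj K))) :=
    ta_of_iso (DerivedCategory.Q.mapIso
      ((NatIso.mapHomologicalComplex (pullStalkModIso g z) (ComplexShape.up ℤ)).app K)).symm
      (ta_of_bijective ((𝟙 X : X ⟶ X).stalkMap z).hom
        (ConcreteCategory.bijective_of_isIso ((𝟙 X : X ⟶ X).stalkMap z)) h)
  have h2 := ta_of_iso (lbaseObj r _ (H25DTen.isKFlat_extCx φ hKx)) (ta_lbase r h1)
  exact @Function.Injective.subsingleton _ _ _ (PCoh.hEquiv i (lbaseObj (r.comp φ) _ hKx ≪≫ DerivedCategory.Q.mapIso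
    ((NatIso.mapHomologicalComplex (ModuleCat.extendScalarsComp φ r) (ComplexShape.up ℤ)).app _))).injective
    (bound_of_ta h2 i (Or.inl hi))

/-- A relatively perfect object with perfect fibres is perfect. -/
theorem isPerfect_of_fibres (f : X ⟶ S) [Flat f] (E : DCoh.D X)
    [∀ s : S, DCoh.HasLpull (f.fiberι s)]
    (hpc : ∀ m : ℤ, DCoh.IsPseudoCoherentD m E) (hT : DCoh.LocHasFiniteRelTorDim f E)
    (hfib : ∀ s : S, DCoh.IsPerfect ((DCoh.Lpull (f.fiberι s)).obj E)) : DCoh.IsPerfect E := by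
  let F := DerivedCategory.Q.objPreimage E
  let eF : DCoh.toD X F ≅ E := DerivedCategory.Q.objObjPreimageIso E
  have hpcF : ∀ m, DCoh.IsPseudoCoherentD m (DCoh.toD X F) := fun m => isPseudoCoherentD_of_iso eF.symm (hpc m)
  refine isPerfect_of_iso eF (BaseChange.isPerfect_of_locFiniteTorAmplitude hpcF ?_)
  obtain ⟨K, hK, ⟨eK⟩⟩ := exists_kflat_rep E
  have key : ∀ (s : S) (z : f.fiber s), ∃ (V : X.Opens) (a b : ℤ), (f.fiberι s).base z ∈ V ∧
      ∀ x' ∈ V, DerSch.HasTorAmplitudeAt (𝟙 X) a b F x' := by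
    intro s z
    let ι := f.fiberι s
    let x := ι.base z
    let PK := ((Scheme.Modules.pullback ι).mapHomologicalComplex (ComplexShape.up ℤ)).obj K
    obtain ⟨W, a₂, b₂, hz, hW⟩ := ProperSupp.locFiniteTorAmplitude_id
      (isPerfect_of_iso ((DCoh.Lpull ι).mapIso eK.symm ≪≫ lpullObjIso ι K hK) (hfib s)) z
    obtain ⟨V, a₁, b₁, hx, hV⟩ := (locHasFiniteRelTorDim_iff f eF).1 hT x
    let FV := (DCoh.restrictCx V).obj F
    have hFV : DerSch.HasTorAmplitude (V.ι ≫ f) a₁ b₁ FV := fun w => (at_restrict V.ι f a₁ b₁ F w).2 (hV w.1 w.2)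
    obtain ⟨h1, h2⟩ := bounds_of_ta (V.ι ≫ f) hFV
    let a := min a₁ a₂
    have hGE : (DCoh.toD (V : Scheme.{u}) FV).IsGE a := (DerivedCategory.isGE_iff _ _).2 fun k hk =>
      DerivedCategory.isZero_of_isGE _ a₁ k (lt_of_lt_of_le hk (min_le_left _ _))
    let φ := (IsLocalRing.residue ((f.fiber s).presheaf.stalk z)).comp (ι.stalkMap z).hom
    haveI := hasLBaseChange φ
    have hφ : Function.Surjective φ := IsLocalRing.residue_surjective.comp (ι.stalkMap_surjective z)
    have hker : RingHom.ker φ =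
        (IsLocalRing.maximalIdeal (X.presheaf.stalk ((𝟙 X : X ⟶ X).base x))).map ((𝟙 X : X ⟶ X).stalkMap x).hom := by
      rw [IsLocalRing.eq_maximalIdeal (RingHom.ker_isMaximal_of_surjective φ hφ),
        Scheme.Hom.stalkMap_id]
      exact (Ideal.map_id _).symm
    let eKx : DRing.toD ((Sx x).obj F) ≅ DRing.toD ((Sx x).obj K) :=
      (DerSch.stalkFunctor X x).mapDerivedCategoryFactors.symm.app F ≪≫
        (DerSch.stalkFunctor X x).mapDerivedCategory.mapIso (eF ≪≫ eK.symm) ≪≫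
        (DerSch.stalkFunctor X x).mapDerivedCategoryFactors.app K
    haveI := subsingleton_lbase_residue ι z hK (hW z hz) (a - 1)
      (by have := min_le_right a₁ a₂; omega)
    have hta := ta_at_of_lbase (𝟙 X) V hGE h2 (hpcF (a - 2)) x hx φ hφ hker
      (PCoh.hEquiv (a - 1) ((DRing.LBaseChange φ).mapIso eKx)).injective.subsingleton
    haveI := h2
    obtain ⟨A, hxA, -, hA⟩ := exists_nhd_amp (V.ι ≫ 𝟙 X) hGE
      (isPseudoCoherentD_of_iso ((rdQ V.ι).app F) (isPseudoCoherentD_rd V.ι (hpcF (a - 1)))) ⟨x, hx⟩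
      ((at_restrict V.ι (𝟙 X) a b₁ F ⟨x, hx⟩).2 hta)
    refine ⟨V.ι ''ᵁ A, a, b₁, ⟨⟨x, hx⟩, hxA, rfl⟩, ?_⟩
    rintro _ ⟨w, hw, rfl⟩
    exact (at_restrict V.ι (𝟙 X) a b₁ F w).1 ((at_restrict A.ι (V.ι ≫ 𝟙 X) a b₁ FV ⟨w, hw⟩).1 (hA ⟨w, hw⟩))
  intro x
  obtain ⟨V, a, b, hx, h⟩ := key (f x) (f.asFiber x)
  rw [f.fiberι_asFiber] at hx
  exact ⟨V, a, b, hx, h⟩

/-- Perfect objects are relatively perfect. -/
theorem locHasFiniteRelTorDim_of_isPerfect (f : X ⟶ S) [Flat f] {E : DCoh.D X} (hE : DCoh.IsPerfect E) :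
    DCoh.LocHasFiniteRelTorDim f E := by
  let F := DerivedCategory.Q.objPreimage E
  let eF : DCoh.toD X F ≅ E := DerivedCategory.Q.objObjPreimageIso E
  refine (locHasFiniteRelTorDim_iff f eF).2 fun x => ?_
  obtain ⟨V, a, b, hx, h⟩ := ProperSupp.locFiniteTorAmplitude_id (isPerfect_of_iso eF.symm hE) x
  refine ⟨V, a - ((0 : ℕ) : ℤ), b, hx, fun x' hx' => (at_congr (Category.id_comp f) _ b F x').1
    (at_comp_torDim (𝟙 X) f (h x' hx') ?_)⟩
  letI := (f.stalkMap ((𝟙 X : X ⟶ X) x')).hom.toAlgebra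
  exact H8Props.PseudoCoh.hasTorDimLE_zero_iff.2 ((AlgebraicGeometry.Flat.iff_flat_stalkMap f).1 ‹_› _)

end Groth.Agent.H16Derived.TorTest
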