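import Groth.Agent.H4DR.TorAmp.LTensorCx
import Groth.Agent.H16Derived.KFlat.BaseChange
import Groth.Agent.H16Derived.KFlat.Single
import Groth.Agent.H25DTen.Base

/-!
# Tor amplitude by flat resolutions of test modules

`X` has tor amplitude in `[a, b]` iff for every module `N` and flat resolution `F` of `N` the complex
`X ⊗ F` is exact outside `[a, b]`; consequently `E ⊗_B L` has tor amplitude in `[a + c, b + d]` over
`A` when `E` is a flat `B`-complex placed in `[a, b]` and `L` has tor amplitude in `[c, d]` over `A`.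
-/

set_option autoImplicit false
set_option linter.style.haveILetI false

universe u

open CategoryTheory CategoryTheory.Limits MonoidalCategory
open Groth.Agent.H16Derived
open Groth.Agent.H4DR.TorAmp

attribute [local instance] HasDerivedCategory.standard

namespace Groth.Agent.H16Derived.TorTest

open Groth.Agent.H4DR.KFlatMod (bi)

variable {A B : Type u} [CommRing A] [CommRing B]

/-- `F` is a flat resolution of `N`. -/
def IsFlatRes (N : ModuleCat.{u} A) (F : DRing.Cx A) : Prop :=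
  ∃ r : F ⟶ (HomologicalComplex.single (ModuleCat.{u} A) (ComplexShape.up ℤ) 0).obj N,
    QuasiIso r ∧ KFlat.IsKFlat (bi A) F

theorem exists_flatRes (N : ModuleCat.{u} A) : ∃ F, IsFlatRes N F := by
  obtain ⟨F, r, hF, -, hr, -⟩ := H4DR.KFlatMod.exists_resolution
    ((HomologicalComplex.single (ModuleCat.{u} A) (ComplexShape.up ℤ) 0).obj N)
  exact ⟨F, r, hr, hF⟩

theorem exactAt_of_quasiIso {K L : DRing.Cx A} (f : K ⟶ L) (hf : QuasiIso f) (i : ℤ) :
    K.ExactAt i ↔ L.ExactAt i := by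
  haveI := hf.quasiIsoAt i
  rw [HomologicalComplex.exactAt_iff_isZero_homology, HomologicalComplex.exactAt_iff_isZero_homology]
  exact (isoOfQuasiIsoAt f i).isZero_iff

/-- `P ⊗ N[0]` is `P ⊗ N` termwise. -/
noncomputable def tensorSingleIso (P : DRing.Cx A) (N : ModuleCat.{u} A) :
    P ⊗ (HomologicalComplex.single (ModuleCat.{u} A) (ComplexShape.up ℤ) 0).obj N ≅ (tens N).obj P :=
  let L : DRing.Cx A := (HomologicalComplex.single (ModuleCat.{u} A) (ComplexShape.up ℤ) 0).obj N
  KFlat.TotCompare.iso (G₁ := 𝟭 (ModuleCat.{u} A)) (G₂ := 𝟭 (ModuleCat.{u} A)) (F₁ := bi A) (F₂ := (bi A).flip)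
      P L P L (fun p q => β_ (P.X p) (L.X q))
      (fun p q => BraidedCategory.braiding_naturality_left (P.d p (p + 1)) (L.X q))
      (fun p q => BraidedCategory.braiding_naturality_right (P.X p) (L.d q (q + 1))) ≪≫
    KFlat.totFlipIso (F := bi A) L P ≪≫
    (KFlat.singleLeftIso (bi A) L P fun p hp => HomologicalComplex.isZero_single_obj_X _ _ _ _ hp).symm ≪≫
    (NatIso.mapHomologicalComplex
      ((bi A).mapIso (HomologicalComplex.singleObjXSelf (ComplexShape.up ℤ) 0 N) ≪≫
        BraidedCategory.tensorLeftIsoTensorRight N) (ComplexShape.up ℤ)).app P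

/-- The test does not depend on the representative. -/
theorem exactAt_test_iff {X P F : DRing.Cx A} {c : ℤ} (hP : IsProjRep P c)
    (e : DRing.toD P ≅ DRing.toD X) {N : ModuleCat.{u} A} (hF : IsFlatRes N F) (i : ℤ) :
    (X ⊗ F).ExactAt i ↔ ((tens N).obj P).ExactAt i := by
  obtain ⟨f, hf, -⟩ := exists_qis hP e
  obtain ⟨r, hr, hK⟩ := hF
  have h1 := H25DTen.quasiIso_whiskerRight f (L := F) hK
  have h2 := H25DTen.quasiIso_whiskerLeft P (isKFlat_of_flat hP.above hP.flat) r
  refine (exactAt_of_quasiIso _ h1 i).symm.trans ((exactAt_of_quasiIso _ h2 i).trans ?_)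
  exact ⟨fun h => h.of_iso (tensorSingleIso P N), fun h => h.of_iso (tensorSingleIso P N).symm⟩

/-- Tor amplitude gives exactness of the tests. -/
theorem exactAt_of_ta {X F : DRing.Cx A} {a b : ℤ}
    (h : DRing.HasTorAmplitudeIn A a b (DRing.toD X)) {N : ModuleCat.{u} A} (hF : IsFlatRes N F)
    {i : ℤ} (hi : i < a ∨ b < i) : (X ⊗ F).ExactAt i := by
  obtain ⟨P, c, hP, ⟨e⟩, hex⟩ := tv_of_ta h
  exact (exactAt_test_iff hP e hF i).2 (hex N i hi)

/-- Exactness of the tests gives tor amplitude, for bounded above cohomology. -/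
theorem ta_of_test {X : DRing.Cx A} {a b c : ℤ} (hc : ∀ i, c < i → X.ExactAt i)
    (h : ∀ (N : ModuleCat.{u} A) (F : DRing.Cx A), IsFlatRes N F → ∀ i : ℤ, (i < a ∨ b < i) →
      (X ⊗ F).ExactAt i) :
    DRing.HasTorAmplitudeIn A a b (DRing.toD X) := by
  obtain ⟨P, hP, ⟨e⟩⟩ := exists_projRep (K := DRing.toD X) (c := c) fun i hi =>
    ModuleCat.subsingleton_of_isZero ((hc i hi).isZero_homology.of_iso
      ((DerivedCategory.homologyFunctorFactors (ModuleCat.{u} A) i).app X))
  refine ta_of_tv ⟨P, c, hP, ⟨e⟩, fun M i hi => ?_⟩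
  obtain ⟨F, hF⟩ := exists_flatRes M
  exact (exactAt_test_iff hP e hF i).1 (h M F hF i hi)

/-- A bounded flat complex tensored with a complex with bounded cohomology. -/
theorem exactAt_flat_tensor {E S : DRing.Cx A} {a b c d : ℤ} (hE : DRing.VanishesOutside E a b)
    (hf : DRing.TermwiseFlat E) (hS : ∀ i, (i < c ∨ d < i) → S.ExactAt i) {i : ℤ}
    (hi : i < a + c ∨ b + d < i) : (E ⊗ S).ExactAt i := by
  have hK : KFlat.IsKFlat (bi A) E := isKFlat_of_flat (fun j hj => hE j (Or.inr hj)) hf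
  haveI : S.IsLE d := (CochainComplex.isLE_iff S d).2 fun j hj => hS j (Or.inr hj)
  haveI : (S.truncLE d).IsGE c := (CochainComplex.isGE_iff _ c).2 fun j hj =>
    (exactAt_of_quasiIso (S.ιTruncLE d) inferInstance j).2 (hS j (Or.inl hj))
  haveI : CochainComplex.IsStrictlyLE ((S.truncLE d).truncGE c) d := inferInstance
  have h1 := H25DTen.quasiIso_whiskerLeft E hK (S.ιTruncLE d)
  have h2 := H25DTen.quasiIso_whiskerLeft E hK ((S.truncLE d).πTruncGE c)
  refine (exactAt_of_quasiIso _ h1 i).1 ((exactAt_of_quasiIso _ h2 i).2 ?_)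
  refine (HomologicalComplex.exactAt_iff _ _).2 (ShortComplex.exact_of_isZero_X₂ _ ?_)
  refine vanishes_tensor i fun j k hjk => ?_
  by_cases hj : j < a ∨ b < j
  · exact Or.inl (hE j hj)
  · refine Or.inr ?_
    rcases hi with hi | hi
    · exact ((S.truncLE d).truncGE c).isZero_of_isStrictlyGE c k (by omega)
    · exact ((S.truncLE d).truncGE c).isZero_of_isStrictlyLE d k (by omega)

theorem exactAt_forget_iff (W : DRing.Cx A) (i : ℤ) :
    (((forget₂ (ModuleCat.{u} A) AddCommGrpCat.{u}).mapHomologicalComplex (ComplexShape.up ℤ)).obj W).ExactAt i ↔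
      W.ExactAt i := by
  rw [HomologicalComplex.exactAt_iff, HomologicalComplex.exactAt_iff]
  exact (ShortComplex.exact_iff_exact_map_forget₂ (W.sc i)).symm

variable (φ : A →+* B)

theorem exactAt_res_iff (W : DRing.Cx B) (i : ℤ) :
    ((DTen.resCx φ).obj W).ExactAt i ↔ W.ExactAt i := by
  rw [← exactAt_forget_iff, ← exactAt_forget_iff W]
  rfl

section BC

variable [Algebra A B]

/-- `M ⊗_B N' ≅ M ⊗_A N` over `A`, for `N' = B ⊗_A N`. -/
noncomputable def cancelLin (M : ModuleCat.{u} B) (N : ModuleCat.{u} A) (N' : ModuleCat.{u} B)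
    (e : TensorProduct A B N ≃ₗ[B] N') :
    (KFlat.BaseChange.res (R := A)).obj (M ⊗ N') ≅ (KFlat.BaseChange.res (R := A)).obj M ⊗ N :=
  letI : Module A M := Module.compHom M (algebraMap A B)
  haveI : IsScalarTower A B M := .of_algebraMap_smul fun _ _ => rfl
  let e₀ : TensorProduct B M N' ≃ₗ[B] TensorProduct A M N :=
    (TensorProduct.congr (LinearEquiv.refl B M) e.symm).trans
      (TensorProduct.AlgebraTensorModule.cancelBaseChange A B B M N)
  let X₁ : ModuleCat.{u} A := (KFlat.BaseChange.res (R := A)).obj (M ⊗ N')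
  let X₂ : ModuleCat.{u} A := (KFlat.BaseChange.res (R := A)).obj M ⊗ N
  let l : X₁ ≃ₗ[A] X₂ :=
    { toFun := fun z => e₀ z
      invFun := fun z => e₀.symm z
      map_add' := fun z w => e₀.map_add z w
      map_smul' := fun r z => (e₀.map_smul (algebraMap A B r) z).trans (algebraMap_smul B r (e₀ z))
      left_inv := e₀.left_inv
      right_inv := e₀.right_inv }
  l.toModuleIso

lemma cancelLin_tmul (M : ModuleCat.{u} B) (N : ModuleCat.{u} A) (N' : ModuleCat.{u} B)
    (e : TensorProduct A B N ≃ₗ[B] N') (m : M) (r : B) (n : N) :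
    (cancelLin M N N' e).hom.hom (m ⊗ₜ[B] e (r ⊗ₜ[A] n)) =
      (show (KFlat.BaseChange.res (R := A)).obj M from r • m) ⊗ₜ[A] n :=
  KFlat.BaseChange.cancel_tmul M N N' e m r n

/-- `W ⊗_B K' ≅ W ⊗_A K` over `A`, for `K' = B ⊗_A K`. -/
noncomputable def bcIso (W K' : DRing.Cx B) (K : DRing.Cx A) (e : ∀ q, TensorProduct A B (K.X q) ≃ₗ[B] K'.X q)
    (he : ∀ q t, K'.d q (q + 1) (e q t) = e (q + 1) ((K.d q (q + 1)).hom.lTensor B t)) :
    (DTen.resCx (algebraMap A B)).obj (W ⊗ K') ≅ (DTen.resCx (algebraMap A B)).obj W ⊗ K :=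
  KFlat.TotCompare.iso (G₁ := KFlat.BaseChange.res (R := A) (S := B)) (G₂ := 𝟭 (ModuleCat.{u} A))
    (F₁ := curriedTensor (ModuleCat.{u} B)) (F₂ := curriedTensor (ModuleCat.{u} A)) W K'
    ((DTen.resCx (algebraMap A B)).obj W) K
    (fun p q => cancelLin (W.X p) (K.X q) (K'.X q) (e q))
    (fun p q => by
      refine ModuleCat.hom_ext (LinearMap.toAddMonoidHom_injective
        (KFlat.BaseChange.addHom_ext (e q) _ _ fun m r n => ?_))
      show (cancelLin (W.X (p + 1)) (K.X q) (K'.X q) (e q)).hom.hom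
          ((W.d p (p + 1)).hom.rTensor (K'.X q) (m ⊗ₜ[B] e q (r ⊗ₜ[A] n))) =
        (((DTen.resCx (algebraMap A B)).obj W).d p (p + 1)).hom.rTensor (K.X q)
          ((cancelLin (W.X p) (K.X q) (K'.X q) (e q)).hom.hom (m ⊗ₜ[B] e q (r ⊗ₜ[A] n)))
      rw [LinearMap.rTensor_tmul, cancelLin_tmul, cancelLin_tmul]
      exact congrArg (fun z => TensorProduct.tmul A z n) ((W.d p (p + 1)).hom.map_smul r m).symm)
    (fun p q => by
      refine ModuleCat.hom_ext (LinearMap.toAddMonoidHom_injective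
        (KFlat.BaseChange.addHom_ext (e q) _ _ fun m r n => ?_))
      show (cancelLin (W.X p) (K.X (q + 1)) (K'.X (q + 1)) (e (q + 1))).hom.hom
          ((K'.d q (q + 1)).hom.lTensor (W.X p) (m ⊗ₜ[B] e q (r ⊗ₜ[A] n))) =
        (K.d q (q + 1)).hom.lTensor (((DTen.resCx (algebraMap A B)).obj W).X p)
          ((cancelLin (W.X p) (K.X q) (K'.X q) (e q)).hom.hom (m ⊗ₜ[B] e q (r ⊗ₜ[A] n)))
      rw [LinearMap.lTensor_tmul, he, LinearMap.lTensor_tmul, cancelLin_tmul, cancelLin_tmul]
      rfl) ≪≫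
    (Functor.mapHomologicalComplexIdIso _ _).app _

end BC

/-- `res (W ⊗_B (F ⊗_A B))` and `res W ⊗_A F` have the same exactness. -/
theorem exactAt_tensor_ext_iff (W : DRing.Cx B) (F : DRing.Cx A) (i : ℤ) :
    (W ⊗ (DTen.extCx φ).obj F).ExactAt i ↔ ((DTen.resCx φ).obj W ⊗ F).ExactAt i := by
  letI := φ.toAlgebra
  let e : ∀ q, TensorProduct A B (F.X q) ≃ₗ[B] ((DTen.extCx φ).obj F).X q := fun q =>
    { toFun := fun x => x
      invFun := fun x => x
      map_add' := fun _ _ => rfl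
      map_smul' := fun _ _ => rfl
      left_inv := fun _ => rfl
      right_inv := fun _ => rfl }
  let i₀ := bcIso W ((DTen.extCx φ).obj F) F e (fun q t => rfl)
  exact (exactAt_res_iff φ _ i).symm.trans ⟨fun h => h.of_iso i₀, fun h => h.of_iso i₀.symm⟩

/-- The tensor product lemma for tor amplitude. -/
theorem ta_res_tensor {E L : DRing.Cx B} {a b c d : ℤ} (hE : DRing.VanishesOutside E a b)
    (hf : DRing.TermwiseFlat E)
    (hL : DRing.HasTorAmplitudeIn A c d (DRing.toD ((DTen.resCx φ).obj L))) :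
    DRing.HasTorAmplitudeIn A (a + c) (b + d) (DRing.toD ((DTen.resCx φ).obj (E ⊗ L))) := by
  have hb : ∀ i, (i < c ∨ d < i) → L.ExactAt i := fun i hi => by
    refine (exactAt_res_iff φ L i).1 ((HomologicalComplex.exactAt_iff_isZero_homology _ _).2 ?_)
    haveI := bound_of_ta hL i hi
    exact (ModuleCat.isZero_of_iff_subsingleton.2 inferInstance).of_iso
      ((DerivedCategory.homologyFunctorFactors (ModuleCat.{u} A) i).app _).symm
  refine ta_of_test (c := b + d) (fun i hi => (exactAt_res_iff φ _ i).2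
    (exactAt_flat_tensor hE hf hb (Or.inr hi))) fun N F hF i hi => ?_
  refine (exactAt_tensor_ext_iff φ (E ⊗ L) F i).1 (HomologicalComplex.ExactAt.of_iso ?_ (α_ E L _).symm)
  refine exactAt_flat_tensor hE hf (fun j hj => ?_) hi
  exact (exactAt_tensor_ext_iff φ L F j).2 (exactAt_of_ta hL hF hj)

end Groth.Agent.H16Derived.TorTest
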