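import Groth.Agent.H16Derived.TorTest.TildeAmp
import Groth.Agent.H16Derived.TorTest.Ring

/-!
# Tor amplitude over the base of `M~`
-/

set_option autoImplicit false
set_option linter.style.haveILetI false
set_option backward.isDefEq.respectTransparency false

universe u

open CategoryTheory CategoryTheory.Limits AlgebraicGeometry TensorProduct MonoidalCategory
open Groth.Agent.H16Derived Groth.Agent.H16Derived.KFlat Groth.Agent.H16Derived.KFlat.Stalk
open Groth.Agent.H16Derived.KFlat.TildeStalk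
open Groth.Agent.H4DR.TorAmp
open Groth.Agent.H4DR.KFlatMod (bi)

attribute [local instance] HasDerivedCategory.standard

namespace Groth.Agent.H16Derived.TorTest

variable {R A B C : Type u} [CommRing R] [CommRing A] [CommRing B] [CommRing C]

/-- The symmetry of the tensor product of complexes. -/
noncomputable def swapIso (P L : DRing.Cx A) : P ⊗ L ≅ L ⊗ P :=
  KFlat.TotCompare.iso (G₁ := 𝟭 (ModuleCat.{u} A)) (G₂ := 𝟭 (ModuleCat.{u} A)) (F₁ := bi A) (F₂ := (bi A).flip)
      P L P L (fun p q => β_ (P.X p) (L.X q))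
      (fun p q => BraidedCategory.braiding_naturality_left (P.d p (p + 1)) (L.X q))
      (fun p q => BraidedCategory.braiding_naturality_right (P.X p) (L.d q (q + 1))) ≪≫
    KFlat.totFlipIso (F := bi A) L P

/-- `B` as a complex over `A` in degree zero. -/
noncomputable abbrev algCx (ψ : A →+* B) : DRing.Cx A :=
  (HomologicalComplex.single (ModuleCat.{u} A) (ComplexShape.up ℤ) 0).obj
    ((ModuleCat.restrictScalars.{u} ψ).obj (ModuleCat.of B B))

/-- `res (B ⊗ X) ≅ X ⊗ B[0]`. -/
noncomputable def resExtIso (ψ : A →+* B) (X : DRing.Cx A) :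
    (DTen.resCx ψ).obj ((DTen.extCx ψ).obj X) ≅ X ⊗ algCx ψ :=
  (NatIso.mapHomologicalComplex
    (H25DTen.extResIso ψ ≪≫
      BraidedCategory.tensorLeftIsoTensorRight ((ModuleCat.restrictScalars.{u} ψ).obj (ModuleCat.of B B)))
    (ComplexShape.up ℤ)).app X ≪≫ (tensorSingleIso X _).symm

/-- `res (B ⊗ (K ⊗ F)) ≅ res (B ⊗ K) ⊗ F`. -/
noncomputable def resExtTensorIso (ψ : A →+* B) (K F : DRing.Cx A) :
    (DTen.resCx ψ).obj ((DTen.extCx ψ).obj (K ⊗ F)) ≅
      (DTen.resCx ψ).obj ((DTen.extCx ψ).obj K) ⊗ F :=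
  resExtIso ψ _ ≪≫ swapIso _ _ ≪≫ (α_ (algCx ψ) K F).symm ≪≫
    whiskerRightIso (swapIso (algCx ψ) K ≪≫ (resExtIso ψ K).symm) F

/-- Restriction along a composite. -/
noncomputable def resCompCx (φ : R →+* A) (ψ : A →+* B) (χ : R →+* B) (h : χ = ψ.comp φ) (W : DRing.Cx B) :
    (DTen.resCx χ).obj W ≅ (DTen.resCx φ).obj ((DTen.resCx ψ).obj W) :=
  (NatIso.mapHomologicalComplex (ModuleCat.restrictScalarsComp'.{u} φ ψ χ h) (ComplexShape.up ℤ)).app W

/-- Tor amplitude over `R` is local for flat conservative families of `A`-algebras. -/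
theorem ta_restrict_descent (φ : R →+* A) {ι : Type*} (S : ι → Type u) [∀ k, CommRing (S k)]
    (ψ : ∀ k, A →+* S k) (hflat : ∀ k, (ψ k).Flat)
    (hcons : ∀ X : ModuleCat.{u} A,
      (∀ k, IsZero ((ModuleCat.extendScalars.{u, u, u} (ψ k)).obj X)) → IsZero X)
    (K : DRing.Cx A) (a b : ℤ)
    (hK : ∀ k, DRing.HasTorAmplitudeIn R a b (DRing.toD
      ((DTen.resCx φ).obj ((DTen.resCx (ψ k)).obj ((DTen.extCx (ψ k)).obj K))))) :
    DRing.HasTorAmplitudeIn R a b (DRing.toD ((DTen.resCx φ).obj K)) := by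
  haveI : ∀ k, PreservesFiniteLimits (ModuleCat.extendScalars.{u, u, u} (ψ k)) := fun k =>
    ModuleCat.preservesFiniteLimits_extendScalars_of_flat (hflat k)
  have key : ∀ (Y : DRing.Cx A) (i : ℤ),
      (∀ k, ((DTen.resCx (ψ k)).obj ((DTen.extCx (ψ k)).obj Y)).ExactAt i) → Y.ExactAt i := fun Y i h =>
    (HomologicalComplex.exactAt_iff_isZero_homology _ _).2
      (hcons _ fun k => (exactAt_map_iff _ Y i).1 ((exactAt_res_iff (ψ k) _ i).1 (h k)))
  refine ta_of_test (c := b) (fun i hi => (exactAt_res_iff φ K i).2 (key K i fun k => ?_))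
    fun N F hF i hi => ?_
  · exact (exactAt_res_iff φ _ i).1 ((subsingleton_HD_toD_iff _ i).1 (bound_of_ta (hK k) i (Or.inr hi)))
  · refine (exactAt_tensor_ext_iff φ K F i).1 (key _ i fun k => ?_)
    exact ((exactAt_tensor_ext_iff φ _ F i).2 (exactAt_of_ta (hK k) hF hi)).of_iso
      (resExtTensorIso (ψ k) K ((DTen.extCx φ).obj F)).symm

/-- A flat extension of scalars does not increase the tor amplitude over `R`. -/
theorem ta_restrict_extend (φ : R →+* A) (ψ : A →+* B) (hψ : ψ.Flat) {K : DRing.Cx A} {a b : ℤ}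
    (hK : DRing.HasTorAmplitudeIn R a b (DRing.toD ((DTen.resCx φ).obj K))) :
    DRing.HasTorAmplitudeIn R a b
      (DRing.toD ((DTen.resCx φ).obj ((DTen.resCx ψ).obj ((DTen.extCx ψ).obj K)))) := by
  have hv : DRing.VanishesOutside (algCx ψ) 0 0 := fun i hi =>
    HomologicalComplex.isZero_single_obj_X _ _ _ _ (by omega)
  have hf : DRing.TermwiseFlat (algCx ψ) := fun i => by
    by_cases hi : i = 0
    · subst hi
      letI := ψ.toAlgebra
      haveI : Module.Flat A ((ModuleCat.restrictScalars.{u} ψ).obj (ModuleCat.of B B)) := hψ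
      exact Module.Flat.of_linearEquiv (M := ((ModuleCat.restrictScalars.{u} ψ).obj (ModuleCat.of B B) : Type u))
        (HomologicalComplex.singleObjXSelf (ComplexShape.up ℤ) 0 _).toLinearEquiv
    · haveI := ModuleCat.subsingleton_of_isZero (HomologicalComplex.isZero_single_obj_X
        (ComplexShape.up ℤ) 0 ((ModuleCat.restrictScalars.{u} ψ).obj (ModuleCat.of B B)) i hi)
      infer_instance
  have h := ta_res_tensor φ hv hf hK
  rw [zero_add, zero_add] at h
  exact ta_of_iso (DerivedCategory.Q.mapIso ((DTen.resCx φ).mapIso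
    (swapIso (algCx ψ) K ≪≫ (resExtIso ψ K).symm))) h

/-- Tor amplitude over a localization of the base. -/
theorem ta_of_localization [Algebra R C] (M : Submonoid R) [IsLocalization M C] {W : DRing.Cx C} {a b : ℤ}
    (h : DRing.HasTorAmplitudeIn R a b (DRing.toD ((DTen.resCx (algebraMap R C)).obj W))) :
    DRing.HasTorAmplitudeIn C a b (DRing.toD W) := by
  have hfl : (algebraMap R C).Flat := RingHom.flat_algebraMap_iff.2 (IsLocalization.flat C M)
  haveI : PreservesFiniteLimits (ModuleCat.extendScalars.{u, u, u} (algebraMap R C)) :=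
    ModuleCat.preservesFiniteLimits_extendScalars_of_flat hfl
  refine ta_of_iso ((ModuleCat.extendScalars.{u, u, u} (algebraMap R C)).mapDerivedCategoryFactors.app _ ≪≫
    DerivedCategory.Q.mapIso ?_) (ta_extend (algebraMap R C) hfl h)
  haveI : (ModuleCat.restrictScalars.{u} (algebraMap R C)).Full :=
    ⟨fun {N N'} g => by
      letI : Module R N := Module.compHom N (algebraMap R C)
      haveI : IsScalarTower R C N := .of_algebraMap_smul fun _ _ => rfl
      letI : Module R N' := Module.compHom N' (algebraMap R C)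
      haveI : IsScalarTower R C N' := .of_algebraMap_smul fun _ _ => rfl
      haveI := IsLocalization.linearMap_compatibleSMul M C N N'
      let g' : N →ₗ[R] N' := g.hom
      exact ⟨ModuleCat.ofHom { toFun := g', map_add' := g'.map_add, map_smul' := fun c n => g'.map_smul_of_tower c n },
        rfl⟩⟩
  haveI hc : IsIso (ModuleCat.extendRestrictScalarsAdj.{u, u, u} (algebraMap R C)).counit :=
    (ModuleCat.extendRestrictScalarsAdj.{u, u, u} (algebraMap R C)).counit_isIso_of_R_fully_faithful
  exact (NatIso.mapHomologicalComplex (asIso (ModuleCat.extendRestrictScalarsAdj.{u, u, u}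
    (algebraMap R C)).counit) (ComplexShape.up ℤ)).app W

theorem toRing_comp (φ : R →+* A) (x : (Spec (CommRingCat.of A) : Scheme.{u})) :
    (toRing (R := CommRingCat.of A) x).comp φ =
      (((Spec.map (CommRingCat.ofHom φ)).stalkMap x).hom).comp
        (toRing (R := CommRingCat.of R) ((Spec.map (CommRingCat.ofHom φ)).base x)) :=
  congrArg CommRingCat.Hom.hom (show CommRingCat.ofHom φ ≫ (Scheme.ΓSpecIso (CommRingCat.of A)).inv ≫
      (Spec (CommRingCat.of A)).presheaf.germ ⊤ x trivial =
    ((Scheme.ΓSpecIso (CommRingCat.of R)).inv ≫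
      (Spec (CommRingCat.of R)).presheaf.germ ⊤ ((Spec.map (CommRingCat.ofHom φ)).base x) trivial) ≫
      (Spec.map (CommRingCat.ofHom φ)).stalkMap x by
    rw [Category.assoc, Scheme.Hom.germ_stalkMap, ← Scheme.ΓSpecIso_inv_naturality_assoc]
    rfl)

variable [PreservesFiniteLimits (tilde.functor (CommRingCat.of A))]

/-- The stalk of `M~` over the base. -/
noncomputable def relTildeStalkIso (φ : R →+* A) (x : (Spec (CommRingCat.of A) : Scheme.{u})) (K : DRing.Cx A) :
    (DerSch.stalkCxOver (Spec.map (CommRingCat.ofHom φ)) x).obj (tfCx K) ≅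
      (DTen.resCx ((Spec.map (CommRingCat.ofHom φ)).stalkMap x).hom).obj
        ((DTen.extCx (toRing (R := CommRingCat.of A) x)).obj K) :=
  (DTen.resCx ((Spec.map (CommRingCat.ofHom φ)).stalkMap x).hom).mapIso
    ((NatIso.mapHomologicalComplex (tildeStalkNatIso x) (ComplexShape.up ℤ)).app K)

theorem tildeStalk_cons (N : ModuleCat.{u} A)
    (hN : ∀ x : (Spec (CommRingCat.of A) : Scheme.{u}),
      IsZero ((ModuleCat.extendScalars.{u, u, u} (toRing (R := CommRingCat.of A) x)).obj N)) : IsZero N := by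
  let T := (tf A).obj N
  refine isZero_of_isZero_tilde (((Stalk.exact_iff (ShortComplex.mk (0 : T ⟶ T) (0 : T ⟶ T) zero_comp)).2
    fun x => ShortComplex.exact_of_isZero_X₂ _ ((hN x).of_iso ((tildeStalkNatIso x).app N))).isZero_of_both_zeros
      rfl rfl)

/-- **Tor amplitude of `M~` over the base.** -/
theorem hasTorAmplitude_tildeD_iff (φ : R →+* A) (M : Dual.D A)
    (F : CochainComplex (Spec (CommRingCat.of A)).Modules ℤ)
    (eF : DCoh.toD (Spec (CommRingCat.of A)) F ≅ (DCoh.tildeD (CommRingCat.of A)).obj M) (a b : ℤ) :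
    DerSch.HasTorAmplitude (Spec.map (CommRingCat.ofHom φ)) a b F ↔
      DRing.HasTorAmplitudeIn R a b ((DRing.restrictD φ).obj M) := by
  obtain ⟨K, ⟨eM⟩⟩ : ∃ K : DRing.Cx A, Nonempty (DRing.toD K ≅ M) :=
    ⟨_, ⟨DerivedCategory.Q.objObjPreimageIso M⟩⟩
  let f : (Spec (CommRingCat.of A) : Scheme.{u}) ⟶ Spec (CommRingCat.of R) := Spec.map (CommRingCat.ofHom φ)
  let e : DCoh.toD _ (tfCx K) ≅ DCoh.toD _ F :=
    (tildeDQ K).symm ≪≫ (DCoh.tildeD (CommRingCat.of A)).mapIso eM ≪≫ eF.symm
  let eR : DRing.toD ((DTen.resCx φ).obj K) ≅ (DRing.restrictD φ).obj M :=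
    ((DTen.resFactors φ).app K).symm ≪≫ (DRing.restrictD φ).mapIso eM
  let c := fun (x : (Spec (CommRingCat.of A) : Scheme.{u})) => (resCompCx φ (toRing (R := CommRingCat.of A) x) _
      rfl ((DTen.extCx (toRing (R := CommRingCat.of A) x)).obj K)).symm ≪≫
    resCompCx (toRing (R := CommRingCat.of R) (f.base x)) (f.stalkMap x).hom _ (toRing_comp φ x) _
  constructor
  · intro h
    refine ta_of_iso eR (ta_restrict_descent φ _ (fun x => toRing (R := CommRingCat.of A) x) flat_toRing
      tildeStalk_cons K a b fun x => ?_)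
    have h1 := ta_of_iso (DerivedCategory.Q.mapIso (relTildeStalkIso φ x K))
      (hasTorAmplitude_of_iso e.symm h x)
    letI := (toRing (R := CommRingCat.of R) (f.base x)).toAlgebra
    have h2 := ta_restrict (A := R) (d := 0) ((ta_inD_iff 0 (ModuleCat.of R _)).2
      (H8Props.PseudoCoh.hasTorDimLE_zero_iff.2 (flat_toRing (f.base x)))) h1
    rw [Nat.cast_zero, sub_zero] at h2
    exact ta_of_iso ((DTen.resFactors _).app _ ≪≫ (DerivedCategory.Q.mapIso (c x)).symm) h2
  · intro h
    refine hasTorAmplitude_of_iso e fun x => ta_of_iso (DerivedCategory.Q.mapIso (relTildeStalkIso φ x K)).symm ?_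
    have h1 := ta_of_iso (DerivedCategory.Q.mapIso (c x))
      (ta_restrict_extend φ (toRing (R := CommRingCat.of A) x) (flat_toRing x) (ta_of_iso eR.symm h))
    letI := (toRing (R := CommRingCat.of R) (f.base x)).toAlgebra
    haveI : IsLocalization.AtPrime ((Spec (CommRingCat.of R)).presheaf.stalk (f.base x))
        (f.base x : PrimeSpectrum R).asIdeal := StructureSheaf.IsLocalization.to_stalk (R := R) (f.base x)
    exact ta_of_localization (f.base x : PrimeSpectrum R).asIdeal.primeCompl h1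

end Groth.Agent.H16Derived.TorTest
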