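import Groth.Agent.H16Derived.BaseChange.RelFlatPull
import Groth.Agent.H16Derived.KFlat.PerfNoeth
import Groth.Agent.H06EGA11.Sheaf
import Groth.Agent.H8Props.PCCriteria
import Groth.Agent.H8Props.NilThickStalk

/-!
# Finitely presented modules flat over the base are pseudo-coherent
-/

set_option autoImplicit false
set_option linter.style.haveILetI false
set_option backward.isDefEq.respectTransparency false

universe u

open CategoryTheory CategoryTheory.Limits AlgebraicGeometry
open Groth.Agent.H16Derived Groth.Agent.H16Derived.KFlat Groth.Agent.H16Derived.KFlat.Stalk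

attribute [local instance] HasDerivedCategory.standard

namespace Groth.Agent.H16Derived.TorTest

variable {X S : Scheme.{u}}

/-- Flatness over the base restricts to opens. -/
theorem isFlatOver_restrict (f : X ⟶ S) {U : Scheme.{u}} (j : U ⟶ X) [IsOpenImmersion j] {M : X.Modules}
    (h : FlatMod.IsFlatOver f M) : FlatMod.IsFlatOver (j ≫ f) (M.restrict j) :=
  fun y => BaseChange.isFlatOverAt_of_iso ((Scheme.Modules.restrictFunctorIsoPullback j).app M).symm
    (BaseChange.isFlatOver_pullback_of_flat j f h y)

attribute [local instance] H06Mod.stalkAlgebra in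
/-- Kernels of surjections of modules flat over the base. -/
theorem isFlatOver_left {f : X ⟶ S} {T : ShortComplex X.Modules} (hT : T.ShortExact)
    (h₂ : FlatMod.IsFlatOver f T.X₂) (h₃ : FlatMod.IsFlatOver f T.X₃) : FlatMod.IsFlatOver f T.X₁ := fun x => by
  letI := fun M : X.Modules => FlatMod.moduleStalkOver f M x
  haveI : Module.Flat (S.presheaf.stalk (f.base x)) (T.X₂.presheaf.stalk x) := h₂ x
  haveI : Module.Flat (S.presheaf.stalk (f.base x)) (T.X₃.presheaf.stalk x) := h₃ x
  haveI : ∀ M : X.Modules, IsScalarTower (S.presheaf.stalk (f.base x)) (X.presheaf.stalk x) (M.presheaf.stalk x) :=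
    fun M => .of_algebraMap_smul fun _ _ => rfl
  exact H8Props.flat_of_exact ((H06Mod.stalkLin T.f x).restrictScalars (S.presheaf.stalk (f.base x)))
    ((H06Mod.stalkLin T.g x).restrictScalars (S.presheaf.stalk (f.base x)))
    (H06Mod.stalk_injective T hT x) (H06Mod.stalk_exact T hT x) (H06Mod.stalk_surjective T hT x)

/-- Finitely presented modules flat over the base, for a flat morphism locally of finite presentation. -/
theorem isPseudoCoherentD_inD_of_relFlat' (n : ℕ) : ∀ {X S : Scheme.{u}} (f : X ⟶ S) [Flat f]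
    [LocallyOfFinitePresentation f] {M : X.Modules}, CohB1.IsFP M → FlatMod.IsFlatOver f M →
      DCoh.IsPseudoCoherentD (-(n : ℤ)) (DCoh.inD X M) := by
  induction n with
  | zero =>
    intro X S f _ _ M hM _
    simpa using isPseudoCoherentD_inD_of_isFT (H29Fitt.isFT_of_isFP _ hM)
  | succ n ih =>
    intro X S f _ _ M hM hflat
    refine isPseudoCoherentD_of_rd fun x => ?_
    obtain ⟨V, L, p, hx, hL, hp⟩ := exists_epi_finLocFree (H29Fitt.isFT_of_isFP _ hM) x
    haveI := hp
    refine ⟨V, hx, isPseudoCoherentD_of_iso (rdInD V.ι M).symm ?_⟩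
    let T := ShortComplex.mk (kernel.ι p) p (kernel.condition p)
    have hT : T.ShortExact := { exact := ShortComplex.exact_of_f_is_kernel _ (kernelIsKernel p) }
    have hMV := isFlatOver_restrict f V.ι hflat
    have hK : CohB1.IsFP (kernel p) := H06EGA11.isFP_kernel_of_isFlatOver (V.ι ≫ f)
      (H8Props.FinLocFree.isFP_of_isFinLocFree _ hL) (isFP_restrict V.ι hM) hMV p
    have hKf : FlatMod.IsFlatOver (V.ι ≫ f) (kernel p) :=
      isFlatOver_left hT (BaseChange.isFlatOver_of_isFlat (V.ι ≫ f) (isFlat_of_isFinLocFree hL)) hMV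
    exact isPseudoCoherentD_obj₃ hT.singleTriangle_distinguished
      (by
        have h := ih (V.ι ≫ f) hK hKf
        have e : -((n + 1 : ℕ) : ℤ) + 1 = -(n : ℤ) := by omega
        rw [e]; exact h)
      (isPseudoCoherentD_of_isPerfect (isPerfect_inD hL) _)

/-- Finitely presented modules flat over the base are pseudo-coherent. -/
theorem isPseudoCoherentD_inD_of_relFlat (f : X ⟶ S) [Flat f] [LocallyOfFinitePresentation f] {M : X.Modules}
    (hM : CohB1.IsFP M) (hflat : FlatMod.IsFlatOver f M) (m : ℤ) : DCoh.IsPseudoCoherentD m (DCoh.inD X M) :=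
  isPseudoCoherentD_mono (isPseudoCoherentD_inD_of_relFlat' (-m).toNat f hM hflat) (by omega)

/-- Bounded above complexes of such modules are pseudo-coherent. -/
theorem isPseudoCoherentD_of_relFlat (f : X ⟶ S) [Flat f] [LocallyOfFinitePresentation f]
    {F : CochainComplex X.Modules ℤ} (b : ℤ) (hb : ∀ i, b < i → IsZero (F.X i))
    (h : ∀ i, CohB1.IsFP (F.X i) ∧ FlatMod.IsFlatOver f (F.X i)) (m : ℤ) :
    DCoh.IsPseudoCoherentD m (DCoh.toD X F) :=
  H8Props.PushPC.pc_of_termwise m (b - (m - 1)).toNat (fun i hi => hb i (by omega))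
    fun i => isPseudoCoherentD_inD_of_relFlat f (h i).1 (h i).2 _

end Groth.Agent.H16Derived.TorTest
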