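import Groth.Agent.H16Derived.KFlat.PerfTilde
import Groth.Agent.H16Derived.KFlat.TildeStalk
import Groth.Agent.H16Derived.TorTest.PushStalkAmp
import Groth.Agent.H4DR.TorAmp.Descent

/-!
# Tor amplitude on affine schemes
-/

set_option autoImplicit false
set_option linter.style.haveILetI false
set_option backward.isDefEq.respectTransparency false

universe u

open CategoryTheory CategoryTheory.Limits AlgebraicGeometry TensorProduct
open Groth.Agent.H16Derived Groth.Agent.H16Derived.KFlat Groth.Agent.H16Derived.KFlat.Stalk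
open Groth.Agent.H16Derived.KFlat.TildeStalk
open Groth.Agent.H4DR.TorAmp
attribute [local instance] TildeStalk.algebra

attribute [local instance] HasDerivedCategory.standard

namespace Groth.Agent.H16Derived.TorTest

variable {A : Type u} [CommRing A]

/-- The stalk of `M~` at `x`, naturally. -/
noncomputable def tildeStalkNatIso (x : (Spec (CommRingCat.of A) : Scheme.{u})) :
    tf A ⋙ DerSch.stalkFunctor (Spec (CommRingCat.of A)) x ≅
      ModuleCat.extendScalars.{u, u, u} (toRing (R := CommRingCat.of A) x) :=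
  (NatIso.ofComponents (fun M => LinearEquiv.toModuleIso
      (X₁ := (ModuleCat.extendScalars.{u, u, u} (toRing (R := CommRingCat.of A) x)).obj M)
      (X₂ := (tf A ⋙ DerSch.stalkFunctor (Spec (CommRingCat.of A)) x).obj M)
      (stalkEquiv (R := CommRingCat.of A) M x))
    (fun {M N} g => by
      ext t
      letI : Algebra (CommRingCat.of A) ((Spec (CommRingCat.of A)).presheaf.stalk x) := TildeStalk.algebra (R := CommRingCat.of A) x
      exact stalkLinMap_naturality (R := CommRingCat.of A) M x g (1 ⊗ₜ t))).symm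

theorem flat_toRing (x : (Spec (CommRingCat.of A) : Scheme.{u})) :
    (toRing (R := CommRingCat.of A) x).Flat := by
  refine RingHom.Flat.comp (RingHom.Flat.of_bijective (ConcreteCategory.bijective_of_isIso
    (Scheme.ΓSpecIso (CommRingCat.of A)).inv)) ?_
  let U : (Spec (CommRingCat.of A) : Scheme.{u}).Opens := ⊤
  letI := TopCat.Presheaf.algebra_section_stalk (Spec (CommRingCat.of A)).presheaf (⟨x, trivial⟩ : U)
  haveI := (isAffineOpen_top (Spec (CommRingCat.of A))).isLocalization_stalk ⟨x, trivial⟩
  exact RingHom.flat_algebraMap_iff.2 (IsLocalization.flat _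
    ((isAffineOpen_top (Spec (CommRingCat.of A))).primeIdealOf ⟨x, trivial⟩).asIdeal.primeCompl)

variable [PreservesFiniteLimits (tilde.functor (CommRingCat.of A))]

/-- **Tor amplitude of `M~` and of `M`.** -/
theorem hasFlatAmplitudeIn_tildeD_iff (M : Dual.D A) (a b : ℤ) :
    DCoh.HasFlatAmplitudeIn a b ((DCoh.tildeD (CommRingCat.of A)).obj M) ↔ DRing.HasTorAmplitudeIn A a b M := by
  constructor
  · rintro ⟨C, hv, hf, ⟨e⟩⟩
    let E₀ := DerivedCategory.Q.objPreimage M
    let eM : DRing.toD E₀ ≅ M := DerivedCategory.Q.objObjPreimageIso M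
    refine ta_of_iso eM (ta_descent (fun x : (Spec (CommRingCat.of A) : Scheme.{u}) => _)
      (fun x => toRing (R := CommRingCat.of A) x) flat_toRing (fun N hN => ?_) E₀ a b fun x => ?_)
    · let T := (tf A).obj N
      refine isZero_of_isZero_tilde (((Stalk.exact_iff (ShortComplex.mk (0 : T ⟶ T) (0 : T ⟶ T) zero_comp)).2
        fun x => ShortComplex.exact_of_isZero_X₂ _ ((hN x).of_iso ((tildeStalkNatIso x).app N))).isZero_of_both_zeros
          rfl rfl)
    · have h := hasTorAmplitude_of_iso (e ≪≫ (DCoh.tildeD (CommRingCat.of A)).mapIso eM.symm ≪≫ tildeDQ E₀)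
        (hasTorAmplitude_of_flat (𝟙 _) hv fun i => isFlatOver_id (hf i)) x
      exact ta_of_iso (DerivedCategory.Q.mapIso ((NatIso.mapHomologicalComplex (stalkOverIdIso x) (ComplexShape.up ℤ)).app (tfCx E₀) ≪≫
        (NatIso.mapHomologicalComplex (tildeStalkNatIso x) (ComplexShape.up ℤ)).app E₀)) h
  · rintro ⟨E, hv, hf, ⟨e⟩⟩
    exact ⟨tfCx E, fun i hi => (tf A).map_isZero (hv i hi), fun i => (isFlat_tilde_iff _).2 (hf i),
      ⟨(tildeDQ E).symm ≪≫ (DCoh.tildeD (CommRingCat.of A)).mapIso e⟩⟩

end Groth.Agent.H16Derived.TorTest
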