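import Groth.Agent.H16Derived.TorTest.TorDimLoc
import Groth.Agent.H16Derived.TorTest.TildeAmp
import Groth.Agent.H16Derived.KFlat.TorAmp
import Groth.Agent.S6200

/-!
# Descent of tor amplitude along flat surjective morphisms
-/

set_option autoImplicit false
set_option linter.style.haveILetI false
set_option backward.isDefEq.respectTransparency false

universe u

open CategoryTheory CategoryTheory.Limits AlgebraicGeometry TensorProduct
open Groth.Agent.H16Derived Groth.Agent.H16Derived.KFlat Groth.Agent.H16Derived.KFlat.Stalk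
open Groth.Agent.H4DR.TorAmp

attribute [local instance] HasDerivedCategory.standard

namespace Groth.Agent.H16Derived.TorTest

variable {X Y : Scheme.{u}}

/-- The stalk of a pullback, naturally. -/
noncomputable def pullStalkExtIso (f : X ⟶ Y) (x : X) :
    Scheme.Modules.pullback f ⋙ DerSch.stalkFunctor X x ≅
      DerSch.stalkFunctor Y (f.base x) ⋙ ModuleCat.extendScalars.{u, u, u} (f.stalkMap x).hom :=
  (NatIso.ofComponents (fun M => LinearEquiv.toModuleIso
      (X₁ := (DerSch.stalkFunctor Y (f.base x) ⋙ ModuleCat.extendScalars.{u, u, u} (f.stalkMap x).hom).obj M)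
      (X₂ := (Scheme.Modules.pullback f ⋙ DerSch.stalkFunctor X x).obj M)
      (H06Mod.pullStalkEquiv f M x))
    (fun {M N} g => by
      ext m
      letI := H06Mod.stalkAlgebra f x
      exact pullStalkLin_naturality f x g m)).symm

/-- Tor amplitude descends along flat surjective morphisms. -/
theorem hasFlatAmplitudeIn_descend (f : X ⟶ Y) [Flat f] [Surjective f] [DCoh.HasLpull f] (E : DCoh.D Y)
    (a b : ℤ) (h : DCoh.HasFlatAmplitudeIn a b ((DCoh.Lpull f).obj E)) :
    DCoh.HasFlatAmplitudeIn a b E := by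
  obtain ⟨P, hP, ⟨eP⟩⟩ := exists_kflat_rep E
  obtain ⟨C, hv, hf, ⟨e⟩⟩ := h
  have hX := hasTorAmplitude_of_iso (e ≪≫ ((DCoh.Lpull f).mapIso eP.symm ≪≫ lpullObjIso f P hP))
    (hasTorAmplitude_of_flat (𝟙 X) hv fun i => isFlatOver_id (hf i))
  have hY : DerSch.HasTorAmplitude (𝟙 Y) a b P := fun y => by
    obtain ⟨x, rfl⟩ := Surjective.surj (f := f) y
    refine ta_of_iso (DerivedCategory.Q.mapIso
      ((NatIso.mapHomologicalComplex (stalkOverIdIso (f.base x)) (ComplexShape.up ℤ)).app P)).symm ?_
    refine ta_descent (fun _ : PUnit.{1} => _) (fun _ => (f.stalkMap x).hom) (fun _ => Flat.stalkMap f x)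
      (fun N hN => ?_) _ a b fun _ => ?_
    · letI := (f.stalkMap x).hom.toAlgebra
      haveI : Module.Flat (Y.presheaf.stalk (f.base x)) (X.presheaf.stalk x) := Flat.stalkMap f x
      haveI : IsLocalHom (algebraMap (Y.presheaf.stalk (f.base x)) (X.presheaf.stalk x)) :=
        inferInstanceAs (IsLocalHom (f.stalkMap x).hom)
      haveI : Module.FaithfullyFlat (Y.presheaf.stalk (f.base x)) (X.presheaf.stalk x) :=
        Module.FaithfullyFlat.of_flat_of_isLocalHom
      haveI : Subsingleton (X.presheaf.stalk x ⊗[Y.presheaf.stalk (f.base x)] N) :=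
        ModuleCat.subsingleton_of_isZero (hN ⟨⟩)
      haveI := Module.FaithfullyFlat.lTensor_reflects_triviality (Y.presheaf.stalk (f.base x))
        (X.presheaf.stalk x) N
      exact ModuleCat.isZero_of_subsingleton N
    · exact ta_of_iso (DerivedCategory.Q.mapIso
        ((NatIso.mapHomologicalComplex (stalkOverIdIso x) (ComplexShape.up ℤ)).app
            (((Scheme.Modules.pullback f).mapHomologicalComplex (ComplexShape.up ℤ)).obj P) ≪≫
          (NatIso.mapHomologicalComplex (pullStalkExtIso f x) (ComplexShape.up ℤ)).app P)) (hX x)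
  haveI := (bounds_of_ta _ hY).2
  obtain ⟨C', h1, h2, ⟨e'⟩⟩ := (S6200.result P b a b).2 hY
  exact ⟨C', h1, h2, ⟨e' ≪≫ eP⟩⟩

end Groth.Agent.H16Derived.TorTest
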