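import Groth.Agent.H16Derived.TorTest.StalkAmp
import Groth.Agent.H16Derived.TorTest.AbsStalk
import Groth.Agent.H16Derived.TorTest.FlatDescent
import Groth.Agent.H06EGA9.StructureStalk
import Groth.Agent.H06EGA9.FlatFibreBC

/-!
# `Lg^*` moves the lower bound by at most the tor dimension of `g`
-/

set_option autoImplicit false
set_option linter.style.haveILetI false
set_option backward.isDefEq.respectTransparency false

universe u

open CategoryTheory CategoryTheory.Limits AlgebraicGeometry MonoidalCategory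
open Groth.Agent.H16Derived
open Groth.Agent.H16Derived.KFlat Groth.Agent.H16Derived.KFlat.Stalk
open Groth.Agent.H4DR.TorAmp

attribute [local instance] HasDerivedCategory.standard

namespace Groth.Agent.H16Derived.TorTest

open Groth.Agent.H4DR.KFlatMod (bi)

variable {Y' Y : Scheme.{u}}

/-- Extension of scalars of a K-flat complex along a ring map of tor amplitude bounded below. -/
theorem exactAt_ext_of_ta {A B : Type u} [CommRing A] [CommRing B] (φ : A →+* B) {W : DRing.Cx B}
    (eW : W ≅ (HomologicalComplex.single (ModuleCat.{u} B) (ComplexShape.up ℤ) 0).obj (ModuleCat.of B B))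
    {a₀ b₀ : ℤ} (hW : DRing.HasTorAmplitudeIn A a₀ b₀ (DRing.toD ((DTen.resCx φ).obj W)))
    {P : DRing.Cx A} (hk : KFlat.IsKFlat (bi A) P) {a : ℤ} (hP : ∀ j, j < a → P.ExactAt j)
    {i : ℤ} (hi : i < a₀ + a) : ((DTen.extCx φ).obj P).ExactAt i := by
  let S : DRing.Cx B := (HomologicalComplex.single (ModuleCat.{u} B) (ComplexShape.up ℤ) 0).obj (ModuleCat.of B B)
  let Z : DRing.Cx B := (DTen.extCx φ).obj P
  let e₁ : Z ≅ W ⊗ Z :=
    ((Functor.mapHomologicalComplexIdIso _ _).app Z).symm ≪≫
      (NatIso.mapHomologicalComplex (rightUnitorNatIso (ModuleCat.{u} B)).symm (ComplexShape.up ℤ)).app Z ≪≫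
      (tensorSingleIso Z (ModuleCat.of B B)).symm ≪≫ DTen.braidCx Z S ≪≫ whiskerRightIso eW.symm Z
  refine HomologicalComplex.ExactAt.of_iso ?_ e₁.symm
  refine (exactAt_tensor_ext_iff φ W P i).2 ?_
  obtain ⟨E, hE, hEf, ⟨e⟩⟩ := hW
  obtain ⟨e'⟩ := tensor_congr (fun j hj => hE j (Or.inr hj)) hk e
  rw [HomologicalComplex.exactAt_iff_isZero_homology]
  refine IsZero.of_iso ?_ (((DerivedCategory.homologyFunctorFactors _ i).app _).symm ≪≫
    (DerivedCategory.homologyFunctor _ i).mapIso e'.symm ≪≫ (DerivedCategory.homologyFunctorFactors _ i).app _)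
  haveI : P.IsGE a := (CochainComplex.isGE_iff P a).2 fun j hj => hP j hj
  haveI : QuasiIso (P.πTruncGE a) := (P.quasiIso_πTruncGE_iff a).2 inferInstance
  have hEk := isKFlat_of_flat (fun j hj => hE j (Or.inr hj)) hEf
  haveI := H25DTen.quasiIso_whiskerLeft E hEk (P.πTruncGE a)
  refine IsZero.of_iso ?_ (asIso (HomologicalComplex.homologyMap (E ◁ P.πTruncGE a) i))
  refine (HomologicalComplex.exactAt_iff_isZero_homology _ _).1
    ((HomologicalComplex.exactAt_iff _ _).2 (ShortComplex.exact_of_isZero_X₂ _ ?_))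
  refine vanishes_tensor i fun p q hpq => ?_
  rcases lt_or_ge p a₀ with hp | hp
  · exact Or.inl (hE p (Or.inl hp))
  · exact Or.inr ((P.truncGE a).isZero_of_isStrictlyGE a q (by omega))

/-- The stalk of the structure complex. -/
noncomputable def stalkUnitCxIso (y : Y') :
    (Sx y).obj (DerSch.unitCx Y') ≅
      (HomologicalComplex.single (ModuleCat.{u} (Y'.presheaf.stalk y)) (ComplexShape.up ℤ) 0).obj
        (ModuleCat.of (Y'.presheaf.stalk y) (Y'.presheaf.stalk y)) :=
  (HomologicalComplex.singleMapHomologicalComplex (DerSch.stalkFunctor Y' y) (ComplexShape.up ℤ) 0).app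
      (Coh.structureModule Y') ≪≫
    (HomologicalComplex.single _ _ 0).mapIso
      (LinearEquiv.ofBijective (LinearMap.toSpanSingleton (Y'.presheaf.stalk y) _ (H06EGA9.oneStalk y))
        (H06EGA9.bijective_smul_oneStalk y)).toModuleIso.symm

/-- **The lower bound of `Lg^*`.** -/
theorem isGE_lpull_of_ta (g : Y' ⟶ Y) [DCoh.HasLpull g] {a₀ b₀ : ℤ}
    (hg : DerSch.HasTorAmplitude g a₀ b₀ (DerSch.unitCx Y')) (K : DCoh.D Y) (a : ℤ) [K.IsGE a] :
    ((DCoh.Lpull g).obj K).IsGE (a + a₀) := by
  obtain ⟨P, hP, ⟨eP⟩⟩ := exists_kflat_rep K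
  let T := ((Scheme.Modules.pullback g).mapHomologicalComplex (ComplexShape.up ℤ)).obj P
  let e₂ : DCoh.toD Y' T ≅ (DCoh.Lpull g).obj K := (lpullObjIso g P hP).symm ≪≫ (DCoh.Lpull g).mapIso eP
  suffices h : (DCoh.toD Y' T).IsGE (a + a₀) by
    haveI := h
    exact DerivedCategory.TStructure.t.isGE_of_iso e₂ (a + a₀)
  refine (DerivedCategory.isGE_iff _ _).2 fun i hi => ?_
  refine IsZero.of_iso ?_ ((DerivedCategory.homologyFunctorFactors Y'.Modules i).app T)
  refine (ShortComplex.exact_iff_isZero_homology (T.sc i)).1 ((exact_iff (T.sc i)).2 fun y => ?_)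
  refine (HomologicalComplex.exactAt_iff ((Sx y).obj T) i).1 ?_
  refine HomologicalComplex.ExactAt.of_iso ?_
    ((NatIso.mapHomologicalComplex (pullStalkExtIso g y) (ComplexShape.up ℤ)).app P).symm
  refine exactAt_ext_of_ta (g.stalkMap y).hom (stalkUnitCxIso y) (hg y)
    ((H25DTen.isKFlat_iff _).1 ((isKFlat_iff_stalk P).1 hP (g.base y))) (a := a) (fun j hj => ?_) (by omega)
  refine (HomologicalComplex.exactAt_iff ((Sx (g.base y)).obj P) j).2 ((exact_iff (P.sc j)).1 ?_ (g.base y))
  exact (ShortComplex.exact_iff_isZero_homology _).2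
    ((DerivedCategory.isZero_of_isGE K a j hj).of_iso
      (((DerivedCategory.homologyFunctorFactors Y.Modules j).app P).symm ≪≫
        (DerivedCategory.homologyFunctor _ j).mapIso eP))

/-- Finite tor dimension bounds the drop of the lower bound. -/
theorem exists_isGE_lpull (g : Y' ⟶ Y) [DCoh.HasLpull g] (h : DerSch.HasFiniteTorDim g) :
    ∃ d : ℤ, ∀ (K : DCoh.D Y) (a : ℤ), K.IsGE a → ((DCoh.Lpull g).obj K).IsGE (a - d) := by
  obtain ⟨a₀, b₀, hg⟩ := h
  refine ⟨-a₀, fun K a hK => ?_⟩
  haveI := hK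
  rw [sub_neg_eq_add]
  exact isGE_lpull_of_ta g hg K a

/-- Flat morphisms have tor dimension zero. -/
theorem hasTorAmplitude_unit_of_flat (g : Y' ⟶ Y) [Flat g] :
    DerSch.HasTorAmplitude g 0 0 (DerSch.unitCx Y') :=
  hasTorAmplitude_of_flat g
    (fun j hj => HomologicalComplex.isZero_single_obj_X (ComplexShape.up ℤ) 0 (Coh.structureModule Y') j (by omega))
    fun j => by
      by_cases hj : j = 0
      · subst hj
        exact fun y => (H06EGA9.isFlatOverAt_congr_iso g
          (HomologicalComplex.singleObjXSelf (ComplexShape.up ℤ) 0 (Coh.structureModule Y')) y).2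
          ((H06EGA9.isFlatOverAt_structureModule_iff g y).2 (Flat.stalkMap g y))
      · intro y
        haveI := ModuleCat.subsingleton_of_isZero ((DerSch.stalkOver g y).map_isZero
          (HomologicalComplex.isZero_single_obj_X (ComplexShape.up ℤ) 0 (Coh.structureModule Y') j hj))
        exact (inferInstance : Module.Flat (Y.presheaf.stalk (g.base y))
          ((DerSch.stalkOver g y).obj (((HomologicalComplex.single Y'.Modules (ComplexShape.up ℤ) 0).obj
            (Coh.structureModule Y')).X j)))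

/-- Flat morphisms have finite tor dimension. -/
theorem hasFiniteTorDim_of_flat (g : Y' ⟶ Y) [Flat g] : DerSch.HasFiniteTorDim g :=
  ⟨0, 0, hasTorAmplitude_unit_of_flat g⟩

/-- Flat pullback keeps lower bounds. -/
theorem isGE_lpull_of_flat (g : Y' ⟶ Y) [Flat g] [DCoh.HasLpull g] (K : DCoh.D Y) (a : ℤ) [K.IsGE a] :
    ((DCoh.Lpull g).obj K).IsGE a := by
  simpa using isGE_lpull_of_ta g (hasTorAmplitude_unit_of_flat g) K a

end Groth.Agent.H16Derived.TorTest
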