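import Groth.Agent.H16Derived.TorTest.PushTensorPC
import Groth.Agent.H16Derived.ProjFormula.ClosedImm
import Groth.Agent.H16Derived.Dual.Symm
import Groth.Agent.H8Props.RpushAffine
import Groth.Agent.H8Props.RelPCLpullComp
import Groth.Agent.H16Derived.KFlat.GammaDerived
import Groth.Agent.H16Derived.KFlat.LpullLocal
import Groth.Agent.H16Derived.KFlat.SheafAssoc
import Groth.Agent.H16Derived.QCohD.Lpull

/-!
# The projection formula for `i_*` along a closed immersion, and relative pseudo-coherence of tensor products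
-/

set_option autoImplicit false
set_option linter.style.haveILetI false
set_option backward.isDefEq.respectTransparency false

universe u

open CategoryTheory CategoryTheory.Limits AlgebraicGeometry
open Groth.Agent.H16Derived Groth.Agent.H16Derived.KFlat Groth.Agent.H16Derived.KFlat.Stalk
open Groth.Agent.H16Derived.Dual Groth.Agent.H8Props.PushPC Groth.Agent.H16Derived.ProjFormula

attribute [local instance] HasDerivedCategory.standard
attribute [local instance] MvPolynomial.algebraMvPolynomial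

namespace Groth.Agent.H16Derived.TorTest

variable {Z X : Scheme.{u}}

/-- `G ⊗^L i_* E ≅ i_*(Li^* G ⊗^L E)` for a closed immersion `i`. -/
theorem nonempty_pushD_T (i : Z ⟶ X) [IsClosedImmersion i] (E : DCoh.D Z) (G : DCoh.D X) :
    Nonempty (((T X).obj G).obj ((pushD i).obj E) ≅
      (pushD i).obj (((T Z).obj ((@DCoh.Lpull _ _ i (hasLpull i)).obj G)).obj E)) := by
  haveI := hasLpull i
  let C := DerivedCategory.Q.objPreimage G
  let Q := (KFlat.Stalk.res (X := X)).obj C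
  have hQ := isKFlat_res C
  haveI := ProjFormula.isIso_Qresψ C
  let eQ : DerivedCategory.Q.obj Q ≅ G :=
    asIso (DerivedCategory.Q.map ((resψ (X := X)).app C)) ≪≫ DerivedCategory.Q.objObjPreimageIso G
  haveI := hasLTensorCx Q
  haveI := hasLTensorCx ((pullCx i).obj Q)
  haveI := KFlat.GammaAcyclic.hasRpush i
  obtain ⟨p⟩ := ProjFormula.nonempty_projection_formula_of_isClosedImmersion i Q ((isKFlat_iff' Q).2 hQ) E
  obtain ⟨r₁⟩ := H8Props.RpushAffine.nonempty_rpush_closed i E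
  obtain ⟨r₂⟩ := H8Props.RpushAffine.nonempty_rpush_closed i ((DCoh.LTensorCx ((pullCx i).obj Q)).obj E)
  exact ⟨σ G _ ≪≫ ((T X).obj ((pushD i).obj E)).mapIso eQ.symm ≪≫ (ltensorCxIsoT Q).app _ ≪≫
    (DCoh.LTensorCx Q).mapIso r₁.symm ≪≫ p ≪≫ r₂ ≪≫ (pushD i).mapIso
      (((ltensorCxIsoT ((pullCx i).obj Q)).app E).symm ≪≫
        ((T Z).obj E).mapIso ((lpullObjIso i Q hQ).symm ≪≫ (DCoh.Lpull i).mapIso eQ) ≪≫ σ E _)⟩

/-- `Lf^*` commutes with the derived tensor product. -/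
theorem nonempty_lpull_T (f : Z ⟶ X) [DCoh.HasLpull f] (a b : DCoh.D X) :
    Nonempty ((DCoh.Lpull f).obj (((T X).obj a).obj b) ≅
      ((T Z).obj ((DCoh.Lpull f).obj a)).obj ((DCoh.Lpull f).obj b)) := by
  obtain ⟨P, hP, ⟨e⟩⟩ := exists_kflat_rep b
  haveI := hasLTensorCx P
  haveI := hasLTensorCx ((pullCx f).obj P)
  obtain ⟨p⟩ := nonempty_lpull_ltensorCx f P ((isKFlat_iff' P).2 hP) a
  exact ⟨(DCoh.Lpull f).mapIso (((T X).obj a).mapIso e.symm ≪≫ (ltensorCxIsoT P).app a) ≪≫ p ≪≫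
    ((ltensorCxIsoT ((pullCx f).obj P)).app _).symm ≪≫
    ((T Z).obj _).mapIso ((lpullObjIso f P hP).symm ≪≫ (DCoh.Lpull f).mapIso e)⟩

/-- Restriction to opens commutes with the derived tensor product. -/
theorem nonempty_rd_T (j : Z ⟶ X) [IsOpenImmersion j] (a b : DCoh.D X) :
    Nonempty ((rd j).obj (((T X).obj a).obj b) ≅ ((T Z).obj ((rd j).obj a)).obj ((rd j).obj b)) := by
  haveI := hasLpull j
  obtain ⟨p⟩ := nonempty_lpull_T j a b
  obtain ⟨q⟩ := QCohD.lpull_openImmersion j (((T X).obj a).obj b)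
  obtain ⟨qa⟩ := QCohD.lpull_openImmersion j a
  obtain ⟨qb⟩ := QCohD.lpull_openImmersion j b
  exact ⟨q.symm ≪≫ p ≪≫ ((T Z).mapIso qa).app _ ≪≫ ((T Z).obj _).mapIso qb⟩

open Groth.Agent.H8Props.RelPC

variable {Y S : Scheme.{u}}

/-- **Relative derived tensor products of relatively pseudo-coherent objects.** -/
theorem isPseudoCoherentRel_T (f : X ⟶ Y) (g : Y ⟶ S) [LocallyOfFiniteType f] [LocallyOfFiniteType g]
    [DCoh.HasLpull f] {a b c d : ℤ} {E : DCoh.D X} (hE : DerSch.IsPseudoCoherentRel f a E) [E.IsLE b]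
    {F : DCoh.D Y} (hF : DerSch.IsPseudoCoherentRel g c F) [F.IsLE d] :
    DerSch.IsPseudoCoherentRel (f ≫ g) (max (a + d) (b + c))
      (((T X).obj ((DCoh.Lpull f).obj F)).obj E) := by
  refine rel_of_local (f ≫ g) _ _ fun x => ?_
  obtain ⟨_, ⟨V, hV, rfl⟩, hxV, -⟩ :=
    S.isBasis_affineOpens.exists_subset_of_mem_open (Set.mem_univ (g (f x))) isOpen_univ
  obtain ⟨_, ⟨U, hU, rfl⟩, hxU, eU⟩ :=
    Y.isBasis_affineOpens.exists_subset_of_mem_open (show f x ∈ g ⁻¹ᵁ V from hxV) (g ⁻¹ᵁ V).2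
  obtain ⟨_, ⟨W, hW, rfl⟩, hxW, eW⟩ :=
    X.isBasis_affineOpens.exists_subset_of_mem_open (show x ∈ f ⁻¹ᵁ U from hxU) (f ⁻¹ᵁ U).2
  obtain ⟨n, φ, hφ⟩ := exists_isChart g U V eU (g.finiteType_appLE hV hU eU)
  obtain ⟨k, ψ, hψ⟩ := exists_isChart f W U eW (f.finiteType_appLE hU hW eW)
  have hc := chartPC_of_rel hF hU hV eU φ hφ
  have hcE := chartPC_of_rel hE hW hU eW ψ hψ
  haveI := isClosedImmersion_chartImm hU φ hφ.1
  haveI := isClosedImmersion_chartImm hW ψ hψ.1
  rw [chartPC_iff] at hc hcE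
  let R := Γ(S, V)
  let c' := (MvPolynomial.renameEquiv R (finSumFinEquiv (m := k) (n := n)).symm).trans
    (MvPolynomial.sumAlgEquiv R (Fin k) (Fin n))
  let s : MvPolynomial (Fin k) (MvPolynomial (Fin n) R) →+* MvPolynomial (Fin k) Γ(Y, U) :=
    MvPolynomial.map φ
  let γ : MvPolynomial (Fin (k + n)) R →+* Γ(X, W) := (ψ.comp s).comp c'.toAlgHom.toRingHom
  have hs : Function.Surjective s := MvPolynomial.map_surjective φ hφ.1
  have hγ : DerSch.IsChart (f ≫ g) W V (fun z hz => eU (eW hz)) γ := by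
    refine ⟨(hψ.1.comp hs).comp c'.surjective, RingHom.ext fun r => ?_⟩
    show ψ (MvPolynomial.map φ (c' (MvPolynomial.C r))) = _
    rw [← MvPolynomial.algebraMap_eq, c'.commutes, MvPolynomial.algebraMap_apply, MvPolynomial.algebraMap_eq,
      MvPolynomial.map_C]
    refine (congr($(hψ.2) _)).trans ?_
    rw [show φ (MvPolynomial.C r) = g.appLE V U eU r from congr($(hφ.2) r)]
    exact congr($(Scheme.Hom.appLE_comp_appLE f g V U W eU eW) r)
  refine ⟨W, hW, V, hV, fun z hz => eU (eW hz), k + n, γ, hxW, hγ, ?_⟩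
  haveI := isClosedImmersion_chartImm hW γ hγ.1
  rw [chartPC_iff]
  haveI := isClosedImmersion_toSpecΓ hU
  haveI := isClosedImmersion_toSpecΓ hW
  haveI : IsClosedImmersion (Spec.map (CommRingCat.ofHom φ)) := IsClosedImmersion.spec_of_surjective _ hφ.1
  haveI : IsClosedImmersion (Spec.map (CommRingCat.ofHom ψ)) := IsClosedImmersion.spec_of_surjective _ hψ.1
  haveI : IsClosedImmersion (Spec.map (CommRingCat.ofHom s)) := IsClosedImmersion.spec_of_surjective _ hs
  let π := Spec.map (CommRingCat.ofHom (MvPolynomial.C (σ := Fin k) (R := Γ(Y, U))))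
  let i := Spec.map (CommRingCat.ofHom ψ)
  let fA := Spec.map (f.appLE U W eW)
  haveI := hasLpull π
  haveI := hasLpull i
  haveI := hasLpull fA
  let G : DCoh.D (Spec (CommRingCat.of Γ(Y, U))) := (pushD (Scheme.Opens.toSpecΓ U)).obj ((rd (Scheme.Opens.ι U)).obj F)
  have hG : DCoh.IsPseudoCoherentD c ((pushD (Spec.map (CommRingCat.ofHom φ))).obj G) :=
    isPseudoCoherentD_of_iso (pushDComp (Scheme.Opens.toSpecΓ U) (Spec.map (CommRingCat.ofHom φ)) (DerSch.chartImm U φ) rfl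
      ((rd (Scheme.Opens.ι U)).obj F)) hc
  have hG' := pc_pushD_mvPolynomial φ hφ.1 k G hG
  let G' : DCoh.D (Spec (CommRingCat.of (MvPolynomial (Fin k) Γ(Y, U)))) := (DCoh.Lpull π).obj G
  haveI : G.IsLE d :=
    haveI := isLE_rd (Scheme.Opens.ι U) F d
    isLE_pushD (Scheme.Opens.toSpecΓ U) _ d
  haveI : G'.IsLE d := isLE_lpull π G d
  let EW : DCoh.D (Spec (CommRingCat.of Γ(X, W))) := (pushD (Scheme.Opens.toSpecΓ W)).obj ((rd (Scheme.Opens.ι W)).obj E)
  let H : DCoh.D (Spec (CommRingCat.of (MvPolynomial (Fin k) Γ(Y, U)))) := (pushD i).obj EW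
  have hH : DCoh.IsPseudoCoherentD a H :=
    isPseudoCoherentD_of_iso (pushDComp (Scheme.Opens.toSpecΓ W) i (DerSch.chartImm W ψ) rfl _) hcE
  haveI : H.IsLE b :=
    haveI := isLE_rd (Scheme.Opens.ι W) E b
    haveI : EW.IsLE b := isLE_pushD (Scheme.Opens.toSpecΓ W) _ b
    isLE_pushD i EW b
  have h1 := pc_pushD_tensor (Spec.map (CommRingCat.ofHom s)) (L := G') (a := a) (b := b) (c := c) (d := d) hH hG'
  -- transport along the change of variables
  have hiso : Function.Bijective c'.toAlgHom.toRingHom := c'.bijective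
  let e := Spec.map (CommRingCat.ofHom c'.toAlgHom.toRingHom)
  haveI : IsIso (CommRingCat.ofHom c'.toAlgHom.toRingHom) :=
    (ConcreteCategory.isIso_iff_bijective _).2 hiso
  haveI : IsIso e := inferInstance
  obtain ⟨p⟩ := nonempty_pushD_T i EW G'
  have h2 : DCoh.IsPseudoCoherentD (max (a + d) (b + c)) ((pushD e).obj ((pushD (Spec.map (CommRingCat.ofHom s))).obj
      ((pushD i).obj (((T _).obj ((DCoh.Lpull i).obj G')).obj EW)))) := by
    obtain ⟨a₀⟩ := nonempty_pushD_iso_rd e ((pushD (Spec.map (CommRingCat.ofHom s))).obj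
      ((pushD i).obj (((T _).obj ((DCoh.Lpull i).obj G')).obj EW)))
    exact isPseudoCoherentD_of_iso a₀.symm (isPseudoCoherentD_rd (inv e)
      (isPseudoCoherentD_of_iso ((pushD _).mapIso p) h1))
  -- identify the pullback
  have hfA : i ≫ π = fA := by
    rw [← Spec.map_comp]
    exact congrArg Spec.map (CommRingCat.hom_ext hψ.2)
  haveI := hasLpull (i ≫ π)
  obtain ⟨a₁⟩ := lpull_comp i π G
  obtain ⟨a₂⟩ := nonempty_pushD_toSpecΓ hU F
  obtain ⟨a₃⟩ := H16Derived.QCohD.lpull_factor f hW.fromSpec fA hU.fromSpec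
    (IsAffineOpen.SpecMap_appLE_fromSpec f hU hW eW) F
  obtain ⟨a₄⟩ := nonempty_pushD_toSpecΓ hW E
  obtain ⟨a₅⟩ := nonempty_rd_T hW.fromSpec ((DCoh.Lpull f).obj F) E
  obtain ⟨a₆⟩ := nonempty_pushD_toSpecΓ hW (((T X).obj ((DCoh.Lpull f).obj F)).obj E)
  have hfA' : fA = i ≫ π := hfA.symm
  clear_value fA
  subst hfA'
  let j : (DCoh.Lpull i).obj G' ≅ (rd hW.fromSpec).obj ((DCoh.Lpull f).obj F) :=
    a₁ ≪≫ (DCoh.Lpull (i ≫ π)).mapIso a₂ ≪≫ a₃.symm
  let j' : ((T _).obj ((DCoh.Lpull i).obj G')).obj EW ≅ (pushD (Scheme.Opens.toSpecΓ W)).obj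
      ((rd (Scheme.Opens.ι W)).obj (((T X).obj ((DCoh.Lpull f).obj F)).obj E)) :=
    ((T _).mapIso j).app EW ≪≫ ((T _).obj _).mapIso a₄ ≪≫ a₅.symm ≪≫ a₆.symm
  have h3 := isPseudoCoherentD_of_iso ((pushD e).mapIso ((pushD _).mapIso ((pushD i).mapIso j'))) h2
  let cs := Spec.map (CommRingCat.ofHom (ψ.comp s))
  haveI : IsClosedImmersion cs := IsClosedImmersion.spec_of_surjective _ (hψ.1.comp hs)
  let cγ := Spec.map (CommRingCat.ofHom γ)
  haveI : IsClosedImmersion cγ := IsClosedImmersion.spec_of_surjective _ hγ.1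
  refine isPseudoCoherentD_of_iso ?_ h3
  exact (pushD e).mapIso
      (pushDComp i (Spec.map (CommRingCat.ofHom s)) cs (by rw [← Spec.map_comp]; rfl) _).symm ≪≫
    (pushDComp cs e cγ (by rw [← Spec.map_comp]; rfl) _).symm ≪≫
    (pushDComp (Scheme.Opens.toSpecΓ W) cγ (DerSch.chartImm W γ) rfl _).symm

end Groth.Agent.H16Derived.TorTest
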