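import Groth.Agent.H16Derived.TorTest.RelPerfTri
import Groth.Agent.H16Derived.Dual.PseudoCoh
import Groth.Agent.H16Derived.KFlat.PerfSummand

/-!
# Relatively perfect complexes tensored with perfect ones
-/

set_option autoImplicit false
set_option linter.style.haveILetI false
set_option backward.isDefEq.respectTransparency false

universe u

open CategoryTheory CategoryTheory.Limits AlgebraicGeometry Pretriangulated
open Groth.Agent.H16Derived Groth.Agent.H16Derived.KFlat Groth.Agent.H16Derived.KFlat.Stalk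
open Groth.Agent.H16Derived.Dual Groth.Agent.H16Derived.QCohD

attribute [local instance] HasDerivedCategory.standard

namespace Groth.Agent.H16Derived.TorTest

variable {X S : Scheme.{u}}

/-- Relatively perfect, in the form of the subcategory. -/
abbrev RP (f : X ⟶ S) : ObjectProperty (DCoh.D X) :=
  fun E => (∀ m : ℤ, DCoh.IsPseudoCoherentD m E) ∧ DCoh.LocHasFiniteRelTorDim f E

theorem rp_iso (f : X ⟶ S) [Flat f] {K L : DCoh.D X} (e : K ≅ L) (h : RP f K) : RP f L :=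
  ⟨fun m => isPseudoCoherentD_of_iso e (h.1 m), (locTA_iff f L).1 fun x => by
    obtain ⟨V, a, b, hx, hV⟩ := (locTA_iff f K).2 h.2 x
    exact ⟨V, a, b, hx, fun y hy => H4DR.TorAmp.ta_of_iso (Functor.mapIso _ e) (hV y hy)⟩⟩

theorem rp_rd (f : X ⟶ S) [Flat f] (A : X.Opens) {K : DCoh.D X} (h : RP f K) :
    RP (A.ι ≫ f) ((rA A).obj K) := by
  refine ⟨fun m => isPseudoCoherentD_rd A.ι (h.1 m), ?_⟩
  let F := DerivedCategory.Q.objPreimage K
  let eF : DCoh.toD X F ≅ K := DerivedCategory.Q.objObjPreimageIso K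
  refine (locHasFiniteRelTorDim_iff (A.ι ≫ f) (((rdQ A.ι).app F).symm ≪≫ (rd A.ι).mapIso eF)).2 fun y => ?_
  obtain ⟨V, a, b, hx, hV⟩ := (locHasFiniteRelTorDim_iff f eF).1 h.2 (A.ι.base y)
  exact ⟨A.ι ⁻¹ᵁ V, a, b, hx, fun y' hy' => (at_restrict A.ι f a b F y').2 (hV _ hy')⟩

theorem rp_of_cover (f : X ⟶ S) [Flat f] {K : DCoh.D X}
    (h : ∀ x : X, ∃ A : X.Opens, x ∈ A ∧ RP (A.ι ≫ f) ((rA A).obj K)) : RP f K := by
  constructor
  · intro m
    refine isPseudoCoherentD_of_local fun x => ?_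
    obtain ⟨A, hx, hA⟩ := h x
    obtain ⟨V, hxV, E, α, hE, hα⟩ := (isPseudoCoherentD_iff m _).1 (hA.1 m) ⟨x, hx⟩
    exact ⟨_, V.ι ≫ A.ι, inferInstance, ⟨⟨⟨x, hx⟩, hxV⟩, rfl⟩, E, α ≫ (rdComp V.ι A.ι _ rfl K).inv, hE,
      hα.comp (Approx.of_isIso m _)⟩
  · let F := DerivedCategory.Q.objPreimage K
    let eF : DCoh.toD X F ≅ K := DerivedCategory.Q.objObjPreimageIso K
    refine (locHasFiniteRelTorDim_iff f eF).2 fun x => ?_
    obtain ⟨A, hx, hA⟩ := h x
    obtain ⟨V, a, b, hxV, hV⟩ := (locHasFiniteRelTorDim_iff (A.ι ≫ f)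
      (((rdQ A.ι).app F).symm ≪≫ (rd A.ι).mapIso eF)).1 hA.2 ⟨x, hx⟩
    refine ⟨A.ι ''ᵁ V, a, b, ⟨⟨x, hx⟩, hxV, rfl⟩, fun x' hx' => ?_⟩
    obtain ⟨y, hy, rfl⟩ := hx'
    exact (at_restrict A.ι f a b F y).1 (hV y hy)

/-- `L ⊗ r[n]` is relatively perfect over `A`. -/
def QR (f : X ⟶ S) (A : X.Opens) (L r : DCoh.D X) : Prop :=
  ∀ n : ℤ, RP (A.ι ≫ f) ((rA A).obj (((T X).obj L).obj (r⟦n⟧)))

variable (f : X ⟶ S) [Flat f]

theorem invOn_qr (A : X.Opens) (L : DCoh.D X) : InvOn A (QR f A L) := fun {k k'} φ h =>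
  forall_congr' fun n => by
    haveI : IsIso ((rA A).map (((T X).obj L).map (φ⟦n⟧'))) := isoOn_TObj L (h.shift n)
    exact ⟨fun hp => rp_iso _ (asIso ((rA A).map (((T X).obj L).map (φ⟦n⟧')))).symm hp,
      fun hp => rp_iso _ (asIso ((rA A).map (((T X).obj L).map (φ⟦n⟧')))) hp⟩

theorem stable_qr (A : X.Opens) (L : DCoh.D X) : Stable (X := X) (QR f A L) where
  of_iso e h := (invOn_qr f A L e.inv (isoOn_of_isIso A _)).1 h
  shift {K} h n p :=
    rp_iso _ ((rA A).mapIso (((T X).obj L).mapIso ((shiftFunctorAdd (DCoh.D X) n p).app K))) (h (n + p))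
  ext₂ T₀ hT h₁ h₃ n := by
    obtain ⟨T', hT', ⟨e₁⟩, ⟨e₂⟩, ⟨e₃⟩⟩ := exists_triangle_TObj L (Triangle.shift_distinguished _ hT n)
    have hd := (rA A).map_distinguished _ hT'
    haveI := (isTriangulated_relPerf (A.ι ≫ f)).1
    haveI := (isTriangulated_relPerf (A.ι ≫ f)).2
    exact rp_iso _ ((rA A).mapIso e₂) (ObjectProperty.ext_of_isTriangulatedClosed₂ (RP (A.ι ≫ f)) _ hd
      (rp_iso _ ((rA A).mapIso e₁).symm (h₁ n)) (rp_iso _ ((rA A).mapIso e₃).symm (h₃ n)))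
  of_isZero hK n := ⟨fun m => isPseudoCoherentD_of_isPerfect (Thomason.isPerfect_zero
      (Functor.map_isZero _ (Functor.map_isZero _ (Functor.map_isZero _ hK)))) m,
    (locTA_iff _ _).1 (locTA_of_isZero _ (Functor.map_isZero _ (Functor.map_isZero _ (Functor.map_isZero _ hK))))⟩

theorem qr_o (A : X.Opens) {L : DCoh.D X} (hL : RP f L) (p : ℤ) : QR f A L (o X p) := fun n => by
  obtain ⟨e⟩ := nonempty_TObj_o L (p + n)
  haveI := (isTriangulated_relPerf f).1
  exact rp_iso _ ((rA A).mapIso (((T X).obj L).mapIso (oShiftIso p n).symm))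
    (rp_rd f A (rp_iso f e.symm ((RP f).le_shift (p + n) _ hL)))

/-- A perfect object tensored with a relatively perfect one is relatively perfect. -/
theorem rp_ltensor (M : CochainComplex X.Modules ℤ) (hM : RP f (DCoh.toD X M)) [DCoh.HasLTensorCx M]
    {K : DCoh.D X} (hK : DCoh.IsPerfect K) : RP f ((DCoh.LTensorCx M).obj K) := by
  refine rp_of_cover f fun x => ?_
  obtain ⟨A, hx, hA⟩ := exists_freeModel hK x
  refine ⟨A, hx, ?_⟩
  have h := freeModel_induction (stable_qr f A _) (invOn_qr f A _) (qr_o f A hM) hA 0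
  exact rp_iso _ ((rA A).mapIso (((T X).obj _).mapIso ((shiftFunctorZero (DCoh.D X) ℤ).app K) ≪≫
    σ _ _ ≪≫ (ltensorCxIsoT M).app K)) h

end Groth.Agent.H16Derived.TorTest
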