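import Groth.Agent.H13Desc.FTOpen
import Mathlib.AlgebraicGeometry.Morphisms.Flat

/-!
# Finite type descends along flat quotient maps, for arbitrary modules
-/

set_option autoImplicit false
set_option linter.style.haveILetI false
set_option backward.isDefEq.respectTransparency false

universe u

open CategoryTheory CategoryTheory.Limits AlgebraicGeometry Opposite TopologicalSpace
open scoped TensorProduct
open Groth.Agent

namespace Groth.Agent.H16Derived.TorTest

attribute [local instance] H06Mod.stalkAlgebra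

variable {X Y : Scheme.{u}}

/-- Sections generate a stalk iff their inverse images do. -/
theorem span_pullSect_eq_top_iff (f : X ⟶ Y) [Flat f] (F : Y.Modules) {U : Y.Opens} {n : ℕ}
    (m : Fin n → Γ(F, U)) (w : X) (hw : f w ∈ U) :
    Submodule.span (Y.presheaf.stalk (f w)) (Set.range fun k => F.presheaf.germ U (f w) hw (m k)) = ⊤ ↔
      Submodule.span (X.presheaf.stalk w) (Set.range fun k =>
        ((Scheme.Modules.pullback f).obj F).presheaf.germ (f ⁻¹ᵁ U) w hw (OmegaSh.pullSect f F U (m k))) = ⊤ := by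
  let P := (Scheme.Modules.pullback f).obj F
  let N : Submodule (Y.presheaf.stalk (f w)) (F.presheaf.stalk (f w)) :=
    Submodule.span _ (Set.range fun k => F.presheaf.germ U (f w) hw (m k))
  let L : X.presheaf.stalk w ⊗[Y.presheaf.stalk (f w)] N →ₗ[X.presheaf.stalk w]
      P.presheaf.stalk w := H06Mod.pullStalkLin f F w ∘ₗ N.subtype.baseChange (X.presheaf.stalk w)
  have hgen : ∀ k, L ((1 : X.presheaf.stalk w) ⊗ₜ ⟨F.presheaf.germ U (f w) hw (m k),
      Submodule.subset_span ⟨k, rfl⟩⟩) = P.presheaf.germ (f ⁻¹ᵁ U) w hw (OmegaSh.pullSect f F U (m k)) := by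
    intro k
    show H06Mod.pullStalkLin f F w ((1 : X.presheaf.stalk w) ⊗ₜ F.presheaf.germ U (f w) hw (m k)) = _
    rw [H06Mod.pullStalkLin_tmul, one_smul, H06Mod.pullStalk_germ]
  have hrange : LinearMap.range L = Submodule.span (X.presheaf.stalk w) (Set.range fun k =>
      P.presheaf.germ (f ⁻¹ᵁ U) w hw (OmegaSh.pullSect f F U (m k))) := by
    refine le_antisymm ?_ (Submodule.span_le.mpr ?_)
    · rintro _ ⟨z, rfl⟩
      induction z using TensorProduct.induction_on with
      | zero => simp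
      | add a b ha hb => rw [map_add]; exact add_mem ha hb
      | tmul r v =>
        obtain ⟨v, hv⟩ := v
        rw [show r ⊗ₜ[Y.presheaf.stalk (f w)] (⟨v, hv⟩ : N) =
          r • ((1 : X.presheaf.stalk w) ⊗ₜ (⟨v, hv⟩ : N)) by rw [TensorProduct.smul_tmul', smul_eq_mul, mul_one],
          map_smul]
        refine Submodule.smul_mem _ _ ?_
        induction hv using Submodule.span_induction with
        | mem v hv' =>
          obtain ⟨k, rfl⟩ := hv'
          rw [hgen k]
          exact Submodule.subset_span ⟨k, rfl⟩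
        | zero =>
          rw [show (⟨0, _⟩ : N) = 0 from rfl, TensorProduct.tmul_zero, map_zero]
          exact zero_mem _
        | add a b ha hb iha ihb =>
          rw [show (⟨a + b, _⟩ : N) = ⟨a, ha⟩ + ⟨b, hb⟩ from rfl, TensorProduct.tmul_add, map_add]
          exact add_mem iha ihb
        | smul c a ha iha =>
          rw [show (⟨c • a, _⟩ : N) = c • ⟨a, ha⟩ from rfl, TensorProduct.tmul_smul]
          rw [← algebraMap_smul (X.presheaf.stalk w) c, map_smul]
          exact Submodule.smul_mem _ _ iha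
    · rintro _ ⟨k, rfl⟩
      exact ⟨_, hgen k⟩
  haveI := H06Mod.faithfullyFlat_stalk f w
  show N = ⊤ ↔ _
  rw [← hrange, LinearMap.range_eq_top]
  have hb := H06Mod.pullStalkLin_bijective f F w
  rw [show (⇑L : _ → _) = (H06Mod.pullStalkLin f F w) ∘ (N.subtype.baseChange (X.presheaf.stalk w)) from rfl,
    show (Function.Surjective ((H06Mod.pullStalkLin f F w) ∘ (N.subtype.baseChange (X.presheaf.stalk w))) ↔ Function.Surjective (N.subtype.baseChange (X.presheaf.stalk w))) from Function.Surjective.of_comp_iff' hb _]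
  rw [LinearMap.baseChange_eq_ltensor, Module.FaithfullyFlat.lTensor_surjective_iff_surjective]
  rw [← LinearMap.range_eq_top, Submodule.range_subtype]

/-- Finite type descends along flat surjective quotient maps. -/
theorem isFT_of_pullback_quot (f : X ⟶ Y) [Flat f] [Surjective f] (hf : Topology.IsQuotientMap f.base)
    (F : Y.Modules) (h : CohB1.IsFT ((Scheme.Modules.pullback f).obj F)) : CohB1.IsFT F := by
  classical
  refine H13Desc.isFT_of_span F fun y => ?_
  obtain ⟨x, rfl⟩ := f.surjective y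
  let P := (Scheme.Modules.pullback f).obj F
  obtain ⟨W, hxW, σ, hσ⟩ := H10Coh.exists_generators_nhd P h x
  obtain ⟨s, hs⟩ := H13Desc.span_germs_of_generators P W σ
  haveI := Fintype.ofFinite σ.I
  -- finitely many germs of `F` whose inverse images give the germs of the generators
  have hrep : ∀ j, ∃ S : Finset (X.presheaf.stalk x × F.presheaf.stalk (f x)),
      P.presheaf.germ W x hxW (s j) = ∑ p ∈ S, p.1 • H06Mod.pullStalk f F x p.2 := fun j => by
    obtain ⟨z, hz⟩ := (H06Mod.pullStalkLin_bijective f F x).2 (P.presheaf.germ W x hxW (s j))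
    obtain ⟨S, hS⟩ := TensorProduct.exists_finset z
    refine ⟨S, hz.symm.trans ?_⟩
    rw [hS, map_sum]
    exact Finset.sum_congr rfl fun p _ => H06Mod.pullStalkLin_tmul f F x p.1 p.2
  choose S hS using hrep
  let T : Finset (F.presheaf.stalk (f x)) := Finset.univ.biUnion fun j => (S j).image Prod.snd
  choose O hO ν hν using fun q : T => F.presheaf.exists_germ_eq q.1
  let n := T.card
  let e : Fin n ≃ T := T.equivFin.symm
  let U : Y.Opens := Finset.univ.inf fun k => O (e k)
  have hyU : f x ∈ U := Finset.inf_induction (p := fun V : Y.Opens => f x ∈ V) trivial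
    (fun _ h₁ _ h₂ => ⟨h₁, h₂⟩) fun k _ => hO (e k)
  have hUO : ∀ k, U ≤ O (e k) := fun k => Finset.inf_le (Finset.mem_univ k)
  let m : Fin n → Γ(F, U) := fun k => F.presheaf.map (homOfLE (hUO k)).op (ν (e k))
  let G : Set Y := {z | ∃ hz : z ∈ U,
    Submodule.span (Y.presheaf.stalk z) (Set.range fun k => F.presheaf.germ U z hz (m k)) = ⊤}
  have hx : f x ∈ G := by
    refine ⟨hyU, (span_pullSect_eq_top_iff f F m x hyU).mpr ?_⟩
    rw [eq_top_iff, ← hs x hxW, Submodule.span_le]
    rintro _ ⟨j, rfl⟩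
    show P.presheaf.germ W x hxW (s j) ∈ Submodule.span _ _
    rw [hS j]
    refine Submodule.sum_mem _ fun p hp => Submodule.smul_mem _ _ (Submodule.subset_span ?_)
    have hpT : p.2 ∈ T := Finset.mem_biUnion.mpr ⟨j, Finset.mem_univ _, Finset.mem_image.mpr ⟨p, hp, rfl⟩⟩
    refine ⟨e.symm ⟨p.2, hpT⟩, ?_⟩
    show P.presheaf.germ (f ⁻¹ᵁ U) x hyU (OmegaSh.pullSect f F U (m _)) = _
    erw [← H06Mod.pullStalk_germ f F x U hyU]
    congr 1
    show F.presheaf.germ U (f x) hyU (F.presheaf.map _ _) = p.2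
    rw [TopCat.Presheaf.germ_res_apply, hν, Equiv.apply_symm_apply]
  have hG : IsOpen G := by
    rw [← hf.isOpen_preimage, isOpen_iff_forall_mem_open]
    rintro w ⟨hwU, hw⟩
    obtain ⟨W₀, hwW₀, σ', hσ'⟩ := H10Coh.exists_generators_nhd P h w
    obtain ⟨t, ht⟩ := H13Desc.span_germs_of_generators P W₀ σ'
    haveI := Fintype.ofFinite σ'.I
    let W₁ : X.Opens := W₀ ⊓ f ⁻¹ᵁ U
    have hwW₁ : w ∈ W₁ := ⟨hwW₀, hwU⟩
    let a : Fin n → Γ(P, W₁) := fun k =>
      P.presheaf.map (homOfLE (inf_le_right : W₁ ≤ f ⁻¹ᵁ U)).op (OmegaSh.pullSect f F U (m k))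
    have hnhd : ∀ j, ∃ (V : X.Opens) (_ : w ∈ V) (hV : V ≤ W₁) (r : Fin n → Γ(X, V)),
        P.presheaf.map (homOfLE hV).op (P.presheaf.map (homOfLE (inf_le_left : W₁ ≤ W₀)).op (t j)) =
          ∑ k, r k • P.presheaf.map (homOfLE hV).op (a k) := by
      intro j
      refine H13Desc.exists_nhd_mem_span P a _ w hwW₁ ?_
      have hw' := (span_pullSect_eq_top_iff f F m w hwU).mp hw
      have hsub : Set.range (fun k => P.presheaf.germ (f ⁻¹ᵁ U) w hwU (OmegaSh.pullSect f F U (m k))) ⊆
          Set.range fun k => P.presheaf.germ W₁ w hwW₁ (a k) := by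
        rintro _ ⟨k, rfl⟩
        exact ⟨k, TopCat.Presheaf.germ_res_apply _ _ _ _ _⟩
      exact Submodule.span_mono hsub (hw' ▸ Submodule.mem_top)
    choose V hwV hV r hr using hnhd
    let W' : X.Opens := Finset.univ.inf V ⊓ W₁
    refine ⟨W', fun v hv => ⟨hv.2.2, ?_⟩, W'.isOpen, ⟨Finset.inf_induction (p := fun V : X.Opens => w ∈ V) trivial
      (fun _ h₁ _ h₂ => ⟨h₁, h₂⟩) fun j _ => hwV j, hwW₁⟩⟩
    refine (span_pullSect_eq_top_iff f F m v hv.2.2).mpr ?_
    rw [eq_top_iff, ← ht v hv.2.1, Submodule.span_le]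
    rintro _ ⟨j, rfl⟩
    have hvV : v ∈ V j := Finset.inf_le (s := Finset.univ) (f := V) (Finset.mem_univ j) hv.1
    have h1 := congrArg (P.presheaf.germ (V j) v hvV) (hr j)
    rw [TopCat.Presheaf.germ_res_apply, TopCat.Presheaf.germ_res_apply, map_sum] at h1
    show P.presheaf.germ W₀ v hv.2.1 (t j) ∈ Submodule.span _ _
    rw [h1]
    refine Submodule.sum_mem _ fun k _ => ?_
    rw [H06Mod.germ_smul]
    refine Submodule.smul_mem _ _ (Submodule.subset_span ⟨k, ?_⟩)
    exact (TopCat.Presheaf.germ_res_apply P.presheaf (homOfLE (inf_le_right : W₁ ≤ f ⁻¹ᵁ U)) v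
      ((hV j) hvV) (OmegaSh.pullSect f F U (m k))).symm.trans
      (TopCat.Presheaf.germ_res_apply P.presheaf (homOfLE (hV j)) v hvV (a k)).symm
  let G' : Y.Opens := ⟨G, hG⟩
  have hG' : G' ≤ U := fun z hz => hz.1
  refine ⟨G', hx, n, fun k => F.presheaf.map (homOfLE hG').op (m k), ?_⟩
  rintro z ⟨hzU, hz⟩
  simpa only [TopCat.Presheaf.germ_res_apply] using hz

end Groth.Agent.H16Derived.TorTest
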