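import Groth.Agent.H16Derived.TorTest.DescPC
import Groth.Agent.H16Derived.TorTest.FTQuot

/-!
# Pseudo-coherence descends along flat surjective quasi-compact morphisms
-/


set_option autoImplicit false
set_option linter.style.haveILetI false
set_option backward.isDefEq.respectTransparency false

universe u

open CategoryTheory CategoryTheory.Limits CategoryTheory.Pretriangulated AlgebraicGeometry TopologicalSpace
open Groth.Agent.H16Derived Groth.Agent.H16Derived.KFlat Groth.Agent.H16Derived.KFlat.Stalk
open Groth.Agent.H8Props.NilThick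

attribute [local instance] HasDerivedCategory.standard

namespace Groth.Agent.H16Derived.TorTest

variable {X Y : Scheme.{u}}

/-- Induction on the length, quasi-compact version. -/
theorem pc_of_fpqc_pullback (m : ℤ) : ∀ (k : ℕ) {X Y : Scheme.{u}} (f : X ⟶ Y) [Flat f] [Surjective f]
    [QuasiCompact f] (P : CochainComplex Y.Modules ℤ) (_ : ∀ j, m - 1 + k < j → P.ExactAt j)
    (_ : DCoh.IsPseudoCoherentD m (DCoh.toD X ((pullCx f).obj P))),
    DCoh.IsPseudoCoherentD m (DCoh.toD Y P)
  | 0, X, Y, f, _, _, _, P, hex, _ => by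
    haveI : DerivedCategory.IsLE (DCoh.toD Y P) (m - 1) := (DerivedCategory.isLE_iff _ _).2 fun j hj =>
      (exactAt_iff_isZero_HD P j).1 (hex j (by omega))
    exact isPseudoCoherentD_of_isLE (m - 1) m (by omega)
  | k + 1, X, Y, f, _, _, _, P, hex, hpc => by
    let b := m + (k : ℤ)
    have hex' : ∀ j, b < j → P.ExactAt j := fun j hj => hex j (by omega)
    have hft : CohB1.IsFT (P.homology b) := isFT_of_pullback_quot f (Flat.isQuotientMap_of_surjective f) _
      (isFT_of_epi (pullHomologyIso f P b).hom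
        (isFT_homology_top (by omega) hpc fun j hj => exactAt_pullCx f (hex' j hj)))
    refine isPseudoCoherentD_of_rd fun y => ?_
    haveI : Module.Finite (Y.presheaf.stalk y) ((P.homology b).presheaf.stalk y) := H29Ref.finite_stalk _ hft y
    have hfin : Module.Finite (Y.presheaf.stalk y) (((stalkCx y).obj P).homology b) :=
      @Module.Finite.equiv _ _ _ _ _ _ _ _ (H29Ref.finite_stalk _ hft y) (stalkHomologyIso P b y).symm.toLinearEquiv
    obtain ⟨W, hyW, L, hL, g, hg⟩ := exists_attach P b y hfin
    let f₁ := f ∣_ W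
    haveI : Flat f₁ := IsZariskiLocalAtTarget.restrict (P := @Flat) inferInstance W
    haveI : Surjective f₁ := IsZariskiLocalAtTarget.restrict (P := @Surjective) inferInstance W
    haveI : QuasiCompact f₁ := IsZariskiLocalAtTarget.restrict (P := @QuasiCompact) inferInstance W
    let E := (HomologicalComplex.single (W : Scheme.{u}).Modules (ComplexShape.up ℤ) b).obj L
    have hE : DCoh.IsStrictlyPerfect E :=
      ⟨⟨b, b, fun l hl => HomologicalComplex.isZero_single_obj_X _ _ _ _ (by omega)⟩, fun l => by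
        by_cases hl : l = b
        · subst hl
          exact Stalk.isFinLocFree_of_iso (HomologicalComplex.singleObjXSelf (ComplexShape.up ℤ) _ L).symm hL
        · exact isFinLocFree_of_isZero (HomologicalComplex.isZero_single_obj_X _ _ _ _ hl)⟩
    let C := CochainComplex.mappingCone g
    have hQCpc : DCoh.IsPseudoCoherentD m (DCoh.toD _ ((pullCx f₁).obj C)) := by
      refine isPseudoCoherentD_of_iso (DerivedCategory.Q.mapIso
        (CochainComplex.mappingCone.mapHomologicalComplexIso g (Scheme.Modules.pullback f₁)).symm) ?_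
      exact isPseudoCoherentD_obj₃ (DerivedCategory.mappingCone_triangle_distinguished _)
        (isPseudoCoherentD_of_isPerfect (isPerfect_toD (isStrictlyPerfect_pullback f₁ hE)) _)
        (isPseudoCoherentD_of_iso (DerivedCategory.Q.mapIso (pullRestrictIso f W P).symm)
          (isPseudoCoherentD_restrict hpc (f ⁻¹ᵁ W)))
    have hCex : ∀ j, b < j → C.ExactAt j := fun j hj => by
      rw [exactAt_iff_stalks]
      intro w
      refine HomologicalComplex.ExactAt.of_iso ?_
        (CochainComplex.mappingCone.mapHomologicalComplexIso g (DerSch.stalkFunctor _ w)).symm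
      refine exactAt_mappingCone _ j ((DerSch.stalkFunctor _ w).map_isZero
        (HomologicalComplex.isZero_single_obj_X _ _ _ _ (by omega))) fun z hz => ?_
      have h1 := (exactAt_iff_stalks _ j).1 (exactAt_restrict W.ι (hex' j hj)) w
      rw [HomologicalComplex.exactAt_iff' _ (j - 1) j (j + 1) (by simp) (by simp),
        ShortComplex.moduleCat_exact_iff] at h1
      obtain ⟨v, hv⟩ := h1 z hz
      exact ⟨0, v, map_zero _, by rw [map_zero, zero_add]; exact hv.symm⟩
    have hCft : CohB1.IsFT (C.homology b) := isFT_of_pullback_quot f₁ (Flat.isQuotientMap_of_surjective f₁) _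
      (isFT_of_epi (pullHomologyIso f₁ C b).hom
        (isFT_homology_top (by omega) hQCpc fun j hj => exactAt_pullCx f₁ (hCex j hj)))
    have hy0 : Subsingleton ((C.homology b).presheaf.stalk ⟨y, hyW⟩) := by
      rw [HomologicalComplex.exactAt_iff_isZero_homology] at hg
      exact ModuleCat.subsingleton_of_isZero (hg.of_iso (stalkHomologyIso C b ⟨y, hyW⟩).symm)
    obtain ⟨W', hyW', hW'⟩ := H10Coh.exists_nhd_isZero _ hCft ⟨y, hyW⟩ hy0
    let f₂ := f₁ ∣_ W'
    haveI : Flat f₂ := IsZariskiLocalAtTarget.restrict (P := @Flat) inferInstance W'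
    haveI : Surjective f₂ := IsZariskiLocalAtTarget.restrict (P := @Surjective) inferInstance W'
    haveI : QuasiCompact f₂ := IsZariskiLocalAtTarget.restrict (P := @QuasiCompact) inferInstance W'
    let C' := (DCoh.restrictCx W').obj C
    have hC'pc : DCoh.IsPseudoCoherentD m (DCoh.toD (W' : Scheme.{u}) C') := by
      refine pc_of_fpqc_pullback m k f₂ C' ?_
        (isPseudoCoherentD_of_iso (DerivedCategory.Q.mapIso (pullRestrictIso f₁ W' C).symm)
          (isPseudoCoherentD_restrict hQCpc (f₁ ⁻¹ᵁ W')))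
      intro j hj
      rcases eq_or_lt_of_le (show b ≤ j by omega) with rfl | hj'
      · rw [HomologicalComplex.exactAt_iff_isZero_homology]
        exact hW'.of_iso ((C.sc _).mapHomologyIso (Scheme.Modules.restrictFunctor W'.ι))
      · exact exactAt_restrict _ (hCex j hj')
    -- `P` is pseudo-coherent near the point
    let j₀ := W'.ι ≫ W.ι
    have hP' : DCoh.IsPseudoCoherentD m (DCoh.toD (W' : Scheme.{u})
        ((DCoh.restrictCx W').obj ((DCoh.restrictCx W).obj P))) := by
      let g' := (DCoh.restrictCx W').map g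
      have hcone : DCoh.IsPseudoCoherentD m (DCoh.toD _ (CochainComplex.mappingCone g')) :=
        isPseudoCoherentD_of_iso (DerivedCategory.Q.mapIso
          (CochainComplex.mappingCone.mapHomologicalComplexIso g (Scheme.Modules.restrictFunctor W'.ι))) hC'pc
      exact isPseudoCoherentD_obj₃ (inv_rot_of_distTriang _
          (DerivedCategory.mappingCone_triangle_distinguished g'))
        (isPseudoCoherentD_shift hcone (-1) (m + 1) (by omega))
        (isPseudoCoherentD_of_isPerfect (isPerfect_toD (isStrictlyPerfect_rd W'.ι hE)) _)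
    refine ⟨j₀.opensRange, ⟨⟨_, hyW'⟩, rfl⟩, ?_⟩
    have e : DerivedCategory.Q.obj ((DCoh.restrictCx W').obj ((DCoh.restrictCx W).obj P)) ≅
        (rd j₀).obj (DCoh.toD Y P) :=
      DerivedCategory.Q.mapIso ((NatIso.mapHomologicalComplex
        (Scheme.Modules.restrictFunctorComp W'.ι W.ι).symm (ComplexShape.up ℤ)).app P) ≪≫
        ((rdQ j₀).app P).symm
    exact isPseudoCoherentD_of_iso
      (rdComp j₀.isoOpensRange.inv j₀ j₀.opensRange.ι j₀.isoOpensRange_inv_comp _).symm
      (isPseudoCoherentD_rd j₀.isoOpensRange.inv (isPseudoCoherentD_of_iso e hP'))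

/-- Pseudo-coherence descends along a flat surjective quasi-compact morphism. -/
theorem isPseudoCoherentD_of_fpqc_pullback (f : X ⟶ Y) [Flat f] [Surjective f] [QuasiCompact f]
    [DCoh.HasLpull f] (K : DCoh.D Y) (m : ℤ)
    (h : DCoh.IsPseudoCoherentD m ((DCoh.Lpull f).obj K)) : DCoh.IsPseudoCoherentD m K := by
  obtain ⟨P, hP, ⟨e⟩⟩ := exists_kflat_rep K
  have hQ : DCoh.IsPseudoCoherentD m (DCoh.toD X ((pullCx f).obj P)) :=
    isPseudoCoherentD_of_iso ((DCoh.Lpull f).mapIso e.symm ≪≫ lpullObjIso f P hP) h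
  refine isPseudoCoherentD_of_iso e (isPseudoCoherentD_of_rd fun y => ?_)
  obtain ⟨W, hW, hyW, -⟩ := exists_isAffineOpen_mem_and_subset (x := y) (U := ⊤) trivial
  have hloc : ∀ x : X, ∃ (V : X.Opens) (_ : x ∈ V) (b : ℤ),
      DerivedCategory.IsLE ((rd V.ι).obj (DCoh.toD X ((pullCx f).obj P))) b := fun x => by
    obtain ⟨V, hxV, hV⟩ := (isPseudoCoherentD_iff m _).1 hQ x
    exact ⟨V, hxV, hV.exists_isLE⟩
  choose V hxV b₀ hb₀ using hloc
  obtain ⟨t, ht⟩ := (QuasiCompact.isCompact_preimage (f := f) W W.isOpen hW.isCompact).elim_finite_subcover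
    (fun x => (V x : Set X)) (fun x => (V x).isOpen) fun x _ => Set.mem_iUnion.mpr ⟨x, hxV x⟩
  let b : ℤ := (insert (m - 1) (t.image b₀)).max' (Finset.insert_nonempty _ _)
  refine ⟨W, hyW, isPseudoCoherentD_of_iso ((rdQ W.ι).app P).symm ?_⟩
  haveI : Flat (f ∣_ W) := IsZariskiLocalAtTarget.restrict (P := @Flat) inferInstance W
  haveI : Surjective (f ∣_ W) := IsZariskiLocalAtTarget.restrict (P := @Surjective) inferInstance W
  haveI : QuasiCompact (f ∣_ W) := IsZariskiLocalAtTarget.restrict (P := @QuasiCompact) inferInstance W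
  refine pc_of_fpqc_pullback m (b + 1 - m).toNat (f ∣_ W) _ ?_
    (isPseudoCoherentD_of_iso (DerivedCategory.Q.mapIso (pullRestrictIso f W P).symm)
      (isPseudoCoherentD_restrict hQ (f ⁻¹ᵁ W)))
  intro j hj
  rw [exactAt_iff_stalks]
  rintro ⟨y', hy'⟩
  obtain ⟨x', rfl⟩ := f.surjective y'
  obtain ⟨x₁, hx₁, hx'⟩ := Set.mem_iUnion₂.mp (ht (show x' ∈ f.base ⁻¹' (W : Set Y) from hy'))
  haveI := hb₀ x₁
  have hbb : b₀ x₁ ≤ b := Finset.le_max' _ _ (Finset.mem_insert_of_mem (Finset.mem_image_of_mem _ hx₁))
  let V₁ := V x₁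
  have h1 : ((DCoh.restrictCx V₁).obj ((pullCx f).obj P)).ExactAt j := by
    rw [exactAt_iff_isZero_HD]
    exact (DerivedCategory.isZero_of_isLE ((rd V₁.ι).obj (DCoh.toD X ((pullCx f).obj P))) (b₀ x₁) j (by omega)).of_iso
      ((DerivedCategory.homologyFunctor _ j).mapIso ((rdQ V₁.ι).app ((pullCx f).obj P)).symm)
  have h2 : Subsingleton ((((pullCx f).obj P).homology j).presheaf.stalk x') := by
    rw [HomologicalComplex.exactAt_iff_isZero_homology] at h1
    have h3 : IsZero ((((pullCx f).obj P).homology j).restrict V₁.ι) :=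
      h1.of_iso ((((pullCx f).obj P).sc j).mapHomologyIso (Scheme.Modules.restrictFunctor V₁.ι)).symm
    haveI : Subsingleton (((((pullCx f).obj P).homology j).restrict V₁.ι).presheaf.stalk ⟨x', hx'⟩) :=
      ModuleCat.subsingleton_of_isZero ((DerSch.stalkFunctor (V₁ : Scheme.{u}) ⟨x', hx'⟩).map_isZero h3)
    exact (H8Props.NilThick.rsE V₁.ι (((pullCx f).obj P).homology j) ⟨x', hx'⟩).symm.injective.subsingleton
  have h4 : Subsingleton ((P.homology j).presheaf.stalk (f.base x')) :=
    subsingleton_stalk_of_pullback f _ x'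
      (@Function.Injective.subsingleton _ _ _ ((DerSch.stalkFunctor X x').mapIso (pullHomologyIso f P j).symm).toLinearEquiv.injective h2)
  rw [HomologicalComplex.exactAt_iff_isZero_homology]
  refine IsZero.of_iso ?_ (stalkHomologyIso _ j _)
  haveI : Subsingleton ((((P.homology j).restrict W.ι)).presheaf.stalk (⟨f.base x', hy'⟩ : W)) :=
    @Function.Injective.subsingleton _ _ _ (H8Props.NilThick.rsE W.ι (P.homology j) ⟨f.base x', hy'⟩).injective h4
  exact @ModuleCat.isZero_of_subsingleton _ _ _ (@Function.Injective.subsingleton _ _ _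
    ((DerSch.stalkFunctor (W : Scheme.{u}) (⟨f.base x', hy'⟩ : W)).mapIso
      ((P.sc j).mapHomologyIso (Scheme.Modules.restrictFunctor W.ι))).toLinearEquiv.injective this)

end Groth.Agent.H16Derived.TorTest
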