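import Groth.Agent.H16Derived.TorTest.TorIndepTA
import Groth.Agent.H16Derived.TorTest.TorIndepPC
import Groth.Agent.H16Derived.TorTest.PushProj
import Groth.Agent.H8Props.RelPCBaseChange

/-!
# External tensor products over a base: pseudo-coherence and amplitudes
-/

set_option autoImplicit false
set_option linter.style.haveILetI false
set_option backward.isDefEq.respectTransparency false

universe u

open CategoryTheory CategoryTheory.Limits AlgebraicGeometry MonoidalCategory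
open Groth.Agent.H16Derived Groth.Agent.H16Derived.KFlat Groth.Agent.H16Derived.KFlat.Stalk
open Groth.Agent.H16Derived.Dual
open Groth.Agent.H4DR.TorAmp

attribute [local instance] HasDerivedCategory.standard

namespace Groth.Agent.H16Derived.TorTest

section Square

variable {X Y Y' X' : Scheme.{u}} {f : X ⟶ Y} {g : Y' ⟶ Y} {g' : X' ⟶ X} {f' : X' ⟶ Y'}

attribute [local instance] H06Mod.stalkAlgebra

/-- Flat base change of tor amplitude along any pullback square. -/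
theorem hasTorAmplitudeD_flat_isPullback (H : IsPullback g' f' f g) [Flat g] [DCoh.HasLpull g']
    {F : CochainComplex X.Modules ℤ} {a b : ℤ} (hF : DerSch.HasTorAmplitude f a b F) :
    DerSch.HasTorAmplitudeD f' a b ((DCoh.Lpull g').obj (DCoh.toD X F)) := by
  intro F' hF'
  obtain ⟨P, hP, ⟨eP⟩⟩ := exists_kflat_rep (DCoh.toD X F)
  refine hasTorAmplitude_of_iso ((hF'.some ≪≫ (DCoh.Lpull _).mapIso eP.symm ≪≫ lpullObjIso _ P hP)).symm fun x' => ?_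
  have hP' : DerSch.HasTorAmplitudeAt f a b P (g'.base x') := hasTorAmplitude_of_iso eP.symm hF _
  let x := g'.base x'
  let y' := f'.base x'
  have hy : g.base y' = f.base x := by
    show g.base (f'.base x') = f.base (g'.base x')
    rw [← Scheme.Hom.comp_apply, ← Scheme.Hom.comp_apply, H.w]
  let β : Y.presheaf.stalk (f.base x) ⟶ Y'.presheaf.stalk y' :=
    Y.presheaf.stalkSpecializes (specializes_of_eq hy) ≫ g.stalkMap y'
  have hfl : β.hom.Flat := by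
    haveI : IsIso (Y.presheaf.stalkSpecializes (specializes_of_eq hy)) :=
      ⟨Y.presheaf.stalkSpecializes (specializes_of_eq hy.symm), by simp, by simp⟩
    exact RingHom.Flat.comp (RingHom.Flat.of_bijective
      (ConcreteCategory.bijective_of_isIso (Y.presheaf.stalkSpecializes (specializes_of_eq hy))))
      (Flat.stalkMap g y')
  letI : Algebra (Y.presheaf.stalk (f.base x)) (Y'.presheaf.stalk y') := β.hom.toAlgebra
  letI : Algebra (Y.presheaf.stalk (f.base x)) (X.presheaf.stalk x) := H06Mod.stalkAlgebra f x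
  letI : Algebra (X.presheaf.stalk x) (X'.presheaf.stalk x') := H06Mod.stalkAlgebra g' x'
  letI : Algebra (Y'.presheaf.stalk y') (X'.presheaf.stalk x') := H06Mod.stalkAlgebra f' x'
  letI : Algebra (Y.presheaf.stalk (f.base x)) (X'.presheaf.stalk x') :=
    (f.stalkMap x ≫ g'.stalkMap x').hom.toAlgebra
  haveI : IsScalarTower (Y.presheaf.stalk (f.base x)) (X.presheaf.stalk x)
      (X'.presheaf.stalk x') := .of_algebraMap_eq fun _ => rfl
  have hb' : Spec.map β ≫ Y.fromSpecStalk (f.base x) = Y'.fromSpecStalk y' ≫ g := by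
    rw [Spec.map_comp, Category.assoc, Scheme.SpecMap_stalkSpecializes_fromSpecStalk,
      Scheme.SpecMap_stalkMap_fromSpecStalk]
  have ha : Spec.map (f.stalkMap x) ≫ Y.fromSpecStalk (f.base x) = X.fromSpecStalk x ≫ f :=
    Scheme.SpecMap_stalkMap_fromSpecStalk f
  clear_value β
  have hcomm : β ≫ f'.stalkMap x' = f.stalkMap x ≫ g'.stalkMap x' := by
    apply Spec.map_injective
    rw [← cancel_mono (Y.fromSpecStalk (f.base x)), Spec.map_comp, Spec.map_comp, Category.assoc,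
      Category.assoc, hb', ha, ← Category.assoc, ← Category.assoc,
      Scheme.SpecMap_stalkMap_fromSpecStalk, Scheme.SpecMap_stalkMap_fromSpecStalk, Category.assoc,
      Category.assoc, H.w]
  haveI : IsScalarTower (Y.presheaf.stalk (f.base x)) (Y'.presheaf.stalk y')
      (X'.presheaf.stalk x') :=
    .of_algebraMap_eq fun r => congr($(congrArg CommRingCat.Hom.hom hcomm) r).symm
  have hC : (H06Mod.tensorLift (Y.presheaf.stalk (f.base x)) (X.presheaf.stalk x)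
      (Y'.presheaf.stalk y') (X'.presheaf.stalk x')).toRingHom.Flat := by
    refine H06Mod.flat_tensorLift (Y.presheaf.stalk (f.base x)) (X.presheaf.stalk x)
      (Y'.presheaf.stalk y') (X'.presheaf.stalk x') f g (X.fromSpecStalk x)
      (Y.fromSpecStalk (f.base x)) (Y'.fromSpecStalk y') ha hb' (X'.fromSpecStalk x' ≫ H.isoPullback.hom) ?_ ?_
    · rw [Category.assoc, H.isoPullback_hom_fst]
      exact Scheme.SpecMap_stalkMap_fromSpecStalk _
    · rw [Category.assoc, H.isoPullback_hom_snd]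
      exact Scheme.SpecMap_stalkMap_fromSpecStalk _
  refine ta_of_iso (DerivedCategory.Q.mapIso ((DTen.resCx (f'.stalkMap x').hom).mapIso
    ((NatIso.mapHomologicalComplex (pullStalkExtIso g' x') (ComplexShape.up ℤ)).app P))).symm ?_
  exact ta_flat_baseChange _ _ _ _ β.hom hfl (congrArg CommRingCat.Hom.hom hcomm) hC
    (((DerSch.stalkFunctor X x).mapHomologicalComplex (ComplexShape.up ℤ)).obj P) (ta_of_iso (Iso.refl _) hP')

end Square

/-- `Lf^*` on equal morphisms. -/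
theorem nonempty_lpull_congr {X Y : Scheme.{u}} {f g : X ⟶ Y} (e : f = g) [DCoh.HasLpull f] [DCoh.HasLpull g]
    (K : DCoh.D Y) : Nonempty ((DCoh.Lpull f).obj K ≅ (DCoh.Lpull g).obj K) := by
  subst e
  exact ⟨Iso.refl _⟩

section External

variable {S X₁ Y₁ X₂ Y₂ X Y : Scheme.{u}} {f₁ : X₁ ⟶ Y₁} {q₁ : Y₁ ⟶ S} {f₂ : X₂ ⟶ Y₂} {q₂ : Y₂ ⟶ S}
  {pX₁ : X ⟶ X₁} {pX₂ : X ⟶ X₂} {pY₁ : Y ⟶ Y₁} {pY₂ : Y ⟶ Y₂} {f : X ⟶ Y}

/-- The factorisation `X ⟶ Y₁ ×_S X₂ ⟶ Y`, both maps base changes. -/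
theorem exists_factorisation (hX : IsPullback pX₁ pX₂ (f₁ ≫ q₁) (f₂ ≫ q₂)) (hY : IsPullback pY₁ pY₂ q₁ q₂)
    (hf₁ : f ≫ pY₁ = pX₁ ≫ f₁) (hf₂ : f ≫ pY₂ = pX₂ ≫ f₂) :
    ∃ (Z : Scheme.{u}) (u : X ⟶ Z) (v : Z ⟶ Y) (z₁ : Z ⟶ Y₁) (z₂ : Z ⟶ X₂),
      u ≫ v = f ∧ u ≫ z₂ = pX₂ ∧ IsPullback z₁ z₂ q₁ (f₂ ≫ q₂) ∧ IsPullback pX₁ u f₁ z₁ ∧
        IsPullback z₂ v f₂ pY₂ := by
  let Z := pullback q₁ (f₂ ≫ q₂)
  let z₁ : Z ⟶ Y₁ := pullback.fst _ _
  let z₂ : Z ⟶ X₂ := pullback.snd _ _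
  let u : X ⟶ Z := pullback.lift (pX₁ ≫ f₁) pX₂ (by rw [Category.assoc]; exact hX.w)
  let v : Z ⟶ Y := hY.lift z₁ (z₂ ≫ f₂) (by rw [Category.assoc]; exact pullback.condition)
  have hu₁ : u ≫ z₁ = pX₁ ≫ f₁ := pullback.lift_fst _ _ _
  have hu₂ : u ≫ z₂ = pX₂ := pullback.lift_snd _ _ _
  have hv₁ : v ≫ pY₁ = z₁ := hY.lift_fst _ _ _
  have hv₂ : v ≫ pY₂ = z₂ ≫ f₂ := hY.lift_snd _ _ _
  have hZ : IsPullback z₁ z₂ q₁ (f₂ ≫ q₂) := IsPullback.of_hasPullback _ _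
  refine ⟨Z, u, v, z₁, z₂, ?_, hu₂, hZ, ?_, ?_⟩
  · apply hY.hom_ext
    · rw [Category.assoc, hv₁, hu₁, hf₁]
    · rw [Category.assoc, hv₂, reassoc_of% hu₂, hf₂]
  · have s : IsPullback pX₁ (u ≫ z₂) (f₁ ≫ q₁) (f₂ ≫ q₂) := by rw [hu₂]; exact hX
    exact IsPullback.of_bot s hu₁.symm hZ
  · have s : IsPullback z₂ (v ≫ pY₁) (f₂ ≫ q₂) q₁ := by rw [hv₁]; exact hZ.flip
    exact IsPullback.of_bot s hv₂.symm hY.flip

variable (hX : IsPullback pX₁ pX₂ (f₁ ≫ q₁) (f₂ ≫ q₂)) (hY : IsPullback pY₁ pY₂ q₁ q₂)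
  (hf₁ : f ≫ pY₁ = pX₁ ≫ f₁) (hf₂ : f ≫ pY₂ = pX₂ ≫ f₂) [Flat q₂] [Flat (f₂ ≫ q₂)]
  [DCoh.HasLpull pX₁] [DCoh.HasLpull pX₂]

include hX hY hf₁ hf₂

/-- **Pseudo-coherence of the external tensor product.** -/
theorem isPseudoCoherentRel_external [LocallyOfFiniteType f₁] [LocallyOfFiniteType f₂] {a₁ b₁ a₂ b₂ : ℤ}
    {E₁ : DCoh.D X₁} [E₁.IsLE b₁] (h₁ : DerSch.IsPseudoCoherentRel f₁ a₁ E₁)
    {E₂ : DCoh.D X₂} [E₂.IsLE b₂] (h₂ : DerSch.IsPseudoCoherentRel f₂ a₂ E₂) :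
    DerSch.IsPseudoCoherentRel f (max (a₁ + b₂) (a₂ + b₁))
      (((T X).obj ((DCoh.Lpull pX₂).obj E₂)).obj ((DCoh.Lpull pX₁).obj E₁)) := by
  obtain ⟨Z, u, v, z₁, z₂, hf, hu, hZ, Hu, Hv⟩ := exists_factorisation hX hY hf₁ hf₂
  haveI : Flat z₁ := MorphismProperty.of_isPullback hZ.flip inferInstance
  haveI : LocallyOfFiniteType u := MorphismProperty.of_isPullback Hu inferInstance
  haveI : LocallyOfFiniteType v := MorphismProperty.of_isPullback Hv inferInstance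
  haveI := hasLpull u
  haveI := hasLpull z₂
  haveI := hasLpull (u ≫ z₂)
  haveI : ((DCoh.Lpull pX₁).obj E₁).IsLE b₁ := isLE_lpull pX₁ E₁ b₁
  haveI : ((DCoh.Lpull z₂).obj E₂).IsLE b₂ := isLE_lpull z₂ E₂ b₂
  have h := isPseudoCoherentRel_T u v (b := b₁) (d := b₂) (H8Props.RelPC.rel_baseChange_any Hu h₁)
    (isPseudoCoherentRel_lpull_indep Hv hY.flip b₂ h₂)
  subst hf
  obtain ⟨c⟩ := lpull_comp u z₂ E₂
  obtain ⟨c'⟩ := nonempty_lpull_congr hu E₂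
  rw [add_comm a₂ b₁]
  exact H8Props.RelPC.rel_of_iso (((T X).mapIso (c ≪≫ c')).app _) h

omit [Flat q₂] [Flat (f₂ ≫ q₂)] in
/-- **Amplitude of the external tensor product.** -/
theorem hasTorAmplitudeD_external [Flat q₂] [Flat (f₂ ≫ q₂)]
    {a₁ b₁ a₂ b₂ : ℤ} {E₁ : CochainComplex X₁.Modules ℤ} (h₁ : DerSch.HasTorAmplitude f₁ a₁ b₁ E₁)
    {E₂ : CochainComplex X₂.Modules ℤ} (h₂ : DerSch.HasTorAmplitude f₂ a₂ b₂ E₂) :
    DerSch.HasTorAmplitudeD f (a₁ + a₂) (b₁ + b₂)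
      (((T X).obj ((DCoh.Lpull pX₂).obj (DCoh.toD X₂ E₂))).obj ((DCoh.Lpull pX₁).obj (DCoh.toD X₁ E₁))) := by
  obtain ⟨Z, u, v, z₁, z₂, hf, hu, hZ, Hu, Hv⟩ := exists_factorisation hX hY hf₁ hf₂
  haveI : Flat z₁ := MorphismProperty.of_isPullback hZ.flip inferInstance
  haveI := hasLpull u
  haveI := hasLpull z₂
  haveI := hasLpull (u ≫ z₂)
  let W₁ := DerivedCategory.Q.objPreimage ((DCoh.Lpull pX₁).obj (DCoh.toD X₁ E₁))
  let e₁ : DCoh.toD X W₁ ≅ (DCoh.Lpull pX₁).obj (DCoh.toD X₁ E₁) := DerivedCategory.Q.objObjPreimageIso _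
  let W₂ := DerivedCategory.Q.objPreimage ((DCoh.Lpull z₂).obj (DCoh.toD X₂ E₂))
  let e₂ : DCoh.toD Z W₂ ≅ (DCoh.Lpull z₂).obj (DCoh.toD X₂ E₂) := DerivedCategory.Q.objObjPreimageIso _
  haveI := hasLTensorCx W₁
  have h := hasTorAmplitudeD_tensor u v W₁ (hasTorAmplitudeD_flat_isPullback Hu h₁ W₁ ⟨e₁⟩)
    (hasTorAmplitudeD_pullback_indep Hv hY.flip h₂ W₂ ⟨e₂⟩)
  subst hf
  obtain ⟨c⟩ := lpull_comp u z₂ (DCoh.toD X₂ E₂)
  obtain ⟨c'⟩ := nonempty_lpull_congr hu (DCoh.toD X₂ E₂)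
  intro K ⟨e⟩
  exact h K ⟨e ≪≫ ((T X).mapIso ((DCoh.Lpull u).mapIso e₂ ≪≫ c ≪≫ c').symm).app _ ≪≫
    ((T X).obj _).mapIso e₁.symm ≪≫ (ltensorCxIsoT W₁).app _⟩

omit hY hf₁ hf₂ in
omit [Flat q₂] [Flat (f₂ ≫ q₂)] in
/-- **Lower bound of the external tensor product, first factor flat over the base.** -/
theorem isGE_external [Flat q₁] [Flat (f₁ ≫ q₁)]
    {a₁ b₁ a₂ b₂ : ℤ} {E₁ : CochainComplex X₁.Modules ℤ} (h₁ : DerSch.HasTorAmplitude f₁ a₁ b₁ E₁)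
    {E₂ : DCoh.D X₂} [E₂.IsGE a₂] [E₂.IsLE b₂] :
    (((T X).obj ((DCoh.Lpull pX₂).obj E₂)).obj ((DCoh.Lpull pX₁).obj (DCoh.toD X₁ E₁))).IsGE (a₁ + a₂) := by
  haveI := hasLpull (𝟙 S)
  haveI := (bounds_of_ta f₁ h₁).2
  -- `E₁` relative to the base
  have hS : DerSch.HasTorAmplitude (f₁ ≫ q₁) a₁ b₁ E₁ := fun x => by
    obtain ⟨M, hM, hMf, ⟨eM⟩⟩ := h₁ x
    refine ta_of_iso (DerivedCategory.Q.mapIso (stalkOverCompIso f₁ q₁ x E₁)).symm ?_
    refine ta_of_iso (resQ (q₁.stalkMap (f₁.base x)).hom eM) ?_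
    refine ⟨_, fun i hi => (ModuleCat.restrictScalars.{u} (q₁.stalkMap (f₁.base x)).hom).map_isZero (hM i hi),
      fun i => ?_, ⟨Iso.refl _⟩⟩
    letI := (q₁.stalkMap (f₁.base x)).hom.toAlgebra
    letI := Module.compHom (M.X i) (q₁.stalkMap (f₁.base x)).hom
    haveI : IsScalarTower (S.presheaf.stalk (q₁.base (f₁.base x))) (Y₁.presheaf.stalk (f₁.base x)) (M.X i) :=
      .of_algebraMap_smul fun _ _ => rfl
    haveI : Module.Flat (S.presheaf.stalk (q₁.base (f₁.base x))) (Y₁.presheaf.stalk (f₁.base x)) :=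
      Flat.stalkMap q₁ (f₁.base x)
    haveI := hMf i
    exact Module.Flat.trans (S.presheaf.stalk (q₁.base (f₁.base x))) (Y₁.presheaf.stalk (f₁.base x)) (M.X i)
  let W₁ := DerivedCategory.Q.objPreimage ((DCoh.Lpull pX₁).obj (DCoh.toD X₁ E₁))
  let e₁ : DCoh.toD X W₁ ≅ (DCoh.Lpull pX₁).obj (DCoh.toD X₁ E₁) := DerivedCategory.Q.objObjPreimageIso _
  haveI := hasLTensorCx W₁
  haveI : Flat ((f₁ ≫ q₁) ≫ 𝟙 S) := by rw [Category.comp_id]; infer_instance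
  have H₀ : IsPullback (f₂ ≫ q₂) (𝟙 X₂) (𝟙 S) (f₂ ≫ q₂) := IsPullback.of_vert_isIso ⟨by simp⟩
  have hW₁ : DerSch.HasTorAmplitude pX₂ a₁ b₁ W₁ :=
    hasTorAmplitudeD_pullback_indep hX H₀ hS W₁ ⟨e₁⟩
  obtain ⟨P, hP, ⟨eP⟩⟩ := exists_kflat_rep E₂
  let Q := ((Scheme.Modules.pullback pX₂).mapHomologicalComplex (ComplexShape.up ℤ)).obj P
  let e₂ : DCoh.toD X (((DCoh.tensorCx (X := X)).obj Q).obj W₁) ≅
      ((T X).obj ((DCoh.Lpull pX₂).obj E₂)).obj ((DCoh.Lpull pX₁).obj (DCoh.toD X₁ E₁)) :=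
    ((ltensorCxIso W₁).app ⟨Q, lkflat_of_kflat (isKFlat_pullback pX₂ hP)⟩).symm ≪≫
      ((ltensorCxIsoT W₁).app _).symm ≪≫
      ((T X).mapIso ((lpullObjIso pX₂ P hP).symm ≪≫ (DCoh.Lpull pX₂).mapIso eP)).app _ ≪≫
      ((T X).obj _).mapIso e₁
  suffices h : (DCoh.toD X (((DCoh.tensorCx (X := X)).obj Q).obj W₁)).IsGE (a₁ + a₂) by
    haveI := h
    exact DerivedCategory.TStructure.t.isGE_of_iso e₂ (a₁ + a₂)
  refine (DerivedCategory.isGE_iff _ _).2 fun i hi => ?_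
  refine IsZero.of_iso ?_ ((DerivedCategory.homologyFunctorFactors X.Modules i).app _)
  refine (ShortComplex.exact_iff_isZero_homology _).1 ((exact_iff _).2 fun x => ?_)
  refine (HomologicalComplex.exactAt_iff _ _).1
    ((exactAt_res_iff (pX₂.stalkMap x).hom ((Sx x).obj (((DCoh.tensorCx (X := X)).obj Q).obj W₁)) i).1 ?_)
  refine HomologicalComplex.ExactAt.of_iso ?_ (stalkPullTensorIso pX₂ x P W₁).symm
  let A₂ := X₂.presheaf.stalk (pX₂.base x)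
  let P₂ : DRing.Cx A₂ := (Sx (pX₂.base x)).obj P
  have hk : KFlat.IsKFlat (H4DR.KFlatMod.bi A₂) P₂ := (H25DTen.isKFlat_iff _).1 ((isKFlat_iff_stalk P).1 hP _)
  obtain ⟨E, hE, hEf, ⟨eE⟩⟩ := hW₁ x
  obtain ⟨e'⟩ := tensor_congr (fun j hj => hE j (Or.inr hj)) hk eE
  rw [HomologicalComplex.exactAt_iff_isZero_homology]
  refine IsZero.of_iso ?_ (((DerivedCategory.homologyFunctorFactors _ i).app _).symm ≪≫
    (DerivedCategory.homologyFunctor _ i).mapIso e'.symm ≪≫ (DerivedCategory.homologyFunctorFactors _ i).app _)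
  -- truncate the second factor
  have hlow : ∀ j, j < a₂ → IsZero (P₂.homology j) := fun j hj => by
    refine (HomologicalComplex.exactAt_iff_isZero_homology _ _).1 ?_
    refine (HomologicalComplex.exactAt_iff _ _).2 ?_
    have h0 : (P.sc j).Exact := (ShortComplex.exact_iff_isZero_homology _).2
      ((DerivedCategory.isZero_of_isGE E₂ a₂ j hj).of_iso
        (((DerivedCategory.homologyFunctorFactors X₂.Modules j).app P).symm ≪≫
          (DerivedCategory.homologyFunctor _ j).mapIso eP))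
    exact (exact_iff _).1 h0 (pX₂.base x)
  haveI : P₂.IsGE a₂ := (CochainComplex.isGE_iff P₂ a₂).2 fun j hj =>
    (HomologicalComplex.exactAt_iff_isZero_homology _ _).2 (hlow j hj)
  haveI : QuasiIso (P₂.πTruncGE a₂) := (P₂.quasiIso_πTruncGE_iff a₂).2 inferInstance
  have hEk := isKFlat_of_flat (fun j hj => hE j (Or.inr hj)) hEf
  haveI := H25DTen.quasiIso_whiskerLeft E hEk (P₂.πTruncGE a₂)
  refine IsZero.of_iso ?_ (asIso (HomologicalComplex.homologyMap (E ◁ P₂.πTruncGE a₂) i))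
  refine (HomologicalComplex.exactAt_iff_isZero_homology _ _).1
    ((HomologicalComplex.exactAt_iff _ _).2 (ShortComplex.exact_of_isZero_X₂ _ ?_))
  refine vanishes_tensor i fun p q hpq => ?_
  rcases lt_or_ge p a₁ with hp | hp
  · exact Or.inl (hE p (Or.inl hp))
  · exact Or.inr ((P₂.truncGE a₂).isZero_of_isStrictlyGE a₂ q (by omega))

end External

end Groth.Agent.H16Derived.TorTest
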