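import Groth.Agent.H16Derived.TorTest.ExtTensor
import Groth.Agent.H16Derived.Dual.PseudoCoh
import Groth.Agent.H8Props.RelPCBaseChange

/-!
# External tensor products of structure sheaves
-/

set_option autoImplicit false
set_option linter.style.haveILetI false
set_option backward.isDefEq.respectTransparency false

universe u

open CategoryTheory CategoryTheory.Limits AlgebraicGeometry
open Groth.Agent.H16Derived Groth.Agent.H16Derived.KFlat Groth.Agent.H16Derived.Dual

attribute [local instance] HasDerivedCategory.standard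

namespace Groth.Agent.H16Derived.TorTest

/-- `Lp^* O ⊗^L Lq^* O ≅ O`. -/
theorem nonempty_T_unit {X A B : Scheme.{u}} (p : X ⟶ A) (q : X ⟶ B) [DCoh.HasLpull p] [DCoh.HasLpull q] :
    Nonempty (DCoh.toD X (DerSch.unitCx X) ≅
      ((T X).obj ((DCoh.Lpull q).obj (DCoh.toD B (DerSch.unitCx B)))).obj
        ((DCoh.Lpull p).obj (DCoh.toD A (DerSch.unitCx A)))) := by
  obtain ⟨u⟩ := H8Props.RelPC.nonempty_lpull_unit p
  obtain ⟨v⟩ := H8Props.RelPC.nonempty_lpull_unit q
  let u₀ : DCoh.toD X (DerSch.unitCx X) ≅ o X 0 :=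
    DerivedCategory.Q.mapIso ((shiftFunctorZero (Cx X) ℤ).app (S₀ X)).symm
  obtain ⟨w⟩ := nonempty_TObj_o (DCoh.toD X (DerSch.unitCx X)) 0
  exact ⟨(((T X).mapIso v).app _ ≪≫ ((T X).obj _).mapIso (u ≪≫ u₀) ≪≫ w ≪≫
    (shiftFunctorZero (DCoh.D X) ℤ).app _).symm⟩

end Groth.Agent.H16Derived.TorTest
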