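import Groth.Agent.H16Derived.TorTest.PerfSpread
import Groth.Agent.H4DR.TorAmp.NilpotentPC

/-!
# The bottom term of a complex whose derived base change has bounded tor amplitude
-/

set_option autoImplicit false
set_option linter.style.haveILetI false

universe u

open CategoryTheory CategoryTheory.Limits Pretriangulated
open Groth.Agent.H16Derived Groth.Agent.H4DR.TorAmp Groth.Agent.H4DR

attribute [local instance] HasDerivedCategory.standard

namespace Groth.Agent.H16Derived.TorTest

variable {R S : Type u} [CommRing R] [CommRing S]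

/-- A complex in the single degree `m` with tor amplitude `[m, m]` has flat cohomology. -/
theorem flat_homology_of_ta_single {m : ℤ} {K : Dual.D R} (h : DRing.HasTorAmplitudeIn R m m K) :
    Module.Flat R (Dual.HD R K m) := by
  obtain ⟨E, hE, hf, ⟨e⟩⟩ := h
  haveI := hf m
  have hd : LinearMap.range (E.d (m - 1) m).hom = ⊥ := by
    haveI := ModuleCat.subsingleton_of_isZero (hE (m - 1) (Or.inl (by omega)))
    exact LinearMap.range_eq_bot.2 (LinearMap.ext fun x => by
      rw [Subsingleton.elim x 0, map_zero, map_zero])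
  exact Module.Flat.of_linearEquiv (((PCoh.hEquiv m e.symm).trans
    (((DerivedCategory.homologyFunctorFactors (ModuleCat.{u} R) m).app E) ≪≫
      Hom.homologyTopIso m (hE (m + 1) (Or.inr (lt_add_one m)))).toLinearEquiv).trans
    (Submodule.quotEquivOfEqBot _ hd))

/-- Right exactness of the extension of scalars on the top cokernel. -/
theorem nonempty_coker_extend (φ : R →+* S) (P : DRing.Cx R) (n : ℤ) :
    Nonempty ((ModuleCat.extendScalars.{u, u, u} φ).obj (Hom.coker P n) ≅
      Hom.coker (((ModuleCat.extendScalars.{u, u, u} φ).mapHomologicalComplex (ComplexShape.up ℤ)).obj P) n) :=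
  ⟨(ModuleCat.extendScalars.{u, u, u} φ).mapIso (ModuleCat.cokernelIsoRangeQuotient (P.d (n - 1) n)).symm ≪≫
    PreservesCokernel.iso (ModuleCat.extendScalars.{u, u, u} φ) (P.d (n - 1) n) ≪≫
    ModuleCat.cokernelIsoRangeQuotient _⟩

/-- A complex with flat terms above `m` whose derived base change has tor amplitude from `m` on has flat base
change of its bottom term. -/
theorem flat_ext_bot_of_ta (φ : R →+* S) [DRing.HasLBaseChange φ] {W : DRing.Cx R} {m n C : ℤ}
    (hnC : n ≤ C) (hz : DRing.VanishesOutside W m C) (hF : ∀ i, m < i → Module.Flat R (W.X i))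
    (hT : DRing.HasTorAmplitudeIn S m n ((DRing.LBaseChange φ).obj (DRing.toD W))) :
    Module.Flat S ((ModuleCat.extendScalars.{u, u, u} φ).obj (W.X m)) := by
  let ι := KFlat.Brutal.ι W (m + 1)
  let T₀ := ShortComplex.mk ι _ (cokernel.condition ι)
  have hT₀ : T₀.ShortExact := KFlat.Brutal.shortExact W (m + 1)
  let G := KFlat.Brutal.geq W (m + 1)
  let Cc := cokernel ι
  have hG : DRing.HasTorAmplitudeIn R (m + 1) (C + 1) (DRing.toD G) := by
    refine ⟨_, fun i hi => ?_, fun i => ?_, ⟨Iso.refl _⟩⟩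
    · by_cases h : m + 1 ≤ i
      · have := KFlat.Brutal.isIso_ι_f W (m + 1) h
        exact (hz i (Or.inr (by omega))).of_iso (asIso ((KFlat.Brutal.ι W (m + 1)).f i))
      · exact KFlat.Brutal.isZero_geq W _ (by omega)
    · by_cases h : m + 1 ≤ i
      · have := KFlat.Brutal.isIso_ι_f W (m + 1) h
        haveI := hF i (by omega)
        exact Module.Flat.of_linearEquiv (asIso ((KFlat.Brutal.ι W (m + 1)).f i)).toLinearEquiv
      · haveI := ModuleCat.subsingleton_of_isZero
          (KFlat.Brutal.isZero_geq W (m + 1) (show i < m + 1 by omega))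
        infer_instance
  have hCz : ∀ i, i ≠ m → IsZero (Cc.X i) := fun i hi => by
    by_cases h : m + 1 ≤ i
    · exact KFlat.Brutal.isZero_cokernel W _ h
    · have := KFlat.Brutal.isIso_cokernel_π W (m + 1) (show i < m + 1 by omega)
      exact (hz i (Or.inl (by omega))).of_iso (asIso ((cokernel.π ι).f i)).symm
  have hv : ∀ (Q : DRing.Cx R) (c : ℤ), (∀ i, c < i → IsZero (Q.X i)) →
      ∀ i, c < i → Subsingleton (Dual.HD R (DRing.toD Q) i) := fun Q c h i hi =>
    (subsingleton_HD_toD_iff Q i).2 ((HomologicalComplex.exactAt_iff _ _).2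
      (ShortComplex.exact_of_isZero_X₂ _ (h i hi)))
  obtain ⟨PC, hPC, ⟨eC⟩⟩ := exists_projRep (hv Cc m fun i hi => hCz i (by omega))
  obtain ⟨PW, hPW, ⟨eW⟩⟩ := exists_projRep (hv W C fun i hi => hz i (Or.inr hi))
  obtain ⟨PG, hPG, ⟨eG⟩⟩ := exists_projRep (K := DRing.toD G) (c := C + 1) fun i hi =>
    bound_of_ta hG i (Or.inr hi)
  haveI := hPG.isKProjective
  obtain ⟨f, hf⟩ := ProjLift.Q_map_surjective PG PW (eG.hom ≫ DerivedCategory.Q.map ι ≫ eW.inv)
  let T' := DerivedCategory.Q.mapTriangle.obj (CochainComplex.mappingCone.triangle f)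
  have hT' : T' ∈ distTriang _ := (DerivedCategory.mem_distTriang_iff _).2 ⟨_, _, f, ⟨Iso.refl _⟩⟩
  have hd := DerivedCategory.triangleOfSES_distinguished hT₀
  let ψ := completeDistinguishedTriangleMorphism T' (DerivedCategory.triangleOfSES hT₀) hT' hd eG.hom eW.hom
    (by
      show DerivedCategory.Q.map f ≫ eW.hom = eG.hom ≫ DerivedCategory.Q.map ι
      rw [hf, Category.assoc, Category.assoc, Iso.inv_hom_id, Category.comp_id])
  haveI h3 : IsIso ψ.hom₃ := isIso₃_of_isIso₁₂ ψ hT' hd (inferInstanceAs (IsIso eG.hom))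
    (inferInstanceAs (IsIso eW.hom))
  have hcone := cone_isProjRep hPG hPW f
  let Fx := (ModuleCat.extendScalars.{u, u, u} φ).mapHomologicalComplex (ComplexShape.up ℤ)
  let eK : DRing.toD (Fx.obj PC) ≅ DRing.toD (CochainComplex.mappingCone (Fx.map f)) :=
    (lbaseObj φ PC (isKFlat_of_flat hPC.above hPC.flat)).symm ≪≫
      (DRing.LBaseChange φ).mapIso (eC ≪≫ (@asIso _ _ _ _ ψ.hom₃ h3).symm) ≪≫
      lbaseObj φ _ (isKFlat_of_flat hcone.above hcone.flat) ≪≫
      DerivedCategory.Q.mapIso (CochainComplex.mappingCone.mapHomologicalComplexIso f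
        (ModuleCat.extendScalars.{u, u, u} φ))
  have h1 : DRing.HasTorAmplitudeIn S (m + 1) (C + 1) (DRing.toD (Fx.obj PG)) :=
    ta_of_iso ((DRing.LBaseChange φ).mapIso eG.symm ≪≫ lbaseObj φ PG (isKFlat_of_flat hPG.above hPG.flat))
      (ta_lbase φ hG)
  have h2 : DRing.HasTorAmplitudeIn S m C (DRing.toD (Fx.obj PW)) :=
    ta_mono le_rfl hnC (ta_of_iso ((DRing.LBaseChange φ).mapIso eW.symm ≪≫
      lbaseObj φ PW (isKFlat_of_flat hPW.above hPW.flat)) hT)
  have h3' : DRing.HasTorAmplitudeIn S m C (DRing.toD (CochainComplex.mappingCone (Fx.map f))) :=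
    ta_obj₃ (DerivedCategory.Q.mapTriangle.obj (CochainComplex.mappingCone.triangle (Fx.map f)))
      ((DerivedCategory.mem_distTriang_iff _).2 ⟨_, _, Fx.map f, ⟨Iso.refl _⟩⟩) h1 h2
  have hz' : ∀ i, m < i → IsZero ((Fx.obj PC).X i) := fun i hi =>
    (ModuleCat.extendScalars.{u, u, u} φ).map_isZero (hPC.above i hi)
  have h4 : DRing.HasTorAmplitudeIn S m m (DRing.toD (Fx.obj PC)) :=
    ta_top (ta_of_iso eK.symm h3') fun i hi => (subsingleton_HD_toD_iff _ i).2
      ((HomologicalComplex.exactAt_iff _ _).2 (ShortComplex.exact_of_isZero_X₂ _ (hz' i hi)))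
  obtain ⟨ek⟩ := nonempty_coker_extend φ PC m
  have hd0 : LinearMap.range (Cc.d (m - 1) m).hom = ⊥ := by
    haveI := ModuleCat.subsingleton_of_isZero (hCz (m - 1) (by omega))
    exact LinearMap.range_eq_bot.2 (LinearMap.ext fun x => by
      rw [Subsingleton.elim x 0, map_zero, map_zero])
  haveI := KFlat.Brutal.isIso_cokernel_π W (m + 1) (show m < m + 1 by omega)
  let e0 : W.X m ≅ Hom.coker PC m :=
    asIso ((cokernel.π ι).f m) ≪≫ (Submodule.quotEquivOfEqBot _ hd0).symm.toModuleIso ≪≫
      (Hom.homologyTopIso m (hCz (m + 1) (by omega))).symm ≪≫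
      ((DerivedCategory.homologyFunctorFactors (ModuleCat.{u} R) m).app Cc).symm ≪≫
      (DerivedCategory.homologyFunctor (ModuleCat.{u} R) m).mapIso eC.symm ≪≫
      (DerivedCategory.homologyFunctorFactors (ModuleCat.{u} R) m).app PC ≪≫
      Hom.homologyTopIso m (hPC.above _ (lt_add_one m))
  exact @Module.Flat.of_linearEquiv _ _ _ _ _ _ _ _ (flat_homology_of_ta_single h4) ((ModuleCat.extendScalars.{u, u, u} φ).mapIso e0 ≪≫ ek ≪≫
    (Hom.homologyTopIso m (hz' _ (lt_add_one m))).symm ≪≫
    ((DerivedCategory.homologyFunctorFactors (ModuleCat.{u} S) m).app (Fx.obj PC)).symm).toLinearEquiv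

end Groth.Agent.H16Derived.TorTest
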