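import Groth.Agent.H16Derived.TorTest.PerfAmpIn
import Groth.Agent.H16Derived.TorTest.RelFlatRel
import Groth.Agent.H16Derived.TorTest.RelFlatPC
import Groth.Agent.H16Derived.TorTest.PushStalkAmp
import Groth.Agent.H8Props.FlatLocus.Sheaf
import Groth.Agent.H8Props.RelPCTransfer

/-!
# Perfect amplitude relative to a base spreads from a point
-/

set_option autoImplicit false
set_option linter.style.haveILetI false
set_option backward.isDefEq.respectTransparency false

universe u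

open CategoryTheory CategoryTheory.Limits AlgebraicGeometry
open Groth.Agent.H16Derived Groth.Agent.H16Derived.KFlat Groth.Agent.H16Derived.KFlat.Stalk
open Groth.Agent.H4DR.TorAmp

attribute [local instance] HasDerivedCategory.standard

namespace Groth.Agent.H16Derived.TorTest

variable {X P S : Scheme.{u}}

/-- Pointwise flatness over the base restricts to opens. -/
theorem isFlatOverAt_restrict {U : Scheme.{u}} (q : U ⟶ S) (W : U.Opens) (M : U.Modules) (w : (W : Scheme.{u}))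
    (h : FlatMod.IsFlatOverAt q M (W.ι.base w)) :
    FlatMod.IsFlatOverAt (W.ι ≫ q) ((Scheme.Modules.restrictFunctor W.ι).obj M) w := by
  refine (isFlatOverAt_iff_ta (W.ι ≫ q) _ w).2 ?_
  exact ta_of_iso (stalkOverIso (W.ι ≫ q) w (DerivedCategory.Q.mapIso
    ((HomologicalComplex.singleMapHomologicalComplex (Scheme.Modules.restrictFunctor W.ι) (ComplexShape.up ℤ) 0).app M)))
    ((at_restrict W.ι q 0 0 (sgl M) w).2 ((isFlatOverAt_iff_ta q M (W.ι.base w)).1 h))

/-- Relative perfect amplitude spreads from a point, in the absolute form over a flat presentation. -/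
theorem exists_nhd_amp (p : P ⟶ S) [Flat p] [LocallyOfFinitePresentation p]
    {G : CochainComplex P.Modules ℤ} {a b : ℤ} (hGE : (DCoh.toD P G).IsGE a) [(DCoh.toD P G).IsLE b]
    (hpc : DCoh.IsPseudoCoherentD (a - 1) (DCoh.toD P G)) (x : P)
    (hG : DerSch.HasTorAmplitudeAt p a b G x) :
    ∃ A : P.Opens, x ∈ A ∧
      (∀ m : ℤ, DCoh.IsPseudoCoherentD m (DCoh.toD (A : Scheme.{u}) ((DCoh.restrictCx A).obj G))) ∧
      DerSch.HasTorAmplitude (A.ι ≫ p) a b ((DCoh.restrictCx A).obj G) := by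
  haveI : G.IsGE a := (DerivedCategory.isGE_Q_obj_iff G a).1 hGE
  haveI : IsIso (DerivedCategory.Q.map (G.πTruncGE a)) := isIso_Q_map _ (inferInstance : QuasiIso (G.πTruncGE a))
  let eG : DCoh.toD P G ≅ DCoh.toD P (G.truncGE a) := asIso (DerivedCategory.Q.map (G.πTruncGE a))
  obtain ⟨V, hxV, P₁, α, hP, hα⟩ := (isPseudoCoherentD_iff _ _).1 (isPseudoCoherentD_of_iso eG hpc) x
  let RG := (DCoh.restrictCx V).obj (G.truncGE a)
  obtain ⟨W, π, hxW, hπ⟩ := exists_real hP (α ≫ ((rdQ V.ι).app (G.truncGE a)).hom) ⟨x, hxV⟩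
  have hπ' : Approx (a - 1) (DerivedCategory.Q.map π) := hπ ▸ (Approx.of_isIso _ _).comp
    (((hα.comp (Approx.of_isIso _ _)).map_rd W.ι).comp (Approx.of_isIso _ _))
  let U : Scheme.{u} := (W : Scheme.{u})
  let qU : U ⟶ S := W.ι ≫ V.ι ≫ p
  let P₀ : CochainComplex U.Modules ℤ := (DCoh.restrictCx W).obj P₁
  let G₀ : CochainComplex U.Modules ℤ := (DCoh.restrictCx W).obj RG
  have hP₀ : DCoh.IsStrictlyPerfect P₀ := isStrictlyPerfect_rd W.ι hP
  haveI : G₀.IsStrictlyGE a := (CochainComplex.isStrictlyGE_iff _ _).2 fun i hi =>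
    (Scheme.Modules.restrictFunctor W.ι).map_isZero
      ((Scheme.Modules.restrictFunctor V.ι).map_isZero ((G.truncGE a).isZero_of_isStrictlyGE a i hi))
  obtain ⟨β, hβ, -⟩ := exists_factor_truncGE P₀ a π fun i hi =>
    (NatIso.isIso_map_iff (DerivedCategory.homologyFunctorFactors U.Modules i) _).1
      (hπ'.1 i (by omega))
  haveI : IsIso (DerivedCategory.Q.map β) := isIso_Q_map _ hβ
  let w : U := ⟨⟨x, hxV⟩, hxW⟩
  let T := P₀.truncGE a
  have h1 : DerSch.HasTorAmplitudeAt qU a b G₀ w :=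
    (at_restrict W.ι (V.ι ≫ p) a b RG w).2 ((at_restrict V.ι p a b (G.truncGE a) ⟨x, hxV⟩).2
      (ta_of_iso (stalkOverIso p x eG) hG))
  have h3 : DRing.HasTorAmplitudeIn (S.presheaf.stalk (qU.base w)) a b (DRing.toD ((DerSch.stalkCxOver qU w).obj T)) :=
    ta_of_iso (stalkOverIso qU w (asIso (DerivedCategory.Q.map β))).symm h1
  obtain ⟨⟨lo, q, hpq⟩, hPf⟩ := id hP₀
  have hTf : ∀ i, a < i → FlatMod.IsFinLocFree (T.X i) := fun i hi =>
    isFinLocFree_of_iso (P₀.truncGEXIso a i hi).symm (hPf i)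
  let C := max (max a q) b
  have hTz : ∀ i, (i < a ∨ C < i) → IsZero (T.X i) := fun i hi => by
    rcases hi with hi | hi
    · exact T.isZero_of_isStrictlyGE a i hi
    · exact (hpq i (Or.inr (by omega))).of_iso (P₀.truncGEXIso a i (by omega))
  have hflat : FlatMod.IsFlatOverAt qU (T.X a) w :=
    flat_bot_of_ta (R := S.presheaf.stalk (qU.base w)) (W := (DerSch.stalkCxOver qU w).obj T) (n := b) (C := C) (by omega)
      (fun i hi => (DerSch.stalkOver qU w).map_isZero (hTz i hi))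
      (fun i hi => BaseChange.isFlatOver_of_isFlat qU (isFlat_of_isFinLocFree (hTf i hi)) w) h3
  haveI : LocallyOfFinitePresentation qU := inferInstance
  let L : U.Opens := ⟨_, H8Props.FlatLocus.isOpen_setOf_isFlatOverAt qU (T.X a) (isFP_truncGE hP₀ a)⟩
  let B : (P : Scheme.{u}).Opens := (L.ι ≫ W.ι ≫ V.ι).opensRange
  let k : (B : Scheme.{u}) ⟶ (L : Scheme.{u}) := (L.ι ≫ W.ι ≫ V.ι).isoOpensRange.inv
  have hk : k ≫ L.ι ≫ W.ι ≫ V.ι = B.ι := (L.ι ≫ W.ι ≫ V.ι).isoOpensRange_inv_comp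
  let E : CochainComplex (B : Scheme.{u}).Modules ℤ :=
    ((Scheme.Modules.restrictFunctor k).mapHomologicalComplex (ComplexShape.up ℤ)).obj ((DCoh.restrictCx L).obj T)
  have hEz : DCoh.VanishesOutside E a C := fun i hi =>
    (Scheme.Modules.restrictFunctor k).map_isZero ((Scheme.Modules.restrictFunctor L.ι).map_isZero (hTz i hi))
  have hpB : k ≫ L.ι ≫ qU = B.ι ≫ p := by
    rw [← hk]
    simp only [qU, Category.assoc]
  have hTflat : ∀ i, FlatMod.IsFlatOver (L.ι ≫ qU) (((DCoh.restrictCx L).obj T).X i) := fun i y => by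
    refine isFlatOverAt_restrict qU L (T.X i) y ?_
    rcases lt_trichotomy i a with hi | rfl | hi
    · exact BaseChange.isFlatOver_of_isFlat qU (isFlat_of_isFinLocFree (isFinLocFree_of_isZero (hTz i (Or.inl hi)))) _
    · exact y.2
    · exact BaseChange.isFlatOver_of_isFlat qU (isFlat_of_isFinLocFree (hTf i hi)) _
  have hEflat : ∀ i, FlatMod.IsFlatOver (B.ι ≫ p) (E.X i) := fun i => by
    rw [← hpB]
    exact isFlatOver_restrict (L.ι ≫ qU) k (hTflat i)
  have hEfp : ∀ i, CohB1.IsFP (E.X i) := fun i => by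
    refine isFP_restrict k (isFP_restrict L.ι ?_)
    rcases lt_trichotomy i a with hi | rfl | hi
    · exact H8Props.FinLocFree.isFP_of_isFinLocFree _ (isFinLocFree_of_isZero (hTz i (Or.inl hi)))
    · exact isFP_truncGE hP₀ i
    · exact H8Props.FinLocFree.isFP_of_isFinLocFree _ (hTf i hi)
  let e : DCoh.toD (B : Scheme.{u}) E ≅ DCoh.toD (B : Scheme.{u}) ((DCoh.restrictCx B).obj G) :=
    ((rdQ k).app ((DCoh.restrictCx L).obj T)).symm ≪≫ (rd k).mapIso (((rdQ L.ι).app T).symm ≪≫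
      (rd L.ι).mapIso (asIso (DerivedCategory.Q.map β) ≪≫ ((rdQ W.ι).app RG).symm ≪≫
        (rd W.ι).mapIso (((rdQ V.ι).app (G.truncGE a)).symm ≪≫ (rd V.ι).mapIso eG.symm) ≪≫
        (rdComp W.ι V.ι _ rfl _).symm) ≪≫ (rdComp L.ι (W.ι ≫ V.ι) _ rfl _).symm) ≪≫
      (rdComp k (L.ι ≫ W.ι ≫ V.ι) B.ι hk _).symm ≪≫ (rdQ B.ι).app G
  refine ⟨B, ⟨⟨w, hflat⟩, rfl⟩, fun m => ?_, ?_⟩
  · exact isPseudoCoherentD_of_iso e (isPseudoCoherentD_of_relFlat (B.ι ≫ p) C (fun i hi => hEz i (Or.inr hi))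
      (fun i => ⟨hEfp i, hEflat i⟩) m)
  · have hC : DerSch.HasTorAmplitude (B.ι ≫ p) a C ((DCoh.restrictCx B).obj G) :=
      hasTorAmplitude_of_iso e (hasTorAmplitude_of_flat (B.ι ≫ p) hEz hEflat)
    intro y
    refine ta_top (hC y) fun i hi => ?_
    have h0 : (G.sc i).Exact := (ShortComplex.exact_iff_isZero_homology _).2
      ((DerivedCategory.isZero_of_isLE (DCoh.toD P G) b i hi).of_iso
        ((DerivedCategory.homologyFunctorFactors P.Modules i).app G).symm)
    have h1 : (((DCoh.restrictCx B).obj G).sc i).Exact := h0.map (Scheme.Modules.restrictFunctor B.ι)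
    refine (subsingleton_HD_toD_iff _ i).2 ?_
    exact (exactAt_res_iff ((B.ι ≫ p).stalkMap y).hom ((Sx y).obj _) i).2
      ((HomologicalComplex.exactAt_iff _ _).2 ((exact_iff _).1 h1 y))

end Groth.Agent.H16Derived.TorTest
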