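import Groth.Agent.H16Derived.TorTest.PerfAmpIn
import Groth.Agent.H16Derived.TorTest.RelFlatRel
import Groth.Agent.H16Derived.TorTest.RelFlatPC
import Groth.Agent.H16Derived.TorTest.PushStalkAmp
import Groth.Agent.H8Props.FlatLocus.Sheaf
import Groth.Agent.H8Props.RelPCTransfer
import Groth.Agent.H16Derived.TorTest.NhdAmp
import Groth.Agent.H16Derived.TorTest.FibreBot
import Groth.Agent.H7Flat.RelFlatLocus

/-!
# The fibre criterion for tor amplitude at a point
-/

set_option autoImplicit false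
set_option linter.style.haveILetI false
set_option backward.isDefEq.respectTransparency false

universe u

open CategoryTheory CategoryTheory.Limits AlgebraicGeometry
open Groth.Agent.H16Derived Groth.Agent.H16Derived.KFlat Groth.Agent.H16Derived.KFlat.Stalk
open Groth.Agent.H4DR.TorAmp

attribute [local instance] HasDerivedCategory.standard

namespace Groth.Agent.H16Derived.TorTest

variable {X P Y S : Scheme.{u}}

/-- Tor amplitude over `Y` at a point from tor amplitude over `S` and on the fibre. -/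
theorem ta_at_of_fibre (p : P ⟶ Y) (g : Y ⟶ S) [Flat p] [LocallyOfFinitePresentation p] [Flat g]
    [LocallyOfFinitePresentation g]
    {G : CochainComplex P.Modules ℤ} {a b : ℤ} (hGE : (DCoh.toD P G).IsGE a) [(DCoh.toD P G).IsLE b]
    (hpc : DCoh.IsPseudoCoherentD (a - 1) (DCoh.toD P G)) (x : P)
    [DRing.HasLBaseChange (Ideal.Quotient.mk (Ideal.map (g.stalkMap (p.base x)).hom
      (IsLocalRing.maximalIdeal (S.presheaf.stalk (g.base (p.base x))))))]
    (hS : DerSch.HasTorAmplitudeAt (p ≫ g) a b G x)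
    (hfib : DRing.HasTorAmplitudeIn
      ((Y.presheaf.stalk (p.base x)) ⧸ Ideal.map (g.stalkMap (p.base x)).hom
        (IsLocalRing.maximalIdeal (S.presheaf.stalk (g.base (p.base x))))) a b
      ((DRing.LBaseChange (Ideal.Quotient.mk (Ideal.map (g.stalkMap (p.base x)).hom
        (IsLocalRing.maximalIdeal (S.presheaf.stalk (g.base (p.base x))))))).obj
        (DRing.toD ((DerSch.stalkCxOver p x).obj G)))) :
    DerSch.HasTorAmplitudeAt p a b G x := by
  haveI : G.IsGE a := (DerivedCategory.isGE_Q_obj_iff G a).1 hGE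
  haveI : IsIso (DerivedCategory.Q.map (G.πTruncGE a)) := isIso_Q_map _ (inferInstance : QuasiIso (G.πTruncGE a))
  let eG : DCoh.toD P G ≅ DCoh.toD P (G.truncGE a) := asIso (DerivedCategory.Q.map (G.πTruncGE a))
  obtain ⟨V, hxV, P₁, α, hP, hα⟩ := (isPseudoCoherentD_iff _ _).1 (isPseudoCoherentD_of_iso eG hpc) x
  let RG := (DCoh.restrictCx V).obj (G.truncGE a)
  obtain ⟨W, π, hxW, hπ⟩ := exists_real hP (α ≫ ((rdQ V.ι).app (G.truncGE a)).hom) ⟨x, hxV⟩
  have hπ' : Approx (a - 1) (DerivedCategory.Q.map π) := hπ ▸ (Approx.of_isIso _ _).comp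
    (((hα.comp (Approx.of_isIso _ _)).map_rd W.ι).comp (Approx.of_isIso _ _))
  let U : Scheme.{u} := (W : Scheme.{u})
  let qU : U ⟶ Y := W.ι ≫ V.ι ≫ p
  let P₀ : CochainComplex U.Modules ℤ := (DCoh.restrictCx W).obj P₁
  let G₀ : CochainComplex U.Modules ℤ := (DCoh.restrictCx W).obj RG
  have hP₀ : DCoh.IsStrictlyPerfect P₀ := isStrictlyPerfect_rd W.ι hP
  haveI : G₀.IsStrictlyGE a := (CochainComplex.isStrictlyGE_iff _ _).2 fun i hi =>
    (Scheme.Modules.restrictFunctor W.ι).map_isZero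
      ((Scheme.Modules.restrictFunctor V.ι).map_isZero ((G.truncGE a).isZero_of_isStrictlyGE a i hi))
  obtain ⟨β, hβ, -⟩ := exists_factor_truncGE P₀ a π fun i hi =>
    (NatIso.isIso_map_iff (DerivedCategory.homologyFunctorFactors U.Modules i) _).1
      (hπ'.1 i (by omega))
  haveI : IsIso (DerivedCategory.Q.map β) := isIso_Q_map _ hβ
  let w : U := ⟨⟨x, hxV⟩, hxW⟩
  let T := P₀.truncGE a
  have hqg : qU ≫ g = W.ι ≫ V.ι ≫ p ≫ g := by simp only [qU, Category.assoc]
  have h1 : DerSch.HasTorAmplitudeAt (qU ≫ g) a b G₀ w :=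
    (at_congr hqg a b G₀ w).2
    ((at_restrict W.ι (V.ι ≫ p ≫ g) a b RG w).2 ((at_restrict V.ι (p ≫ g) a b (G.truncGE a) ⟨x, hxV⟩).2
      (ta_of_iso (stalkOverIso (p ≫ g) x eG) hS)))
  have h3 : DerSch.HasTorAmplitudeAt (qU ≫ g) a b (P₀.truncGE a) w :=
    ta_of_iso (stalkOverIso (qU ≫ g) w (asIso (DerivedCategory.Q.map β))).symm h1
  have eT : DRing.toD ((DerSch.stalkCxOver qU w).obj T) ≅ DRing.toD ((DerSch.stalkCxOver p x).obj G) :=
    stalkOverIso qU w (asIso (DerivedCategory.Q.map β)) ≪≫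
      DerivedCategory.Q.mapIso (stalkOverCompIso W.ι (V.ι ≫ p) w _ ≪≫
        (DTen.resCx ((V.ι ≫ p).stalkMap (W.ι.base w)).hom).mapIso (stalkRestrictIso W.ι RG w)) ≪≫
      DerivedCategory.Q.mapIso (stalkOverCompIso V.ι p ⟨x, hxV⟩ _ ≪≫
        (DTen.resCx (p.stalkMap x).hom).mapIso (stalkRestrictIso V.ι (G.truncGE a) ⟨x, hxV⟩)) ≪≫
      (stalkOverIso p x eG).symm
  obtain ⟨⟨lo, q, hpq⟩, hPf⟩ := id hP₀
  have hTf : ∀ i, a < i → FlatMod.IsFinLocFree (T.X i) := fun i hi =>
    isFinLocFree_of_iso (P₀.truncGEXIso a i hi).symm (hPf i)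
  let C := max (max a q) b
  have hTz : ∀ i, (i < a ∨ C < i) → IsZero (T.X i) := fun i hi => by
    rcases hi with hi | hi
    · exact T.isZero_of_isStrictlyGE a i hi
    · exact (hpq i (Or.inr (by omega))).of_iso (P₀.truncGEXIso a i (by omega))
  have hflatS : FlatMod.IsFlatOverAt (qU ≫ g) (T.X a) w :=
    flat_bot_of_ta (R := S.presheaf.stalk ((qU ≫ g).base w)) (W := (DerSch.stalkCxOver (qU ≫ g) w).obj T)
      (n := b) (C := C) (by omega) (fun i hi => (DerSch.stalkOver (qU ≫ g) w).map_isZero (hTz i hi))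
      (fun i hi => BaseChange.isFlatOver_of_isFlat (qU ≫ g) (isFlat_of_isFinLocFree (hTf i hi)) w) h3
  let φ := Ideal.Quotient.mk (Ideal.map (g.stalkMap (p.base x)).hom
    (IsLocalRing.maximalIdeal (S.presheaf.stalk (g.base (p.base x)))))
  have hW : Module.Flat ((Y.presheaf.stalk (p.base x)) ⧸ Ideal.map (g.stalkMap (p.base x)).hom
        (IsLocalRing.maximalIdeal (S.presheaf.stalk (g.base (p.base x)))))
      ((ModuleCat.extendScalars.{u, u, u} φ).obj ((DerSch.stalkOver qU w).obj (T.X a))) :=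
    flat_ext_bot_of_ta φ (W := (DerSch.stalkCxOver qU w).obj T) (n := b) (C := C) (by omega)
      (fun i hi => (DerSch.stalkOver qU w).map_isZero (hTz i hi))
      (fun i hi => BaseChange.isFlatOver_of_isFlat qU (isFlat_of_isFinLocFree (hTf i hi)) w)
      (ta_of_iso ((DRing.LBaseChange φ).mapIso eT).symm hfib)
  have hflat : FlatMod.IsFlatOverAt qU (T.X a) w := by
    refine H7Flat.RelFlatLocus.isFlatOverAt_of_fibFlatAt qU g (T.X a) (isFP_truncGE hP₀ a) w hflatS ?_
    letI := FlatMod.moduleStalkOver qU (T.X a) w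
    exact (H06EGA9.quotFlat_iff_flat_tensor _).2 hW
  have hC : DerSch.HasTorAmplitudeAt qU a C T w :=
    ⟨_, fun i hi => (DerSch.stalkOver qU w).map_isZero (hTz i hi), fun i => by
      rcases lt_trichotomy i a with hi | rfl | hi
      · exact BaseChange.isFlatOver_of_isFlat qU (isFlat_of_isFinLocFree (isFinLocFree_of_isZero (hTz i (Or.inl hi)))) w
      · exact hflat
      · exact BaseChange.isFlatOver_of_isFlat qU (isFlat_of_isFinLocFree (hTf i hi)) w, ⟨Iso.refl _⟩⟩
  refine ta_top (ta_of_iso eT hC) fun i hi => ?_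
  have h0 : (G.sc i).Exact := (ShortComplex.exact_iff_isZero_homology _).2
    ((DerivedCategory.isZero_of_isLE (DCoh.toD P G) b i hi).of_iso
      ((DerivedCategory.homologyFunctorFactors P.Modules i).app G).symm)
  refine (subsingleton_HD_toD_iff _ i).2 ?_
  exact (exactAt_res_iff (p.stalkMap x).hom ((Sx x).obj _) i).2
    ((HomologicalComplex.exactAt_iff _ _).2 ((exact_iff _).1 h0 x))

end Groth.Agent.H16Derived.TorTest
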