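import Groth.Agent.H16Derived.TorTest.TorDimLoc
import Groth.Agent.H16Derived.BaseChange.RelFlatPull
import Groth.Agent.H16Derived.KFlat.FlatCriterion

/-!
# Relative flat amplitude from the stalks
-/

set_option autoImplicit false
set_option linter.style.haveILetI false
set_option backward.isDefEq.respectTransparency false

universe u

open CategoryTheory CategoryTheory.Limits AlgebraicGeometry
open Groth.Agent.H16Derived Groth.Agent.H16Derived.KFlat Groth.Agent.H16Derived.KFlat.Stalk
open Groth.Agent.H4DR.TorAmp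

attribute [local instance] HasDerivedCategory.standard

namespace Groth.Agent.H16Derived.TorTest

variable {X S : Scheme.{u}}

/-- Tor amplitude in the stalks gives relative flat amplitude over a flat morphism. -/
theorem hasRelFlatAmplitudeIn_of_stalk (f : X ⟶ S) [Flat f] {F : CochainComplex X.Modules ℤ} {a b : ℤ}
    (hF : DerSch.HasTorAmplitude f a b F) : DCoh.HasRelFlatAmplitudeIn f a b (DCoh.toD X F) := by
  haveI := (bounds_of_ta f hF).1
  haveI := (bounds_of_ta f hF).2
  obtain ⟨K, hK, ⟨eK⟩⟩ := DerivedCategory.exists_iso_Q_obj_of_isLE (DCoh.toD X F) b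
  haveI := hK
  obtain ⟨Q, α, hQ, hflat, hα⟩ := exists_flat_resolution K b
  haveI := hQ
  haveI := hα
  let eQ : DCoh.toD X Q ≅ DCoh.toD X F :=
    (@asIso _ _ _ _ (DerivedCategory.Q.map α) (Localization.inverts _ (HomologicalComplex.quasiIso X.Modules (ComplexShape.up ℤ)) α hα)) ≪≫ eK.symm
  have hQta : DerSch.HasTorAmplitude f a b Q := hasTorAmplitude_of_iso eQ.symm hF
  haveI : (DerivedCategory.Q.obj Q).IsGE a := DerivedCategory.TStructure.t.isGE_of_iso eQ.symm a
  haveI : Q.IsGE a := DerivedCategory.isGE_Q_obj_iff Q a |>.1 inferInstance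
  haveI : QuasiIso (Q.πTruncGE a) := (Q.quasiIso_πTruncGE_iff a).2 inferInstance
  haveI : CochainComplex.IsStrictlyLE (Q.truncGE a) b := inferInstance
  refine ⟨Q.truncGE a, fun i hi => ?_, fun i => ?_,
    ⟨(@asIso _ _ _ _ (DerivedCategory.Q.map (Q.πTruncGE a)) (Localization.inverts _
      (HomologicalComplex.quasiIso X.Modules (ComplexShape.up ℤ)) _ ‹QuasiIso (Q.πTruncGE a)›)).symm ≪≫ eQ⟩⟩
  · rcases hi with hi | hi
    · exact CochainComplex.isZero_of_isStrictlyGE _ a i hi
    · exact CochainComplex.isZero_of_isStrictlyLE _ b i hi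
  · rcases lt_trichotomy i a with hi | hi | hi
    · exact BaseChange.isFlatOver_of_isFlat f (isFlat_of_isZero (CochainComplex.isZero_of_isStrictlyGE _ a i hi))
    · subst hi
      refine fun x => BaseChange.isFlatOverAt_of_iso (Q.truncGEXIsoOpcycles i).symm ?_
      let G := DerSch.stalkOver f x
      haveI : PreservesColimit (parallelPair (Q.d (i - 1) i) 0) G := by
        haveI : PreservesFiniteColimits (DerSch.stalkFunctor X x) := inferInstance
        haveI : PreservesFiniteColimits (ModuleCat.restrictScalars.{u} (f.stalkMap x).hom) := inferInstance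
        haveI : PreservesFiniteColimits G := comp_preservesFiniteColimits _ _
        infer_instance
      let P := (DerSch.stalkCxOver f x).obj Q
      have hP : DRing.TermwiseFlat P := fun q => BaseChange.isFlatOver_of_isFlat f (hflat q) x
      haveI hop : Module.Flat (S.presheaf.stalk (f.base x)) (P.opcycles i) :=
        flat_opcycles hP i fun M => (tv_of_ta (hQta x)).exactAt
          (fun q hq => G.map_isZero (Q.isZero_of_isStrictlyLE b q hq)) hP (Iso.refl _) M (Or.inl (by omega))
      let hcolim : IsColimit (CokernelCofork.ofπ (G.map (Q.pOpcycles i))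
          (show G.map (Q.d (i - 1) i) ≫ G.map (Q.pOpcycles i) = 0 by
            rw [← Functor.map_comp, HomologicalComplex.d_pOpcycles, Functor.map_zero])) :=
        CokernelCofork.mapIsColimit _ (Q.opcyclesIsCokernel (i - 1) i (by simp)) G
      exact Module.Flat.of_linearEquiv (R := S.presheaf.stalk (f.base x)) (M := (P.opcycles i : Type u))
        (N := (G.obj (Q.opcycles i) : Type u))
        (IsColimit.coconePointUniqueUpToIso hcolim (P.opcyclesIsCokernel (i - 1) i (by simp))).toLinearEquiv
    · exact fun x => BaseChange.isFlatOverAt_of_iso (Q.truncGEXIso a i hi).symm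
        (BaseChange.isFlatOver_of_isFlat f (hflat i) x)

/-- The stalkwise form of finite tor dimension over the base, for a flat morphism. -/
theorem locHasFiniteRelTorDim_iff (f : X ⟶ S) [Flat f] {K : DCoh.D X} {F : CochainComplex X.Modules ℤ}
    (eF : DCoh.toD X F ≅ K) : DCoh.LocHasFiniteRelTorDim f K ↔ DerSch.LocFiniteTorAmplitude f F := by
  constructor
  · intro hK x
    obtain ⟨V, a, b, hx, h⟩ := hK x
    obtain ⟨E, hv, hf, ⟨e⟩⟩ := h F ⟨eF⟩
    have h1 := hasTorAmplitude_of_iso e (hasTorAmplitude_of_flat (V.ι ≫ f) hv hf)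
    exact ⟨V, a, b, hx, fun x' hx' => (at_restrict V.ι f a b F ⟨x', hx'⟩).1 (h1 ⟨x', hx'⟩)⟩
  · intro hF x
    obtain ⟨V, a, b, hx, h⟩ := hF x
    have h' : DerSch.HasTorAmplitude (V.ι ≫ f) a b ((DCoh.restrictCx V).obj F) := fun w =>
      (at_restrict V.ι f a b F w).2 (h w.1 w.2)
    obtain ⟨E, h1, h2, ⟨e⟩⟩ := hasRelFlatAmplitudeIn_of_stalk (V.ι ≫ f) h'
    exact ⟨V, a, b, hx, fun F' hF' => ⟨E, h1, h2, ⟨e ≪≫ ((rdQ V.ι).app F).symm ≪≫
      (rd V.ι).mapIso (eF ≪≫ hF'.some.symm) ≪≫ (rdQ V.ι).app F'⟩⟩⟩

end Groth.Agent.H16Derived.TorTest
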