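import Groth.Agent.H16Derived.TorTest.FibreBot
import Groth.Agent.H10Coh.FibreLift.MonoEpi
import Groth.Agent.S2107

/-!
# Flatness of a cokernel from the derived reduction to the closed fibre
-/

set_option autoImplicit false
set_option linter.style.haveILetI false

universe u

open CategoryTheory CategoryTheory.Limits Pretriangulated TensorProduct
open Groth.Agent.H16Derived Groth.Agent.H4DR.TorAmp Groth.Agent.H4DR

attribute [local instance] HasDerivedCategory.standard

namespace Groth.Agent.H16Derived.TorTest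

variable {R A B : Type u} [CommRing R] [CommRing A] [CommRing B] [Algebra R A] [IsLocalRing R] [IsLocalRing A]
  [IsLocalHom (algebraMap R A)]

/-- A complex of finite free modules approximating an object whose derived reduction has no cohomology in degree
`k - 1` has a cokernel in degree `k` that is flat over the base. -/
theorem flat_coker_of_lbase (hS : CAlgX.IsEssFinitePresentation R A) [Module.Flat R A]
    (φ : A →+* B) (hφ : Function.Surjective φ)
    (hker : RingHom.ker φ = (IsLocalRing.maximalIdeal R).map (algebraMap R A))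
    [DRing.HasLBaseChange φ] {P M : DRing.Cx A} (π : P ⟶ M) {N k : ℤ}
    (hPz : ∀ i, N < i → IsZero (P.X i)) (hPf : ∀ i, Module.Finite A (P.X i) ∧ Module.Free A (P.X i))
    (hM : ∀ i, N < i → Subsingleton (Dual.HD A (DRing.toD M) i))
    (hcone : ∀ i, k - 2 ≤ i → Subsingleton (Dual.HD A (DRing.toD (CochainComplex.mappingCone π)) i))
    (hfib : Subsingleton (Dual.HD B ((DRing.LBaseChange φ).obj (DRing.toD M)) (k - 1))) :
    letI := Module.compHom (Hom.coker P k) (algebraMap R A)
    Module.Flat R (Hom.coker P k) := by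
  classical
  have hP : IsProjRep P N := ⟨hPz, fun i => by haveI := (hPf i).2; infer_instance⟩
  obtain ⟨PM, hPM, ⟨eM⟩⟩ := exists_projRep hM
  haveI := hP.isKProjective
  obtain ⟨f, hf⟩ := ProjLift.Q_map_surjective P PM (DerivedCategory.Q.map π ≫ eM.inv)
  let T' := DerivedCategory.Q.mapTriangle.obj (CochainComplex.mappingCone.triangle f)
  let T := DerivedCategory.Q.mapTriangle.obj (CochainComplex.mappingCone.triangle π)
  have hT' : T' ∈ distTriang _ := (DerivedCategory.mem_distTriang_iff _).2 ⟨_, _, f, ⟨Iso.refl _⟩⟩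
  have hT : T ∈ distTriang _ := (DerivedCategory.mem_distTriang_iff _).2 ⟨_, _, π, ⟨Iso.refl _⟩⟩
  let ψ := completeDistinguishedTriangleMorphism T' T hT' hT (𝟙 _) eM.hom
    (by
      show DerivedCategory.Q.map f ≫ eM.hom = 𝟙 _ ≫ DerivedCategory.Q.map π
      rw [hf, Category.assoc, Iso.inv_hom_id, Category.comp_id, Category.id_comp])
  have h3 : IsIso ψ.hom₃ := isIso₃_of_isIso₁₂ ψ hT' hT (inferInstanceAs (IsIso (𝟙 _)))
    (inferInstanceAs (IsIso eM.hom))
  let e3 : DRing.toD (CochainComplex.mappingCone f) ≅ DRing.toD (CochainComplex.mappingCone π) :=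
    @asIso _ _ _ _ ψ.hom₃ h3
  have hcone' := cone_isProjRep hP hPM f
  obtain ⟨PC, hPC, ⟨eC⟩⟩ := exists_projRep (K := DRing.toD (CochainComplex.mappingCone π)) (c := k - 3)
    fun i hi => hcone i (by omega)
  let Fx := (ModuleCat.extendScalars.{u, u, u} φ).mapHomologicalComplex (ComplexShape.up ℤ)
  let T₁ := DerivedCategory.Q.mapTriangle.obj (CochainComplex.mappingCone.triangle (Fx.map f))
  have hT₁ : T₁ ∈ distTriang _ := (DerivedCategory.mem_distTriang_iff _).2 ⟨_, _, Fx.map f, ⟨Iso.refl _⟩⟩
  let eK : DRing.toD (Fx.obj PC) ≅ DRing.toD (CochainComplex.mappingCone (Fx.map f)) :=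
    (lbaseObj φ PC (isKFlat_of_flat hPC.above hPC.flat)).symm ≪≫
      (DRing.LBaseChange φ).mapIso (eC ≪≫ e3.symm) ≪≫
      lbaseObj φ _ (isKFlat_of_flat hcone'.above hcone'.flat) ≪≫
      DerivedCategory.Q.mapIso (CochainComplex.mappingCone.mapHomologicalComplexIso f
        (ModuleCat.extendScalars.{u, u, u} φ))
  have hz3 : IsZero ((DerivedCategory.homologyFunctor _ (k - 2)).obj T₁.obj₃) := by
    refine ModuleCat.isZero_of_iff_subsingleton.2 ?_
    haveI := (subsingleton_HD_toD_iff (Fx.obj PC) (k - 2)).2 ((HomologicalComplex.exactAt_iff _ _).2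
      (ShortComplex.exact_of_isZero_X₂ _ ((ModuleCat.extendScalars.{u, u, u} φ).map_isZero
        (hPC.above (k - 2) (by omega)))))
    exact (PCoh.hEquiv (k - 2) eK.symm).injective.subsingleton
  have hz2 : IsZero ((DerivedCategory.homologyFunctor _ (k - 1)).obj T₁.obj₂) := by
    refine ModuleCat.isZero_of_iff_subsingleton.2 ?_
    exact (PCoh.hEquiv (k - 1) (((DRing.LBaseChange φ).mapIso eM.symm) ≪≫
      lbaseObj φ PM (isKFlat_of_flat hPM.above hPM.flat))).symm.injective.subsingleton
  have hex : (Fx.obj P).ExactAt (k - 1) := by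
    refine (subsingleton_HD_toD_iff (Fx.obj P) (k - 1)).1 ((ModuleCat.isZero_of_iff_subsingleton (R := B)).1 ?_)
    exact (DerivedCategory.HomologySequence.exact₁ T₁ hT₁ (k - 2) (k - 1) (by omega)).isZero_of_both_zeros
      (hz3.eq_of_src _ _) (hz2.eq_of_tgt _ _)
  rw [HomologicalComplex.exactAt_iff' _ (k - 2) (k - 1) k (by simp; omega) (by simp),
    ShortComplex.ShortExact.moduleCat_exact_iff_function_exact] at hex
  letI : Algebra A B := φ.toAlgebra
  let D := (P.d (k - 2) (k - 1)).hom
  let L := LinearMap.range D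
  have hL : L ≤ LinearMap.ker (P.d (k - 1) k).hom := by
    rintro _ ⟨v, rfl⟩
    exact congr($(P.d_comp_d (k - 2) (k - 1) k).hom v)
  let uu : (P.X (k - 1) ⧸ L) →ₗ[A] P.X k := L.liftQ (P.d (k - 1) k).hom hL
  haveI := (hPf (k - 2)).1
  haveI := (hPf (k - 1)).1
  haveI := (hPf (k - 1)).2
  haveI := (hPf k).1
  haveI := (hPf k).2
  haveI : Module.FinitePresentation A (P.X (k - 1)) := Module.finitePresentation_of_projective A _
  haveI : Module.FinitePresentation A (P.X k) := Module.finitePresentation_of_projective A _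
  haveI : Module.FinitePresentation A (P.X (k - 1) ⧸ L) :=
    Module.finitePresentation_of_surjective L.mkQ L.mkQ_surjective
      (by rw [Submodule.ker_mkQ]; exact (Module.Finite.fg_top).map D |> fun h => by rwa [Submodule.map_top] at h)
  letI : Module R (P.X k) := Module.compHom (P.X k) (algebraMap R A)
  haveI : IsScalarTower R A (P.X k) := .of_algebraMap_smul fun _ _ => rfl
  letI : Module R (P.X (k - 1) ⧸ L) := Module.compHom (P.X (k - 1) ⧸ L) (algebraMap R A)
  haveI : IsScalarTower R A (P.X (k - 1) ⧸ L) := .of_algebraMap_smul fun _ _ => rfl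
  haveI : Module.Flat R (P.X k) := Module.Flat.trans R A (P.X k)
  let J := (IsLocalRing.maximalIdeal R).map (algebraMap R A)
  have hJ : RingHom.ker (algebraMap A B) = J := hker
  have key := (Groth.Agent.S2107.result hS uu fun v hv => by
    obtain ⟨y, rfl⟩ := L.mkQ_surjective v
    rw [Submodule.mkQ_apply, Submodule.liftQ_apply, ← hker,
      show RingHom.ker φ = RingHom.ker (algebraMap A B) from rfl,
      ← H10Coh.FibreLift.one_tmul_eq_zero_iff (S := B) hφ] at hv
    obtain ⟨(w : B ⊗[A] (P.X (k - 2) : Type u)), hw⟩ := (hex ((1 : B) ⊗ₜ[A] y)).1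
      ((LinearMap.baseChange_tmul ..).trans hv)
    obtain ⟨w', rfl⟩ := TensorProduct.mk_surjective A (P.X (k - 2)) B hφ w
    have h1 : (1 : B) ⊗ₜ[A] (y - D w') = 0 := by
      rw [TensorProduct.tmul_sub, sub_eq_zero]
      exact hw.symm
    have h2 : y - D w' ∈ J • (⊤ : Submodule A (P.X (k - 1))) :=
      hJ ▸ (H10Coh.FibreLift.one_tmul_eq_zero_iff (S := B) hφ _).1 h1
    have h3 : L.mkQ (y - D w') = L.mkQ y := by
      rw [map_sub, sub_eq_self]
      exact (Submodule.Quotient.mk_eq_zero L).2 ⟨w', rfl⟩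
    rw [← h3]
    have := Submodule.mem_map_of_mem (f := L.mkQ) h2
    rw [Submodule.map_smul''] at this
    exact Submodule.smul_mono le_rfl le_top this).2
  have hr : LinearMap.range uu = LinearMap.range (P.d (k - 1) k).hom := Submodule.range_liftQ _ _ _
  letI := Module.compHom (Hom.coker P k) (algebraMap R A)
  haveI : IsScalarTower R A (Hom.coker P k) := .of_algebraMap_smul fun _ _ => rfl
  exact @Module.Flat.of_linearEquiv _ _ _ _ _ _ _ _ key ((Submodule.quotEquivOfEq _ _ hr).symm.restrictScalars R)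

end Groth.Agent.H16Derived.TorTest
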