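import Groth.Agent.H16Derived.TorTest.NhdAmp
import Groth.Agent.H16Derived.TorTest.RelTorLoc
import Groth.Agent.H16Derived.TorTest.TorOne
import Groth.Agent.H16Derived.KFlat.StalkCriterion
import Groth.Agent.H7Flat.RelFlatLocus
import Groth.Agent.H8Props.FinLocFree.Global

/-!
# Tor amplitude over the base from the derived fibre
-/

set_option autoImplicit false
set_option linter.style.haveILetI false
set_option backward.isDefEq.respectTransparency false

universe u

open CategoryTheory CategoryTheory.Limits AlgebraicGeometry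
open Groth.Agent.H16Derived Groth.Agent.H16Derived.KFlat Groth.Agent.H16Derived.KFlat.Stalk
open Groth.Agent.H4DR.TorAmp Groth.Agent.H4DR

attribute [local instance] HasDerivedCategory.standard

namespace Groth.Agent.H16Derived.TorTest

variable {X S : Scheme.{u}}

/-- A pseudo-coherent complex whose derived reduction to the fibre at `x` has no cohomology just below `a`
has tor amplitude from `a` on over the base at `x`. -/
theorem ta_at_of_lbase (f : X ⟶ S) [Flat f] [LocallyOfFinitePresentation f]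
    {G : CochainComplex X.Modules ℤ} {a b : ℤ} (N : X.Opens)
    (hGE : (DCoh.toD (N : Scheme.{u}) ((DCoh.restrictCx N).obj G)).IsGE a)
    (hLE : (DCoh.toD (N : Scheme.{u}) ((DCoh.restrictCx N).obj G)).IsLE b)
    (hpc : DCoh.IsPseudoCoherentD (a - 2) (DCoh.toD X G)) (x : X) (hxN : x ∈ N) {B : Type u} [CommRing B]
    (φ : X.presheaf.stalk x →+* B) (hφ : Function.Surjective φ)
    (hker : RingHom.ker φ = (IsLocalRing.maximalIdeal (S.presheaf.stalk (f.base x))).map (f.stalkMap x).hom)
    [DRing.HasLBaseChange φ]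
    (hfib : Subsingleton (Dual.HD B ((DRing.LBaseChange φ).obj (DRing.toD ((Sx x).obj G))) (a - 1))) :
    DerSch.HasTorAmplitudeAt f a b G x := by
  let G₁ : CochainComplex (N : Scheme.{u}).Modules ℤ := (DCoh.restrictCx N).obj G
  haveI : G₁.IsGE a := (DerivedCategory.isGE_Q_obj_iff G₁ a).1 hGE
  haveI : IsIso (DerivedCategory.Q.map (G₁.πTruncGE a)) := isIso_Q_map _ (inferInstance : QuasiIso (G₁.πTruncGE a))
  let eG : DCoh.toD (N : Scheme.{u}) G₁ ≅ DCoh.toD (N : Scheme.{u}) (G₁.truncGE a) := asIso (DerivedCategory.Q.map (G₁.πTruncGE a))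
  obtain ⟨V, hxV, P₁, α, hP, hα⟩ := (isPseudoCoherentD_iff _ _).1 (isPseudoCoherentD_of_iso eG (isPseudoCoherentD_of_iso ((rdQ N.ι).app G) (isPseudoCoherentD_rd N.ι hpc))) ⟨x, hxN⟩
  let RG := (DCoh.restrictCx V).obj (G₁.truncGE a)
  obtain ⟨W, π, hxW, hπ⟩ := exists_real hP (α ≫ ((rdQ V.ι).app (G₁.truncGE a)).hom) ⟨⟨x, hxN⟩, hxV⟩
  have hπ' : Approx (a - 2) (DerivedCategory.Q.map π) := hπ ▸ (Approx.of_isIso _ _).comp
    (((hα.comp (Approx.of_isIso _ _)).map_rd W.ι).comp (Approx.of_isIso _ _))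
  let U : Scheme.{u} := (W : Scheme.{u})
  let j : U ⟶ X := W.ι ≫ V.ι ≫ N.ι
  let P₀ : CochainComplex U.Modules ℤ := (DCoh.restrictCx W).obj P₁
  let G₀ : CochainComplex U.Modules ℤ := (DCoh.restrictCx W).obj RG
  have hP₀ : DCoh.IsStrictlyPerfect P₀ := isStrictlyPerfect_rd W.ι hP
  haveI : G₀.IsStrictlyGE a := (CochainComplex.isStrictlyGE_iff _ _).2 fun i hi =>
    (Scheme.Modules.restrictFunctor W.ι).map_isZero
      ((Scheme.Modules.restrictFunctor V.ι).map_isZero ((G₁.truncGE a).isZero_of_isStrictlyGE a i hi))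
  obtain ⟨β, hβ, -⟩ := exists_factor_truncGE P₀ a π fun i hi =>
    (NatIso.isIso_map_iff (DerivedCategory.homologyFunctorFactors U.Modules i) _).1
      (hπ'.1 i (by omega))
  haveI : IsIso (DerivedCategory.Q.map β) := isIso_Q_map _ hβ
  let w : U := ⟨⟨⟨x, hxN⟩, hxV⟩, hxW⟩
  let T := P₀.truncGE a
  obtain ⟨⟨lo, q, hpq⟩, hPf⟩ := id hP₀
  have hTf : ∀ i, a < i → FlatMod.IsFinLocFree (T.X i) := fun i hi =>
    isFinLocFree_of_iso (P₀.truncGEXIso a i hi).symm (hPf i)
  let C := max (max a q) b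
  have hTz : ∀ i, (i < a ∨ C < i) → IsZero (T.X i) := fun i hi => by
    rcases hi with hi | hi
    · exact T.isZero_of_isStrictlyGE a i hi
    · exact (hpq i (Or.inr (by omega))).of_iso (P₀.truncGEXIso a i (by omega))
  haveI : PreservesFiniteLimits (DerSch.stalkOver j w) := comp_preservesFiniteLimits _ _
  haveI : PreservesFiniteColimits (DerSch.stalkOver j w) := comp_preservesFiniteColimits _ _
  let eGn : (DerSch.stalkCxOver j w).obj G₀ ≅ (DerSch.stalkCxOver N.ι ⟨x, hxN⟩).obj (G₁.truncGE a) :=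
    stalkOverCompIso W.ι (V.ι ≫ N.ι) w _ ≪≫
      (DTen.resCx ((V.ι ≫ N.ι).stalkMap (W.ι.base w)).hom).mapIso (stalkRestrictIso W.ι RG w) ≪≫
      stalkOverCompIso V.ι N.ι ⟨⟨x, hxN⟩, hxV⟩ _ ≪≫
      (DTen.resCx (N.ι.stalkMap ⟨x, hxN⟩).hom).mapIso (stalkRestrictIso V.ι (G₁.truncGE a) ⟨⟨x, hxN⟩, hxV⟩)
  let eQG : DRing.toD ((DerSch.stalkCxOver j w).obj G₀) ≅ DRing.toD ((Sx x).obj G) :=
    DerivedCategory.Q.mapIso eGn ≪≫ (stalkOverIso N.ι ⟨x, hxN⟩ eG).symm ≪≫
      DerivedCategory.Q.mapIso (stalkRestrictIso N.ι G ⟨x, hxN⟩)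
  let σ : X.presheaf.stalk x →+* U.presheaf.stalk w := (j.stalkMap w).hom
  have hσ : Function.Bijective σ := ConcreteCategory.bijective_of_isIso (j.stalkMap w)
  have hcz : ∀ i, a - 2 ≤ i → IsZero ((DerivedCategory.homologyFunctor _ i).obj
      (DerivedCategory.Q.obj (CochainComplex.mappingCone π))) := fun i hi => by
    have hTπ : DerivedCategory.Q.mapTriangle.obj (CochainComplex.mappingCone.triangle π) ∈ distTriang _ :=
      (DerivedCategory.mem_distTriang_iff _).2 ⟨_, _, π, ⟨Iso.refl _⟩⟩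
    haveI : DerivedCategory.IsLE (DerivedCategory.Q.obj (CochainComplex.mappingCone π)) (a - 2 - 1) :=
      (approx_iff hTπ (a - 2)).1 hπ'
    exact DerivedCategory.isZero_of_isLE _ (a - 2 - 1) i (by omega)
  have hcone : ∀ i, a - 2 ≤ i → Subsingleton (Dual.HD (X.presheaf.stalk x)
      (DRing.toD (CochainComplex.mappingCone ((DerSch.stalkCxOver j w).map π))) i) := fun i hi => by
    have h1 : ((CochainComplex.mappingCone π).sc i).Exact := (ShortComplex.exact_iff_isZero_homology _).2
      ((hcz i hi).of_iso ((DerivedCategory.homologyFunctorFactors U.Modules i).app _).symm)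
    have h2 : (((DerSch.stalkCxOver j w).obj (CochainComplex.mappingCone π)).sc i).Exact :=
      h1.map (DerSch.stalkOver j w)
    exact (subsingleton_HD_toD_iff _ i).2 (((HomologicalComplex.exactAt_iff _ _).2 h2).of_iso
      (CochainComplex.mappingCone.mapHomologicalComplexIso π (DerSch.stalkOver j w)))
  have hexG : ∀ i, b < i → ((Sx x).obj G).ExactAt i := fun i hi => by
    haveI : DerivedCategory.IsLE (DCoh.toD (N : Scheme.{u}) G₁) b := hLE
    have h0 : (G₁.sc i).Exact := (ShortComplex.exact_iff_isZero_homology _).2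
      ((DerivedCategory.isZero_of_isLE (DCoh.toD (N : Scheme.{u}) G₁) b i hi).of_iso
        ((DerivedCategory.homologyFunctorFactors (N : Scheme.{u}).Modules i).app G₁).symm)
    haveI : PreservesFiniteLimits (DerSch.stalkOver N.ι ⟨x, hxN⟩) := comp_preservesFiniteLimits _ _
    haveI : PreservesFiniteColimits (DerSch.stalkOver N.ι ⟨x, hxN⟩) := comp_preservesFiniteColimits _ _
    exact ((HomologicalComplex.exactAt_iff ((DerSch.stalkCxOver N.ι ⟨x, hxN⟩).obj G₁) i).2
      (h0.map (DerSch.stalkOver N.ι ⟨x, hxN⟩))).of_iso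
      (stalkRestrictIso N.ι G ⟨x, hxN⟩)
  have hM : ∀ i, C < i → Subsingleton (Dual.HD (X.presheaf.stalk x)
      (DRing.toD ((DerSch.stalkCxOver j w).obj G₀)) i) := fun i hi => by
    exact @Function.Injective.subsingleton _ _ _ (PCoh.hEquiv i eQG).injective
      ((subsingleton_HD_toD_iff _ i).2 (hexG i (by omega)))
  have hfree : ∀ i, Module.Finite (X.presheaf.stalk x) ((DerSch.stalkOver j w).obj (P₀.X i)) ∧
      Module.Free (X.presheaf.stalk x) ((DerSch.stalkOver j w).obj (P₀.X i)) := fun i => by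
    haveI := H8Props.FreeLocus.finitePresentation_stalk (P₀.X i) (H8Props.FinLocFree.isFP_of_isFinLocFree _ (hPf i)) w
    haveI := H8Props.FinLocFree.free_stalk (P₀.X i) (hPf i) w
    let r := (RingEquiv.ofBijective σ hσ).symm
    haveI : RingHomInvPair (r : U.presheaf.stalk w →+* X.presheaf.stalk x) (r.symm : X.presheaf.stalk x →+* U.presheaf.stalk w) :=
      RingHomInvPair.of_ringEquiv r
    haveI : RingHomInvPair (r.symm : X.presheaf.stalk x →+* U.presheaf.stalk w) (r : U.presheaf.stalk w →+* X.presheaf.stalk x) :=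
      RingHomInvPair.symm _ _
    let l : (DerSch.stalkFunctor U w).obj (P₀.X i) ≃ₛₗ[(r : U.presheaf.stalk w →+* X.presheaf.stalk x)]
        (DerSch.stalkOver j w).obj (P₀.X i) :=
      { toFun := fun v => v
        invFun := fun v => v
        map_add' := fun _ _ => rfl
        map_smul' := fun c v => by
          show c • v = σ (r c) • v
          rw [show σ (r c) = c from (RingEquiv.ofBijective σ hσ).apply_symm_apply c]
        left_inv := fun _ => rfl
        right_inv := fun _ => rfl }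
    haveI : Module.Finite (U.presheaf.stalk w) ((DerSch.stalkFunctor U w).obj (P₀.X i)) :=
      inferInstanceAs (Module.Finite (U.presheaf.stalk w) ((P₀.X i).presheaf.stalk w))
    haveI : Module.Free (U.presheaf.stalk w) ((DerSch.stalkFunctor U w).obj (P₀.X i)) :=
      inferInstanceAs (Module.Free (U.presheaf.stalk w) ((P₀.X i).presheaf.stalk w))
    exact ⟨Module.Finite.of_surjective l.toLinearMap l.surjective,
      Module.Free.of_equiv l⟩
  letI : Algebra (S.presheaf.stalk (f.base x)) (X.presheaf.stalk x) := (f.stalkMap x).hom.toAlgebra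
  haveI : IsLocalHom (algebraMap (S.presheaf.stalk (f.base x)) (X.presheaf.stalk x)) :=
    inferInstanceAs (IsLocalHom (f.stalkMap x).hom)
  haveI : Module.Flat (S.presheaf.stalk (f.base x)) (X.presheaf.stalk x) :=
    (AlgebraicGeometry.Flat.iff_flat_stalkMap f).1 ‹_› x
  have hfib' : Subsingleton (Dual.HD B ((DRing.LBaseChange φ).obj
      (DRing.toD ((DerSch.stalkCxOver j w).obj G₀))) (a - 1)) :=
    (PCoh.hEquiv (a - 1) ((DRing.LBaseChange φ).mapIso eQG)).injective.subsingleton
  have key : letI := Module.compHom (Hom.coker ((DerSch.stalkCxOver j w).obj P₀) a) (f.stalkMap x).hom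
      Module.Flat (S.presheaf.stalk (f.base x)) (Hom.coker ((DerSch.stalkCxOver j w).obj P₀) a) :=
    flat_coker_of_lbase (H7Flat.RelFlatLocus.isEssFP_stalkMap f x) φ hφ hker
      ((DerSch.stalkCxOver j w).map π) (N := C)
      (fun i hi => (DerSch.stalkOver j w).map_isZero (hpq i (Or.inr (by omega)))) hfree hM hcone hfib'
  have hflat : FlatMod.IsFlatOverAt (j ≫ f) (T.X a) w := by
    refine BaseChange.isFlatOverAt_of_iso (P₀.truncGEXIsoOpcycles a).symm ?_
    let Gf := DerSch.stalkOver j w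
    let hcolim : IsColimit (CokernelCofork.ofπ (Gf.map (P₀.pOpcycles a))
        (show Gf.map (P₀.d (a - 1) a) ≫ Gf.map (P₀.pOpcycles a) = 0 by
          rw [← Functor.map_comp, HomologicalComplex.d_pOpcycles, Functor.map_zero])) :=
      CokernelCofork.mapIsColimit _ (P₀.opcyclesIsCokernel (a - 1) a (by simp)) Gf
    let e1 : Gf.obj (P₀.opcycles a) ≅ Hom.coker ((DerSch.stalkCxOver j w).obj P₀) a :=
      IsColimit.coconePointUniqueUpToIso hcolim (ModuleCat.cokernelIsColimit (Gf.map (P₀.d (a - 1) a)))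
    let e2 : (DerSch.stalkOver (j ≫ f) w).obj (P₀.opcycles a) ≅
        (ModuleCat.restrictScalars (f.stalkMap x).hom).obj (Gf.obj (P₀.opcycles a)) :=
      (ModuleCat.restrictScalarsComp' (f.stalkMap x).hom (j.stalkMap w).hom ((j ≫ f).stalkMap w).hom
        (by rw [Scheme.Hom.stalkMap_comp]; rfl)).app ((DerSch.stalkFunctor U w).obj (P₀.opcycles a))
    have hfl : Module.Flat (S.presheaf.stalk (f.base x)) ((DerSch.stalkOver (j ≫ f) w).obj (P₀.opcycles a)) :=
      @Module.Flat.of_linearEquiv (S.presheaf.stalk (f.base x))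
      ((ModuleCat.restrictScalars (f.stalkMap x).hom).obj (Hom.coker ((DerSch.stalkCxOver j w).obj P₀) a)) _ _ _ _ _ _ key
      (e2 ≪≫ (ModuleCat.restrictScalars (f.stalkMap x).hom).mapIso e1).toLinearEquiv
    exact hfl
  have hC : DerSch.HasTorAmplitudeAt (j ≫ f) a C T w :=
    ⟨_, fun i hi => (DerSch.stalkOver (j ≫ f) w).map_isZero (hTz i hi), fun i => by
      rcases lt_trichotomy i a with hi | rfl | hi
      · exact BaseChange.isFlatOver_of_isFlat (j ≫ f) (isFlat_of_isFinLocFree (isFinLocFree_of_isZero (hTz i (Or.inl hi)))) w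
      · exact hflat
      · exact BaseChange.isFlatOver_of_isFlat (j ≫ f) (isFlat_of_isFinLocFree (hTf i hi)) w, ⟨Iso.refl _⟩⟩
  have hC' : DerSch.HasTorAmplitudeAt f a C G x :=
    ta_of_iso (stalkOverIso (j ≫ f) w (asIso (DerivedCategory.Q.map β)) ≪≫
      DerivedCategory.Q.mapIso (stalkOverCompIso j f w G₀) ≪≫
      TorTest.resQ (f.stalkMap x).hom eQG) hC
  refine ta_top hC' fun i hi => ?_
  refine (subsingleton_HD_toD_iff _ i).2 ?_
  exact (exactAt_res_iff (f.stalkMap x).hom ((Sx x).obj _) i).2 (hexG i hi)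

end Groth.Agent.H16Derived.TorTest
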