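import Groth.Agent.H16Derived.TorTest.RelTildeAmp
import Groth.Agent.H16Derived.TorTest.FlatDescent
import Groth.Agent.H16Derived.BaseChange.RelFlatPull

/-!
# Flat base change of relative tor amplitude
-/

set_option autoImplicit false
set_option linter.style.haveILetI false
set_option backward.isDefEq.respectTransparency false

universe u

open CategoryTheory CategoryTheory.Limits AlgebraicGeometry TensorProduct MonoidalCategory
open Groth.Agent.H16Derived Groth.Agent.H16Derived.KFlat Groth.Agent.H16Derived.KFlat.Stalk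
open Groth.Agent.H4DR.TorAmp

attribute [local instance] HasDerivedCategory.standard

namespace Groth.Agent.H16Derived.TorTest

section Algebra

attribute [local instance] Algebra.TensorProduct.rightAlgebra

variable (R A R' C : Type u) [CommRing R] [CommRing A] [CommRing R'] [CommRing C]
  [Algebra R A] [Algebra R C] [Algebra A C] [Algebra R' C] [IsScalarTower R A C] (ρ : R →+* R')

/-- `(R' ⊗_R A) ⊗_A M ≅ R' ⊗_R M` over `R'`, naturally. -/
noncomputable def pushoutExtIso :
    letI := ρ.toAlgebra
    ModuleCat.extendScalars.{u, u, u} (algebraMap A (R' ⊗[R] A)) ⋙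
        ModuleCat.restrictScalars.{u} (algebraMap R' (R' ⊗[R] A)) ≅
      ModuleCat.restrictScalars.{u} (algebraMap R A) ⋙ ModuleCat.extendScalars.{u, u, u} ρ :=
  letI := ρ.toAlgebra
  NatIso.ofComponents (fun M =>
    letI : Module R M := Module.compHom M (algebraMap R A)
    haveI : IsScalarTower R A M := .of_algebraMap_smul fun _ _ => rfl
    let e := Algebra.IsPushout.cancelBaseChange R R' A (R' ⊗[R] A) M
    let X₁ : ModuleCat.{u} R' := (ModuleCat.extendScalars.{u, u, u} (algebraMap A (R' ⊗[R] A)) ⋙
      ModuleCat.restrictScalars.{u} (algebraMap R' (R' ⊗[R] A))).obj M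
    let X₂ : ModuleCat.{u} R' := (ModuleCat.restrictScalars.{u} (algebraMap R A) ⋙
      ModuleCat.extendScalars.{u, u, u} ρ).obj M
    let l : X₁ ≃ₗ[R'] X₂ :=
      { toFun := fun z => e z
        invFun := fun z => e.symm z
        map_add' := fun z w => e.map_add z w
        map_smul' := fun r z => (congrArg e (algebraMap_smul (R' ⊗[R] A) r (show (R' ⊗[R] A) ⊗[A] M from z))).trans (e.map_smul r z)
        left_inv := e.left_inv
        right_inv := e.right_inv }
    l.toModuleIso)
    (fun {M N} g => by
      letI : Module R M := Module.compHom M (algebraMap R A)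
      haveI : IsScalarTower R A M := .of_algebraMap_smul fun _ _ => rfl
      letI : Module R N := Module.compHom N (algebraMap R A)
      haveI : IsScalarTower R A N := .of_algebraMap_smul fun _ _ => rfl
      let eM := Algebra.IsPushout.cancelBaseChange R R' A (R' ⊗[R] A) M
      let eN := Algebra.IsPushout.cancelBaseChange R R' A (R' ⊗[R] A) N
      refine ModuleCat.hom_ext (LinearMap.ext fun z => ?_)
      obtain ⟨t, rfl⟩ := eM.symm.surjective z
      suffices h : eN (g.hom.baseChange (R' ⊗[R] A) (eM.symm t)) = (g.hom.restrictScalars R).lTensor R' t from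
        h.trans (congrArg ((g.hom.restrictScalars R).lTensor R') (eM.apply_symm_apply t).symm)
      rw [← eN.eq_symm_apply]
      induction t using TensorProduct.induction_on with
      | zero => simp
      | add a b ha hb => simp only [map_add, ha, hb]
      | tmul r n => simp [eM, eN, Algebra.IsPushout.cancelBaseChange])

/-- Tor amplitude after a base change that is flat over the tensor product. -/
theorem ta_flat_baseChange (hR : ρ.Flat) (htow : (algebraMap R' C).comp ρ = algebraMap R C)
    (hflat : letI := ρ.toAlgebra; haveI : IsScalarTower R R' C := .of_algebraMap_eq' htow.symm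
      (H06Mod.tensorLift R A R' C).toRingHom.Flat)
    (W : DRing.Cx A) {a b : ℤ}
    (hW : DRing.HasTorAmplitudeIn R a b (DRing.toD ((DTen.resCx (algebraMap R A)).obj W))) :
    DRing.HasTorAmplitudeIn R' a b (DRing.toD
      ((DTen.resCx (algebraMap R' C)).obj ((DTen.extCx (algebraMap A C)).obj W))) := by
  letI := ρ.toAlgebra
  haveI : IsScalarTower R R' C := .of_algebraMap_eq' htow.symm
  let D := R' ⊗[R] A
  let ψ : D →+* C :=
    (H06Mod.tensorLift R A R' C).toRingHom.comp (Algebra.TensorProduct.comm R R' A).toAlgHom.toRingHom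
  have hψ : ψ.Flat := (RingHom.Flat.of_bijective (f := (Algebra.TensorProduct.comm R R' A).toAlgHom.toRingHom)
    (Algebra.TensorProduct.comm R R' A).bijective).comp hflat
  have hA : algebraMap A C = ψ.comp (algebraMap A D) := RingHom.ext fun r => by
    show algebraMap A C r = H06Mod.tensorLift R A R' C (Algebra.TensorProduct.comm R R' A (1 ⊗ₜ r))
    rw [Algebra.TensorProduct.comm_tmul]
    simp [H06Mod.tensorLift]
  have hR' : algebraMap R' C = ψ.comp (algebraMap R' D) := RingHom.ext fun r => by
    show algebraMap R' C r = H06Mod.tensorLift R A R' C (Algebra.TensorProduct.comm R R' A (r ⊗ₜ 1))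
    rw [Algebra.TensorProduct.comm_tmul]
    simp [H06Mod.tensorLift]
  haveI : PreservesFiniteLimits (ModuleCat.extendScalars.{u, u, u} ρ) :=
    ModuleCat.preservesFiniteLimits_extendScalars_of_flat hR
  have h1 : DRing.HasTorAmplitudeIn R' a b (DRing.toD
      ((DTen.resCx (algebraMap R' D)).obj ((DTen.extCx (algebraMap A D)).obj W))) :=
    ta_of_iso ((ModuleCat.extendScalars.{u, u, u} ρ).mapDerivedCategoryFactors.app
      ((DTen.resCx (algebraMap R A)).obj W) ≪≫
      DerivedCategory.Q.mapIso ((NatIso.mapHomologicalComplex (pushoutExtIso R A R' ρ).symm (ComplexShape.up ℤ)).app W))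
      (ta_extend ρ hR hW)
  have h2 := ta_restrict_extend (algebraMap R' D) ψ hψ h1
  refine ta_of_iso (DerivedCategory.Q.mapIso ((resCompCx (algebraMap R' D) ψ (algebraMap R' C) hR' _).symm ≪≫
    (DTen.resCx (algebraMap R' C)).mapIso ?_)) h2
  exact (NatIso.mapHomologicalComplex ((ModuleCat.extendScalarsComp (algebraMap A D) ψ).symm ≪≫
    eqToIso (congrArg ModuleCat.extendScalars hA.symm)) (ComplexShape.up ℤ)).app W

end Algebra

section Scheme

attribute [local instance] H06Mod.stalkAlgebra

variable {X Y Y' : Scheme.{u}}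

/-- Flat base change of tor amplitude relative to a morphism, at a point. -/
theorem at_pullback_flat (f : X ⟶ Y) (g : Y' ⟶ Y) [Flat g] (P : CochainComplex X.Modules ℤ) {a b : ℤ}
    (x' : (pullback f g : Scheme.{u})) (hP : DerSch.HasTorAmplitudeAt f a b P ((pullback.fst f g).base x')) :
    DerSch.HasTorAmplitudeAt (pullback.snd f g) a b
      (((Scheme.Modules.pullback (pullback.fst f g)).mapHomologicalComplex (ComplexShape.up ℤ)).obj P) x' := by
  let g' := pullback.fst f g
  let f' := pullback.snd f g
  let x := g'.base x'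
  let y' := f'.base x'
  have hy : g.base y' = f.base x := by
    show g.base (f'.base x') = f.base (g'.base x')
    rw [← Scheme.Hom.comp_apply, ← Scheme.Hom.comp_apply, pullback.condition]
  let β : Y.presheaf.stalk (f.base x) ⟶ Y'.presheaf.stalk y' :=
    Y.presheaf.stalkSpecializes (specializes_of_eq hy) ≫ g.stalkMap y'
  have hfl : β.hom.Flat := by
    haveI : IsIso (Y.presheaf.stalkSpecializes (specializes_of_eq hy)) :=
      ⟨Y.presheaf.stalkSpecializes (specializes_of_eq hy.symm), by simp, by simp⟩
    exact RingHom.Flat.comp (RingHom.Flat.of_bijective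
      (ConcreteCategory.bijective_of_isIso (Y.presheaf.stalkSpecializes (specializes_of_eq hy))))
      (Flat.stalkMap g y')
  letI : Algebra (Y.presheaf.stalk (f.base x)) (Y'.presheaf.stalk y') := β.hom.toAlgebra
  letI : Algebra (Y.presheaf.stalk (f.base x)) (X.presheaf.stalk x) := H06Mod.stalkAlgebra f x
  letI : Algebra (X.presheaf.stalk x) ((pullback f g).presheaf.stalk x') := H06Mod.stalkAlgebra g' x'
  letI : Algebra (Y'.presheaf.stalk y') ((pullback f g).presheaf.stalk x') := H06Mod.stalkAlgebra f' x'
  letI : Algebra (Y.presheaf.stalk (f.base x)) ((pullback f g).presheaf.stalk x') :=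
    (f.stalkMap x ≫ g'.stalkMap x').hom.toAlgebra
  haveI : IsScalarTower (Y.presheaf.stalk (f.base x)) (X.presheaf.stalk x)
      ((pullback f g).presheaf.stalk x') := .of_algebraMap_eq fun _ => rfl
  have hb' : Spec.map β ≫ Y.fromSpecStalk (f.base x) = Y'.fromSpecStalk y' ≫ g := by
    rw [Spec.map_comp, Category.assoc, Scheme.SpecMap_stalkSpecializes_fromSpecStalk,
      Scheme.SpecMap_stalkMap_fromSpecStalk]
  have ha : Spec.map (f.stalkMap x) ≫ Y.fromSpecStalk (f.base x) = X.fromSpecStalk x ≫ f :=
    Scheme.SpecMap_stalkMap_fromSpecStalk f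
  clear_value β
  have hcomm : β ≫ f'.stalkMap x' = f.stalkMap x ≫ g'.stalkMap x' := by
    apply Spec.map_injective
    rw [← cancel_mono (Y.fromSpecStalk (f.base x)), Spec.map_comp, Spec.map_comp, Category.assoc,
      Category.assoc, hb', ha, ← Category.assoc, ← Category.assoc,
      Scheme.SpecMap_stalkMap_fromSpecStalk, Scheme.SpecMap_stalkMap_fromSpecStalk, Category.assoc,
      Category.assoc, pullback.condition]
  haveI : IsScalarTower (Y.presheaf.stalk (f.base x)) (Y'.presheaf.stalk y')
      ((pullback f g).presheaf.stalk x') :=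
    .of_algebraMap_eq fun r => congr($(congrArg CommRingCat.Hom.hom hcomm) r).symm
  have hC := H06Mod.flat_tensorLift (Y.presheaf.stalk (f.base x)) (X.presheaf.stalk x)
    (Y'.presheaf.stalk y') ((pullback f g).presheaf.stalk x') f g (X.fromSpecStalk x)
    (Y.fromSpecStalk (f.base x)) (Y'.fromSpecStalk y') ha hb' ((pullback f g).fromSpecStalk x')
    (Scheme.SpecMap_stalkMap_fromSpecStalk _) (Scheme.SpecMap_stalkMap_fromSpecStalk _)
  refine ta_of_iso (DerivedCategory.Q.mapIso ((DTen.resCx (f'.stalkMap x').hom).mapIso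
    ((NatIso.mapHomologicalComplex (pullStalkExtIso g' x') (ComplexShape.up ℤ)).app P))).symm ?_
  exact ta_flat_baseChange _ _ _ _ β.hom hfl (congrArg CommRingCat.Hom.hom hcomm) hC (((DerSch.stalkFunctor X x).mapHomologicalComplex (ComplexShape.up ℤ)).obj P)
    (ta_of_iso (Iso.refl _) hP)

/-- Flat base change of tor amplitude relative to a morphism. -/
theorem hasTorAmplitudeD_pullback_flat (f : X ⟶ Y) (g : Y' ⟶ Y) [Flat g] [DCoh.HasLpull (pullback.fst f g)]
    {F : CochainComplex X.Modules ℤ} {a b : ℤ} (hF : DerSch.HasTorAmplitude f a b F) :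
    DerSch.HasTorAmplitudeD (pullback.snd f g) a b ((DCoh.Lpull (pullback.fst f g)).obj (DCoh.toD X F)) := by
  intro F' hF'
  obtain ⟨P, hP, ⟨eP⟩⟩ := exists_kflat_rep (DCoh.toD X F)
  exact hasTorAmplitude_of_iso ((hF'.some ≪≫ (DCoh.Lpull _).mapIso eP.symm ≪≫ lpullObjIso _ P hP)).symm
    fun x' => at_pullback_flat f g P x' (hasTorAmplitude_of_iso eP.symm hF _)

end Scheme

end Groth.Agent.H16Derived.TorTest
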