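import Groth.Agent.H16Derived.TorTest.TorDimLoc
import Groth.Agent.H16Derived.RelPCOpen2
import Groth.Agent.H8Props.RelPCRep
import Groth.Agent.H8Props.RelPCTransfer
import Groth.Agent.H8Props.RelPCBaseChange
import Groth.Agent.H8Props.RelPCModule
import Groth.Agent.H8Props.PerfectPush
import Groth.Agent.H8Props.PseudoCoh.Koszul
import Groth.Agent.S10665
import Groth.Agent.S8663
import Groth.Agent.H17.KerStalk

/-!
# Perfect dimension of Koszul-regular immersions
-/

set_option autoImplicit false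
set_option linter.style.haveILetI false
set_option backward.isDefEq.respectTransparency false

universe u

open CategoryTheory CategoryTheory.Limits AlgebraicGeometry TensorProduct
open Groth.Agent.H16Derived Groth.Agent.H16Derived.KFlat Groth.Agent.H16Derived.KFlat.Stalk
open Groth.Agent.H8Props Groth.Agent.H8Props.PushPC Groth.Agent.H8Props.RelPC
open Groth.Agent.H4DR.TorAmp Groth.Agent.H16Derived.RelPCOpen

attribute [local instance] HasDerivedCategory.standard

namespace Groth.Agent.H16Derived.TorTest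

variable {A : Type u} [CommRing A]

/-- A quotient by a Koszul-regular sequence of length `d` has tor dimension at most `d`. -/
theorem torDim_of_koszulRegular (l : List A) (h : LCI.IsKoszulRegularSeq A l) :
    DRing.HasTorDimLE A l.length (A ⧸ Ideal.ofList l) := by
  let E : CochainComplex (ModuleCat.{u} A) ℤ := Koszul.koszul A l
  have hz : ∀ i : ℤ, i ≠ 0 → IsZero ((DerivedCategory.homologyFunctor _ i).obj (DRing.toD E)) :=
    fun i hi => (h i hi).of_iso ((DerivedCategory.homologyFunctorFactors _ i).app E)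
  haveI : DerivedCategory.IsGE (DRing.toD E) 0 :=
    (DerivedCategory.isGE_iff _ _).2 fun i hi => hz i (by omega)
  haveI : DerivedCategory.IsLE (DRing.toD E) 0 :=
    (DerivedCategory.isLE_iff _ _).2 fun i hi => hz i (by omega)
  obtain ⟨M, ⟨e⟩⟩ := DerivedCategory.exists_iso_singleFunctor_obj_of_isGE_of_isLE (DRing.toD E) 0
  have h1 : DRing.HasTorAmplitudeIn A (-(l.length : ℤ)) 0 (Dual.inD A M) :=
    ⟨E, PseudoCoh.koszul_isZero l, fun i => haveI := (PseudoCoh.koszul_finite_free l i).2; inferInstance, ⟨e⟩⟩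
  have h2 : DRing.HasTorDimLE A l.length M := (ta_inD_iff l.length M).1 h1
  obtain ⟨ε, hε⟩ := PseudoCoh.koszul_zero l
  haveI := ModuleCat.subsingleton_of_isZero (PseudoCoh.koszul_isZero l 1 (Or.inr one_pos))
  let q : LinearMap.ker (E.d 0 1).hom →ₗ[A] A ⧸ Ideal.ofList l :=
    (Submodule.mkQ (Ideal.ofList l)) ∘ₗ ε.toLinearMap ∘ₗ (LinearMap.ker (E.d 0 1).hom).subtype
  have hq : Function.Surjective q := fun y => by
    obtain ⟨a, rfl⟩ := Submodule.Quotient.mk_surjective _ y
    exact ⟨⟨ε.symm a, Subsingleton.elim (α := (Koszul.koszul A l).X 1) _ _⟩,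
      congrArg (Submodule.mkQ (Ideal.ofList l)) (ε.apply_symm_apply a)⟩
  let e' := (Submodule.quotEquivOfEq ((LinearMap.range (E.d (-1) 0).hom).submoduleOf
    (LinearMap.ker (E.d 0 1).hom)) (LinearMap.ker q) (by
      ext z
      rw [LinearMap.mem_ker]
      show z.1 ∈ LinearMap.range (E.d (-1) 0).hom ↔ Submodule.Quotient.mk (ε z.1) = 0
      rw [Submodule.Quotient.mk_eq_zero, ← hε]
      exact ⟨fun hz => ⟨_, hz, rfl⟩, fun ⟨w, hw, hwz⟩ => ε.injective hwz ▸ hw⟩)).trans
    (q.quotKerEquivOfSurjective hq)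
  let S := (CochainComplex.singleFunctor (ModuleCat.{u} A) 0).obj M
  let eS : M ≅ E.homology 0 :=
    (HomologicalComplex.singleObjHomologySelfIso (ComplexShape.up ℤ) 0 M).symm ≪≫
      ((DerivedCategory.homologyFunctorFactors (ModuleCat.{u} A) 0).app S).symm ≪≫
      (DerivedCategory.homologyFunctor (ModuleCat.{u} A) 0).mapIso
        (e ≪≫ (DerivedCategory.singleFunctorIsoCompQ (ModuleCat.{u} A) 0).app M).symm ≪≫
      (DerivedCategory.homologyFunctorFactors (ModuleCat.{u} A) 0).app E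
  let eq := (eS ≪≫ E.homologyIsoSc' (-1) 0 1 (by simp) (by simp) ≪≫
      (E.sc' (-1) 0 1).moduleCatHomologyIso).toLinearEquiv.trans
    ((Submodule.quotEquivOfEq (LinearMap.range (E.sc' (-1) 0 1).moduleCatToCycles)
      ((LinearMap.range (E.d (-1) 0).hom).submoduleOf (LinearMap.ker (E.d 0 1).hom)) (by
      ext z
      constructor
      · rintro ⟨x, hx⟩
        exact ⟨x, congrArg Subtype.val hx⟩
      · rintro ⟨x, hx⟩
        exact ⟨x, Subtype.ext hx⟩)).trans e')
  exact H8Props.PseudoCoh.hasTorDimLE_of_equiv eq h2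

variable {X Y : Scheme.{u}}

/-- Finite tor dimension of the stalk gives the amplitude of the structure sheaf at the point. -/
theorem at_unit_of_torDim (g : Y ⟶ X) {n : ℕ} (y : Y)
    (h : letI := (g.stalkMap y).hom.toAlgebra
      DRing.HasTorDimLE ↑(X.presheaf.stalk (g y)) n ↑(Y.presheaf.stalk y)) :
    DerSch.HasTorAmplitudeAt g (-(n : ℤ)) 0 (DerSch.unitCx Y) y := by
  letI := H06Mod.stalkAlgebra g y
  let l : ModuleCat.of (Y.presheaf.stalk y) (Y.presheaf.stalk y) ≅
      (DerSch.stalkFunctor Y y).obj (Coh.structureModule Y) :=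
    (LinearEquiv.ofBijective (LinearMap.toSpanSingleton (Y.presheaf.stalk y) _ (H06EGA9.oneStalk y))
      (H06EGA9.bijective_smul_oneStalk y)).toModuleIso
  let o : ModuleCat.of (X.presheaf.stalk (g.base y)) (Y.presheaf.stalk y) ≅
      (ModuleCat.restrictScalars (g.stalkMap y).hom).obj (ModuleCat.of (Y.presheaf.stalk y) (Y.presheaf.stalk y)) :=
    (AddEquiv.toLinearEquiv (AddEquiv.refl _) (fun r a => rfl) :
      (ModuleCat.of (X.presheaf.stalk (g.base y)) (Y.presheaf.stalk y)) ≃ₗ[X.presheaf.stalk (g.base y)]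
        (ModuleCat.restrictScalars (g.stalkMap y).hom).obj (ModuleCat.of (Y.presheaf.stalk y) (Y.presheaf.stalk y))).toModuleIso
  let e := DerivedCategory.Q.mapIso ((HomologicalComplex.singleMapHomologicalComplex
      (DerSch.stalkOver g y) (ComplexShape.up ℤ) 0).app (Coh.structureModule Y)) ≪≫
    ((DerivedCategory.singleFunctorIsoCompQ (ModuleCat.{u} (X.presheaf.stalk (g.base y))) 0).app
      ((DerSch.stalkOver g y).obj (Coh.structureModule Y))).symm ≪≫
    (DerivedCategory.singleFunctor _ 0).mapIso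
      ((ModuleCat.restrictScalars (g.stalkMap y).hom).mapIso l.symm ≪≫ o.symm)
  exact ta_of_iso e.symm ((ta_inD_iff n (ModuleCat.of _ _)).2 h)

/-- The tor dimension of the stalks of a locally closed immersion with perfect affine pieces. -/
theorem torDim_stalk_of_affine (i : Y ⟶ X) {U : X.Opens} (hU : IsAffineOpen U)
    [IsClosedImmersion (i ∣_ U)] (d : ℕ)
    (h : letI := (i.app U).hom.toAlgebra; DRing.HasTorDimLE Γ(X, U) d Γ(Y, i ⁻¹ᵁ U))
    (y : Y) (hy : i.base y ∈ U) :
    letI := (i.stalkMap y).hom.toAlgebra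
    DRing.HasTorDimLE ↑(X.presheaf.stalk (i y)) d ↑(Y.presheaf.stalk y) := by
  obtain ⟨hs, hW⟩ := H17.app_surjective_of_restrict i hU
  letI := (i.app U).hom.toAlgebra
  letI := TopCat.Presheaf.algebra_section_stalk X.presheaf (U := U) ⟨i.base y, hy⟩
  letI := TopCat.Presheaf.algebra_section_stalk Y.presheaf (U := i ⁻¹ᵁ U) ⟨y, hy⟩
  haveI : IsLocalization.AtPrime (X.presheaf.stalk (i.base y)) (hU.primeIdealOf ⟨i.base y, hy⟩).asIdeal :=
    hU.isLocalization_stalk ⟨i.base y, hy⟩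
  haveI : IsLocalization.AtPrime (Y.presheaf.stalk y) (hW.primeIdealOf ⟨y, hy⟩).asIdeal :=
    hW.isLocalization_stalk ⟨y, hy⟩
  let M := (hU.primeIdealOf ⟨i.base y, hy⟩).asIdeal.primeCompl
  letI := (i.stalkMap y).hom.toAlgebra
  letI : Algebra Γ(X, U) (Y.presheaf.stalk y) :=
    ((i.stalkMap y).hom.comp (algebraMap Γ(X, U) (X.presheaf.stalk (i.base y)))).toAlgebra
  haveI : IsScalarTower Γ(X, U) (X.presheaf.stalk (i.base y)) (Y.presheaf.stalk y) :=
    .of_algebraMap_eq fun _ => rfl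
  haveI : IsScalarTower Γ(X, U) Γ(Y, i ⁻¹ᵁ U) (Y.presheaf.stalk y) :=
    .of_algebraMap_eq fun r => Scheme.Hom.germ_stalkMap_apply i U y hy r
  have hM : Algebra.algebraMapSubmonoid Γ(Y, i ⁻¹ᵁ U) M =
      (hW.primeIdealOf ⟨y, hy⟩).asIdeal.primeCompl := by
    ext b
    obtain ⟨a, rfl⟩ := hs b
    change algebraMap Γ(X, U) Γ(Y, i ⁻¹ᵁ U) a ∈ _ ↔ algebraMap Γ(X, U) Γ(Y, i ⁻¹ᵁ U) a ∈ _
    rw [Ideal.mem_primeCompl_iff, ← IsLocalization.AtPrime.to_map_mem_maximal_iff (Y.presheaf.stalk y)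
      (hW.primeIdealOf ⟨y, hy⟩).asIdeal (algebraMap Γ(X, U) Γ(Y, i ⁻¹ᵁ U) a)]
    have key : ∀ a' : Γ(X, U), (algebraMap Γ(X, U) (Y.presheaf.stalk y) a' ∈ IsLocalRing.maximalIdeal _ ↔
        a' ∉ M) := fun a' => by
      rw [IsScalarTower.algebraMap_apply Γ(X, U) (X.presheaf.stalk (i.base y)) (Y.presheaf.stalk y)]
      rw [IsLocalRing.mem_maximalIdeal, mem_nonunits_iff]
      refine (not_congr (isUnit_map_iff (i.stalkMap y).hom _)).trans ?_
      rw [← mem_nonunits_iff, ← IsLocalRing.mem_maximalIdeal,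
        IsLocalization.AtPrime.to_map_mem_maximal_iff (X.presheaf.stalk (i.base y))
          (hU.primeIdealOf ⟨i.base y, hy⟩).asIdeal a']
      exact not_not.symm
    rw [← IsScalarTower.algebraMap_apply, key a, not_not]
    exact ⟨fun ⟨a', ha', e⟩ => by
      by_contra hn
      have := (key a).2 hn
      rw [IsScalarTower.algebraMap_apply Γ(X, U) Γ(Y, i ⁻¹ᵁ U) (Y.presheaf.stalk y), ← e,
        ← IsScalarTower.algebraMap_apply, key a'] at this
      exact this ha', fun ha => ⟨a, ha, rfl⟩⟩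
  haveI : IsLocalization (Algebra.algebraMapSubmonoid Γ(Y, i ⁻¹ᵁ U) M) (Y.presheaf.stalk y) := by
    rw [hM]; infer_instance
  haveI : IsLocalizedModule M (IsScalarTower.toAlgHom Γ(X, U) Γ(Y, i ⁻¹ᵁ U) (Y.presheaf.stalk y)).toLinearMap :=
    isLocalizedModule_iff_isLocalization.2 ‹_›
  have hb : IsBaseChange (X.presheaf.stalk (i.base y))
      (IsScalarTower.toAlgHom Γ(X, U) Γ(Y, i ⁻¹ᵁ U) (Y.presheaf.stalk y)).toLinearMap :=
    (isLocalizedModule_iff_isBaseChange M _ _).1 ‹_›
  haveI : Module.Flat Γ(X, U) (X.presheaf.stalk (i.base y)) := IsLocalization.flat _ M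
  exact H8Props.PseudoCoh.hasTorDimLE_of_equiv hb.equiv (H8Props.PseudoCoh.hasTorDimLE_baseChange h)

/-- Koszul-regular immersions have the expected perfect dimension. -/
theorem hasPerfDimLE_of_koszul (i : Y ⟶ X) (d : ℕ)
    (hi : RegImm.IsRegularImmersionOfCodim RegImm.Kind.koszul d i) : DerSch.HasPerfDimLE i d := by
  haveI := hi.1
  have hreg : RegImm.IsRegularImmersion RegImm.Kind.koszul i :=
    ⟨hi.1, fun z => let ⟨U, h1, h2, rs, _, h3, h4⟩ := hi.2 z; ⟨U, h1, h2, rs, h3, h4⟩⟩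
  have hperf : MoreMor.IsPerfectMor i := S8663.result i fun z => by
    simpa using S10665.koszulAt_etale_comp (𝟙 Y) i hreg z
  refine ⟨fun m => rel_of_local i m _ fun z => ?_, fun z => ?_⟩
  · obtain ⟨U, hz, hcl, -⟩ := hi.2 z
    haveI := hcl
    let W := i ⁻¹ᵁ U.1
    have hW : IsAffineOpen W := (H17.app_surjective_of_restrict i U.2).2
    obtain ⟨n, φ, hφ⟩ := exists_isChart i W U.1 le_rfl (i.finiteType_appLE U.2 hW le_rfl)
    refine ⟨W, hW, U.1, U.2, le_rfl, n, φ, hz, hφ, ?_⟩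
    refine chart_of_rel_restrict W ?_ hW le_rfl U.2 le_rfl φ hφ
    have hp := PerfectPush.isPerfect_push_unit (i ∣_ U.1)
      (PseudoCoh.isPerfectMor_of_isPullback (isPullback_morphismRestrict i U.1).flip hperf)
    rw [← morphismRestrict_ι]
    refine (rel_comp_iff_abs (i ∣_ U.1) U.1.ι (pcMor_of_flat _) m _).2 ?_
    refine isPseudoCoherentD_of_iso ?_ (isPseudoCoherentD_of_isPerfect hp m)
    exact (DerivedCategory.singleFunctor _ 0).mapIso
        ((Scheme.Modules.pushforward (i ∣_ U.1)).mapIso (Scheme.Modules.restrictUnitIso W.ι).symm) ≪≫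
      (pushDInD _ _).symm ≪≫ (pushD _).mapIso ((rdInD W.ι _).symm ≪≫ (rd W.ι).mapIso (inDIsoQ _))
  · obtain ⟨U, hz, hcl, rs, hlen, hseq, hker⟩ := hi.2 z
    haveI := hcl
    refine at_unit_of_torDim i z (torDim_stalk_of_affine i U.2 d ?_ z hz)
    letI := (i.app U.1).hom.toAlgebra
    have h0 := torDim_of_koszulRegular rs hseq
    rw [hlen, ← hker] at h0
    exact H8Props.PseudoCoh.hasTorDimLE_of_equiv
      (Ideal.quotientKerAlgEquivOfSurjective (f := Algebra.ofId Γ(X, U.1) Γ(Y, i ⁻¹ᵁ U.1))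
        (H17.app_surjective_of_restrict i U.2).1).toLinearEquiv h0

end Groth.Agent.H16Derived.TorTest
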