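import Groth.Agent.H16Derived.TorTest.PushTensorPC
import Groth.Agent.H16Derived.KFlat.GammaDerived
import Groth.Agent.H16Derived.KFlat.PushPull
import Groth.Agent.H16Derived.KFlat.LpullLocal
import Groth.Agent.H16Derived.Dual.PseudoQCoh
import Groth.Agent.H8Props.RpushAffine
import Mathlib.Algebra.Homology.DerivedCategory.HomologySequence

/-!
# Descending pseudo-coherence along a closed immersion
-/

set_option autoImplicit false
set_option linter.style.haveILetI false
set_option backward.isDefEq.respectTransparency false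

universe u

open CategoryTheory CategoryTheory.Limits AlgebraicGeometry Pretriangulated
open Groth.Agent.H16Derived Groth.Agent.H16Derived.KFlat Groth.Agent.H16Derived.KFlat.Stalk
open Groth.Agent.H16Derived.Dual Groth.Agent.H16Derived.QCohD Groth.Agent.H8Props.PushPC

attribute [local instance] HasDerivedCategory.standard

namespace Groth.Agent.H16Derived.TorTest

/-- If `J_* H` and `J_* O` are pseudo-coherent enough, so is `H`. -/
theorem pc_of_pushD : ∀ (n : ℕ) {Z X : Scheme.{u}} (J : Z ⟶ X) [IsClosedImmersion J] {H : DCoh.D Z}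
    (a b : ℤ) [H.IsLE b], b < a + n → DCoh.IsPseudoCoherentD a ((pushD J).obj H) →
    DCoh.IsPseudoCoherentD (a + 1 - b) ((pushD J).obj (DCoh.toD Z (DerSch.unitCx Z))) →
    DCoh.IsPseudoCoherentD a H := by
  intro n
  induction n with
  | zero =>
    intro Z X J _ H a b _ hn _ _
    exact isPseudoCoherentD_of_isLE b a (by omega)
  | succ n ih =>
    intro Z X J _ H a b _ hn hH hO
    rcases lt_or_ge b a with hab | hab
    · exact isPseudoCoherentD_of_isLE b a hab
    refine isPseudoCoherentD_of_rd fun z => ?_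
    haveI := isLE_pushD J H b
    obtain ⟨U, j, hj, E₀, α₀, hz, hE₀, hF₀, hα₀⟩ := exists_free_approx hab hH (J.base z)
    let W : X.Opens := j.opensRange
    let A : Z.Opens := J ⁻¹ᵁ W
    refine ⟨A, hz, ?_⟩
    let k : (W : Scheme.{u}) ⟶ U := j.isoOpensRange.inv
    have hk : k ≫ j = W.ι := j.isoOpensRange_inv_comp
    let E : CochainComplex (W : Scheme.{u}).Modules ℤ :=
      ((Scheme.Modules.restrictFunctor k).mapHomologicalComplex (ComplexShape.up ℤ)).obj E₀
    have hEz : DCoh.VanishesOutside E a b := fun q hq =>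
      (Scheme.Modules.restrictFunctor k).map_isZero (hE₀ q hq)
    have hEf : ∀ q, ∃ m, Nonempty (E.X q ≅ FlatMod.freeMod (W : Scheme.{u}) m) := fun q => by
      obtain ⟨m, ⟨e⟩⟩ := hF₀ q
      exact ⟨m, ⟨(Scheme.Modules.restrictFunctor k).mapIso e ≪≫
        (Scheme.Modules.restrictFunctorIsoPullback k).app _ ≪≫ freeModPullbackIso k _⟩⟩
    let J' : (A : Scheme.{u}) ⟶ (W : Scheme.{u}) := J ∣_ W
    haveI : IsClosedImmersion J' := IsZariskiLocalAtTarget.restrict (P := @IsClosedImmersion) inferInstance W
    let HA : DCoh.D (A : Scheme.{u}) := (rd A.ι).obj H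
    haveI : HA.IsLE b := isLE_rd A.ι H b
    have hHA : DCoh.IsPseudoCoherentD a ((pushD J').obj HA) :=
      isPseudoCoherentD_of_iso (rdPushD J W H) (isPseudoCoherentD_rd W.ι hH)
    have hOA : DCoh.IsPseudoCoherentD (a + 1 - b) ((pushD J').obj (DCoh.toD (A : Scheme.{u}) (DerSch.unitCx (A : Scheme.{u})))) :=
      isPseudoCoherentD_of_iso (rdPushD J W _ ≪≫ (pushD J').mapIso ((rdQ A.ι).app _ ≪≫
        DerivedCategory.Q.mapIso ((HomologicalComplex.singleMapHomologicalComplex
          (Scheme.Modules.restrictFunctor A.ι) (ComplexShape.up ℤ) 0).app _ ≪≫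
          (HomologicalComplex.single _ (ComplexShape.up ℤ) 0).mapIso (Scheme.Modules.restrictUnitIso A.ι))))
        (isPseudoCoherentD_rd W.ι hO)
    let α : DerivedCategory.Q.obj E ⟶ (pushD J').obj HA :=
      ((rdQ k).inv.app E₀ ≫ (rd k).map α₀ ≫ (rdComp k j W.ι hk _).inv) ≫ (rdPushD J W H).hom
    have hα : Approx a α := ((Approx.of_isIso _ _).comp ((hα₀.map_rd k).comp (Approx.of_isIso _ _))).comp
      (Approx.of_isIso _ _)
    -- the map `Lj^* E ⟶ H`
    haveI := hasLpull J'
    haveI := KFlat.GammaAcyclic.hasRpush J'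
    obtain ⟨r⟩ := H8Props.RpushAffine.nonempty_rpush_closed J' HA
    let αR : DerivedCategory.Q.obj E ⟶ (DCoh.Rpush J').obj HA := α ≫ r.inv
    have hαR : Approx a αR := hα.comp (Approx.of_isIso _ _)
    let F : DCoh.D (A : Scheme.{u}) := (DCoh.Lpull J').obj (DerivedCategory.Q.obj E)
    let φ : F ⟶ HA := ((lpullRpushAdj J').homEquiv _ _).symm αR
    have hφ : (lpullRpushAdj J').unit.app _ ≫ (DCoh.Rpush J').map φ = αR :=
      ((lpullRpushAdj J').homEquiv_unit _ _ φ).symm.trans (Equiv.apply_symm_apply _ _)
    let E' : CochainComplex (A : Scheme.{u}).Modules ℤ :=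
      ((Scheme.Modules.pullback J').mapHomologicalComplex (ComplexShape.up ℤ)).obj E
    have hE' : DCoh.VanishesOutside E' a b := fun q hq => (Scheme.Modules.pullback J').map_isZero (hEz q hq)
    have hE'f : ∀ q, ∃ m, Nonempty (E'.X q ≅ FlatMod.freeMod (A : Scheme.{u}) m) := fun q => by
      obtain ⟨m, ⟨e⟩⟩ := hEf q
      exact ⟨m, ⟨(Scheme.Modules.pullback J').mapIso e ≪≫ freeModPullbackIso J' _⟩⟩
    have hflatE : ∀ q, FlatMod.IsFlat (E.X q) := fun q => by
      obtain ⟨m, ⟨e⟩⟩ := hEf q
      exact isFlat_of_retract e.hom e.inv e.hom_inv_id (isFlat_freeMod m)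
    let eF : F ≅ DerivedCategory.Q.obj E' :=
      lpullObjIso J' E (kflat_of_boundedAbove E b (fun q hq => hEz q (Or.inr hq)) hflatE)
    haveI : F.IsLE b := by
      haveI : E'.IsStrictlyLE b := (CochainComplex.isStrictlyLE_iff _ _).2 fun i hi => hE' i (Or.inr hi)
      haveI : (DerivedCategory.Q.obj E').IsLE b := DerivedCategory.isLE_Q_obj_iff _ _ |>.2 inferInstance
      exact DerivedCategory.TStructure.t.isLE_of_iso eF.symm b
    have hFpc : DCoh.IsPseudoCoherentD a F := isPseudoCoherentD_of_iso eF.symm
      (isPseudoCoherentD_of_isPerfect (isPerfect_Q_of_isStrictlyPerfect ⟨⟨a, b, hE'⟩, fun q => by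
        obtain ⟨m, ⟨e⟩⟩ := hE'f q
        exact isFinLocFree_of_iso e.symm fun x => ⟨⊤, m, trivial,
          ⟨(Scheme.Modules.restrictFunctorIsoPullback (⊤ : (A : Scheme.{u}).Opens).ι).app _ ≪≫ freeModPullbackIso _ m⟩⟩⟩) a)
    letI := rpushCommShift J'
    haveI := rpush_isTriangulated J'
    obtain ⟨C, p, w, hT⟩ := distinguished_cocone_triangle φ
    -- the cone is bounded by `b - 1`
    have hCb : ∀ i, b ≤ i → IsZero ((DerivedCategory.homologyFunctor _ i).obj C) := fun i hi => by
      rcases eq_or_lt_of_le hi with rfl | hlt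
      · obtain ⟨r'⟩ := H8Props.RpushAffine.nonempty_rpush_closed J' C
        refine isZero_of_isZero_push J' ?_
        refine IsZero.of_iso ?_ ((hdPushD J' C b).symm ≪≫ (DerivedCategory.homologyFunctor _ b).mapIso r'.symm)
        let T := (DCoh.Rpush J').mapTriangle.obj (Triangle.mk φ p w)
        have hT' : T ∈ distTriang _ := (DCoh.Rpush J').map_distinguished _ hT
        haveI : Epi ((DerivedCategory.homologyFunctor _ b).map αR) := by
          rcases eq_or_lt_of_le hab with h | h
          · exact h ▸ hαR.2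
          · haveI := hαR.1 b h
            infer_instance
        haveI : Epi ((DerivedCategory.homologyFunctor _ b).map T.mor₁) := by
          rw [← hφ, Functor.map_comp] at this
          exact @epi_of_epi _ _ _ _ _ _ _ this
        have h0 : (DerivedCategory.homologyFunctor _ b).map T.mor₂ = 0 :=
          (DerivedCategory.HomologySequence.epi_homologyMap_mor₁_iff T hT' b).1 inferInstance
        obtain ⟨r₁⟩ := H8Props.RpushAffine.nonempty_rpush_closed J' F
        haveI := isLE_pushD J' F b
        have h1 : IsZero ((DerivedCategory.homologyFunctor _ (b + 1)).obj T.obj₁) :=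
          (DerivedCategory.isZero_of_isLE ((pushD J').obj F) b (b + 1) (by omega)).of_iso
            ((DerivedCategory.homologyFunctor _ (b + 1)).mapIso r₁)
        haveI : Epi ((DerivedCategory.homologyFunctor _ b).map T.mor₂) :=
          (DerivedCategory.HomologySequence.epi_homologyMap_mor₂_iff T hT' b (b + 1) rfl).2 (h1.eq_of_tgt _ _)
        exact IsZero.of_epi_eq_zero _ h0
      · have h := (DerivedCategory.HomologySequence.exact₃ (Triangle.mk φ p w) hT i (i + 1) rfl)
        exact h.isZero_of_both_zeros ((DerivedCategory.isZero_of_isLE HA b i hlt).eq_of_src _ _)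
          ((DerivedCategory.isZero_of_isLE F b (i + 1) (by omega)).eq_of_tgt _ _)
    haveI : C.IsLE (b - 1) := (DerivedCategory.isLE_iff _ _).2 fun i hi => hCb i (by omega)
    -- `J_* F` is `(a + 1)`-pseudo-coherent
    have hJF : DCoh.IsPseudoCoherentD (a + 1) ((pushD J').obj F) := by
      refine isPseudoCoherentD_of_iso ((pushD J').mapIso eF).symm ?_
      let P : DCoh.D (A : Scheme.{u}) → Prop := fun r => DCoh.IsPseudoCoherentD (a + 1) ((pushD J').obj r)
      refine bounded_induction P (fun e hp => isPseudoCoherentD_of_iso ((pushD J').mapIso e) hp)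
        (fun T hT h₁ h₃ => (S0889.result (a + 1) _ ((pushD J').map_distinguished _ hT)).2.1 h₁ h₃)
        (fun r hr => isPseudoCoherentD_of_isZero ((pushD J').map_isZero hr) _)
        (b + 1 - a).toNat a E' (fun q hq => hE' q (Or.inl hq)) (fun q hq => hE' q (Or.inr (by omega))) fun q => ?_
      by_cases hq : q < a ∨ b < q
      · exact isPseudoCoherentD_of_isZero ((pushD J').map_isZero (Functor.map_isZero _ (hE' q hq))) _
      obtain ⟨m, ⟨em⟩⟩ := hE'f q
      let G := DerivedCategory.singleFunctor (A : Scheme.{u}).Modules q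
      have h1 : P (G.obj (Coh.structureModule (A : Scheme.{u}))) := by
        let e : (DerivedCategory.Q.obj (S₀ (A : Scheme.{u})))⟦-q⟧ ≅ G.obj (Coh.structureModule (A : Scheme.{u})) :=
          ((DerivedCategory.singleFunctors (A : Scheme.{u}).Modules).shiftIso (-q) q 0 (by omega)).app _
        exact isPseudoCoherentD_of_iso ((((pushD J').commShiftIso (-q)).app _).symm ≪≫ (pushD J').mapIso e)
          (isPseudoCoherentD_shift (isPseudoCoherentD_mono hOA (show a + 1 - b ≤ a + 1 + (-q) by omega)) (-q) (a + 1) (by omega))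
      have hsum : ∀ (l : ℕ) (M : Fin l → (A : Scheme.{u}).Modules), (∀ i, P (G.obj (M i))) → P (G.obj (∐ M)) := by
        intro l
        induction l with
        | zero =>
          intro M _
          refine isPseudoCoherentD_of_isZero ((pushD J').map_isZero (G.map_isZero ?_)) _
          exact (IsZero.iff_id_eq_zero _).2 (Sigma.hom_ext _ _ fun i => i.elim0)
        | succ l ihl =>
          intro M h
          haveI := preservesBinaryBiproducts_of_preservesBiproducts G
          exact isPseudoCoherentD_of_iso ((pushD J').mapIso ((G.mapBiprod _ _).symm ≪≫ G.mapIso (sigmaFinSuccIso M).symm))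
            ((S0889.result (a + 1) _ ((pushD J').map_distinguished _ (binaryBiproductTriangle_distinguished _ _))).2.1
              (h 0) (ihl _ fun i => h i.succ))
      exact isPseudoCoherentD_of_iso ((pushD J').mapIso (G.mapIso em.symm)) (hsum m _ fun _ => h1)
    have hJC : DCoh.IsPseudoCoherentD a ((pushD J').obj C) :=
      isPseudoCoherentD_obj₃ ((pushD J').map_distinguished _ hT) hJF hHA
    have hC := ih J' a (b - 1) (by omega) hJC (isPseudoCoherentD_mono hOA (by omega))
    exact (S0889.result a _ hT).2.1 hFpc hC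

end Groth.Agent.H16Derived.TorTest
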