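import Groth.Agent.H16Derived.TorTest.DescPCqc
import Groth.Agent.H16Derived.TorTest.FlatDescent
import Groth.Agent.H16Derived.TorTest.TorDimLoc
import Groth.Agent.H16Derived.KFlat.PerfFlat
import Groth.Agent.H16Derived.KFlat.LpullLocal

/-!
# Perfection descends along flat surjective quasi-compact morphisms
-/

set_option autoImplicit false
set_option linter.style.haveILetI false
set_option backward.isDefEq.respectTransparency false

universe u

open CategoryTheory CategoryTheory.Limits AlgebraicGeometry TensorProduct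
open Groth.Agent.H16Derived Groth.Agent.H16Derived.KFlat Groth.Agent.H16Derived.KFlat.Stalk
open Groth.Agent.H4DR.TorAmp
open Groth.Agent.H8Props.NilThick

attribute [local instance] HasDerivedCategory.standard

namespace Groth.Agent.H16Derived.TorTest

variable {X Y : Scheme.{u}}

/-- Tor amplitude at a point descends along a flat morphism. -/
theorem at_id_descend (f : X ⟶ Y) [Flat f] (P : CochainComplex Y.Modules ℤ) (a b : ℤ) (x : X)
    (h : DerSch.HasTorAmplitudeAt (𝟙 X) a b ((pullCx f).obj P) x) :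
    DerSch.HasTorAmplitudeAt (𝟙 Y) a b P (f.base x) := by
    refine ta_of_iso (DerivedCategory.Q.mapIso
      ((NatIso.mapHomologicalComplex (stalkOverIdIso (f.base x)) (ComplexShape.up ℤ)).app P)).symm ?_
    refine ta_descent (fun _ : PUnit.{1} => _) (fun _ => (f.stalkMap x).hom) (fun _ => Flat.stalkMap f x)
      (fun N hN => ?_) _ a b fun _ => ?_
    · letI := (f.stalkMap x).hom.toAlgebra
      haveI : Module.Flat (Y.presheaf.stalk (f.base x)) (X.presheaf.stalk x) := Flat.stalkMap f x
      haveI : IsLocalHom (algebraMap (Y.presheaf.stalk (f.base x)) (X.presheaf.stalk x)) :=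
        inferInstanceAs (IsLocalHom (f.stalkMap x).hom)
      haveI : Module.FaithfullyFlat (Y.presheaf.stalk (f.base x)) (X.presheaf.stalk x) :=
        Module.FaithfullyFlat.of_flat_of_isLocalHom
      haveI : Subsingleton (X.presheaf.stalk x ⊗[Y.presheaf.stalk (f.base x)] N) :=
        ModuleCat.subsingleton_of_isZero (hN ⟨⟩)
      haveI := Module.FaithfullyFlat.lTensor_reflects_triviality (Y.presheaf.stalk (f.base x))
        (X.presheaf.stalk x) N
      exact ModuleCat.isZero_of_subsingleton N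
    · exact ta_of_iso (DerivedCategory.Q.mapIso
        ((NatIso.mapHomologicalComplex (stalkOverIdIso x) (ComplexShape.up ℤ)).app
            (((Scheme.Modules.pullback f).mapHomologicalComplex (ComplexShape.up ℤ)).obj P) ≪≫
          (NatIso.mapHomologicalComplex (pullStalkExtIso f x) (ComplexShape.up ℤ)).app P)) h

/-- Locally finite tor dimension descends along flat surjective quasi-compact morphisms. -/
theorem locHasFiniteTorDim_of_fpqc_pullback (f : X ⟶ Y) [Flat f] [Surjective f] [QuasiCompact f]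
    [DCoh.HasLpull f] (K : DCoh.D Y) (h : DCoh.LocHasFiniteTorDim ((DCoh.Lpull f).obj K)) :
    DCoh.LocHasFiniteTorDim K := by
  obtain ⟨P, hP, ⟨eP⟩⟩ := exists_kflat_rep K
  let F := DerivedCategory.Q.objPreimage ((DCoh.Lpull f).obj K)
  let eF : DCoh.toD X F ≅ (DCoh.Lpull f).obj K := DerivedCategory.Q.objObjPreimageIso _
  have eX : DCoh.toD X F ≅ DCoh.toD X ((pullCx f).obj P) :=
    eF ≪≫ (DCoh.Lpull f).mapIso eP.symm ≪≫ lpullObjIso f P hP
  have hF : DCoh.LocHasFiniteTorDim (DCoh.toD X F) := fun x => by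
    obtain ⟨V, a, b, hx, hV⟩ := h x
    exact ⟨V, a, b, hx, fun F' ⟨e'⟩ => hV F' ⟨e' ≪≫ eF⟩⟩
  have hloc := locFiniteTorAmplitude_id_of_locHasFiniteTorDim hF
  refine locHasFiniteTorDim_of_locFiniteTorAmplitudeD fun F' ⟨e'⟩ y => ?_
  obtain ⟨W, hW, hyW, -⟩ := exists_isAffineOpen_mem_and_subset (x := y) (U := ⊤) trivial
  choose V a b hxV hV using hloc
  obtain ⟨t, ht⟩ := (QuasiCompact.isCompact_preimage (f := f) W W.isOpen hW.isCompact).elim_finite_subcover
    (fun x => (V x : Set X)) (fun x => (V x).isOpen) fun x _ => Set.mem_iUnion.mpr ⟨x, hxV x⟩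
  let A : ℤ := (insert 0 (t.image a)).min' (Finset.insert_nonempty _ _)
  let B : ℤ := (insert 0 (t.image b)).max' (Finset.insert_nonempty _ _)
  refine ⟨W, A, B, hyW, fun y' hy' => ?_⟩
  obtain ⟨x', rfl⟩ := f.surjective y'
  obtain ⟨x₁, hx₁, hx'⟩ := Set.mem_iUnion₂.mp (ht (show x' ∈ f.base ⁻¹' (W : Set Y) from hy'))
  have h1 := ta_mono (show A ≤ a x₁ from Finset.min'_le _ _ (Finset.mem_insert_of_mem (Finset.mem_image_of_mem a hx₁)))
    (show b x₁ ≤ B from Finset.le_max' _ _ (Finset.mem_insert_of_mem (Finset.mem_image_of_mem b hx₁))) (hV x₁ x' hx')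
  have h2 : DerSch.HasTorAmplitudeAt (𝟙 X) A B ((pullCx f).obj P) x' :=
    ta_of_iso (stalkOverIso (𝟙 X) x' eX) h1
  exact ta_of_iso (stalkOverIso (𝟙 Y) _ (eP ≪≫ e'.symm)) (at_id_descend f P A B x' h2)

/-- Perfection descends along flat surjective quasi-compact morphisms. -/
theorem isPerfect_of_fpqc_pullback (f : X ⟶ Y) [Flat f] [Surjective f] [QuasiCompact f]
    [DCoh.HasLpull f] (K : DCoh.D Y) (h : DCoh.IsPerfect ((DCoh.Lpull f).obj K)) : DCoh.IsPerfect K :=
  (isPerfect_iff_pc_torDim K).2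
    ⟨fun m => isPseudoCoherentD_of_fpqc_pullback f K m (((isPerfect_iff_pc_torDim _).1 h).1 m),
      locHasFiniteTorDim_of_fpqc_pullback f K ((isPerfect_iff_pc_torDim _).1 h).2⟩

end Groth.Agent.H16Derived.TorTest
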