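import Groth.Agent.H16Derived.TorTest.RelPerfTensor
import Groth.Agent.H16Derived.TorTest.RelFlatPC
import Groth.Agent.H16Derived.TorTest.PerfAmpIn

/-!
# Relatively perfect complexes locally are bounded complexes of finitely presented flat modules
-/

set_option autoImplicit false
set_option linter.style.haveILetI false
set_option backward.isDefEq.respectTransparency false

universe u

open CategoryTheory CategoryTheory.Limits AlgebraicGeometry
open Groth.Agent.H16Derived Groth.Agent.H16Derived.KFlat Groth.Agent.H16Derived.KFlat.Stalk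
open Groth.Agent.H4DR.TorAmp

attribute [local instance] HasDerivedCategory.standard

namespace Groth.Agent.H16Derived.TorTest

variable {X S : Scheme.{u}} (f : X ⟶ S)

/-- A local model by a bounded complex of finitely presented modules flat over the base. -/
theorem exists_relFlat_model [Flat f] {G : CochainComplex X.Modules ℤ} {a b : ℤ} [G.IsStrictlyGE a]
    (hpc : DCoh.IsPseudoCoherentD (a - 1) (DCoh.toD X G)) (V₀ : X.Opens)
    (hG : ∀ y : X, y ∈ V₀ → DerSch.HasTorAmplitudeAt f a b G y) {x : X} (hx : x ∈ V₀) :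
    ∃ (V : X.Opens) (E : CochainComplex (V : Scheme.{u}).Modules ℤ) (C : ℤ), x ∈ V ∧
      DCoh.VanishesOutside E a C ∧ (∀ i, CohB1.IsFP (E.X i) ∧ FlatMod.IsFlatOver (V.ι ≫ f) (E.X i)) ∧
      Nonempty (DerivedCategory.Q.obj E ≅ (rd V.ι).obj (DCoh.toD X G)) := by
  obtain ⟨V', hxV', hV'⟩ := (isPseudoCoherentD_iff _ _).1 hpc x
  obtain ⟨P, α, hP, hα⟩ := hV'.mono_open (inf_le_left : V' ⊓ V₀ ≤ V')
  let V := V' ⊓ V₀
  let RG := (DCoh.restrictCx V).obj G
  obtain ⟨W, π, hxW, hπ⟩ := exists_real hP (α ≫ ((rdQ V.ι).app G).hom) ⟨x, hxV', hx⟩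
  have hπ' : Approx (a - 1) (DerivedCategory.Q.map π) := hπ ▸ (Approx.of_isIso _ _).comp
    (((hα.comp (Approx.of_isIso _ _)).map_rd W.ι).comp (Approx.of_isIso _ _))
  let U : Scheme.{u} := (W : Scheme.{u})
  let P₀ : CochainComplex U.Modules ℤ := (DCoh.restrictCx W).obj P
  let G₀ : CochainComplex U.Modules ℤ := (DCoh.restrictCx W).obj RG
  have hP₀ : DCoh.IsStrictlyPerfect P₀ := isStrictlyPerfect_rd W.ι hP
  haveI : G₀.IsStrictlyGE a := (CochainComplex.isStrictlyGE_iff _ _).2 fun i hi =>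
    (Scheme.Modules.restrictFunctor W.ι).map_isZero
      ((Scheme.Modules.restrictFunctor V.ι).map_isZero (G.isZero_of_isStrictlyGE a i hi))
  obtain ⟨β, hβ, -⟩ := exists_factor_truncGE P₀ a π fun i hi =>
    (NatIso.isIso_map_iff (DerivedCategory.homologyFunctorFactors U.Modules i) _).1
      (hπ'.1 i (by omega))
  haveI : IsIso (DerivedCategory.Q.map β) := isIso_Q_map _ hβ
  let T := P₀.truncGE a
  let j : U ⟶ X := W.ι ≫ V.ι
  let eT : DerivedCategory.Q.obj T ≅ (rd j).obj (DCoh.toD X G) := asIso (DerivedCategory.Q.map β) ≪≫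
      ((rdQ W.ι).app RG).symm ≪≫ (rd W.ι).mapIso ((rdQ V.ι).app G).symm ≪≫
      (rdComp W.ι V.ι _ rfl _).symm
  let k := j.isoOpensRange.inv
  let T₁ : CochainComplex (j.opensRange : Scheme.{u}).Modules ℤ :=
    ((Scheme.Modules.restrictFunctor k).mapHomologicalComplex (ComplexShape.up ℤ)).obj T
  let e₁ : DerivedCategory.Q.obj T₁ ≅ (rd j.opensRange.ι).obj (DCoh.toD X G) :=
    (rdQ k).symm.app T ≪≫ (rd k).mapIso eT ≪≫ (rdComp k j j.opensRange.ι j.isoOpensRange_inv_comp _).symm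
  obtain ⟨⟨p, q, hpq⟩, hPf⟩ := hP₀
  let C := max (max a q) b
  have hTz : ∀ i, (i < a ∨ C < i) → IsZero (T.X i) := fun i hi => by
    rcases hi with hi | hi
    · exact T.isZero_of_isStrictlyGE a i hi
    · exact (hpq i (Or.inr (by omega))).of_iso (P₀.truncGEXIso a i (by omega))
  have hTf : ∀ i, a < i → FlatMod.IsFinLocFree (T.X i) := fun i hi =>
    isFinLocFree_of_iso (P₀.truncGEXIso a i hi).symm (hPf i)
  have hz : ∀ i, (i < a ∨ C < i) → IsZero (T₁.X i) := fun i hi =>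
    (Scheme.Modules.restrictFunctor k).map_isZero (hTz i hi)
  have hfl : ∀ i, a < i → FlatMod.IsFlatOver (j.opensRange.ι ≫ f) (T₁.X i) := fun i hi =>
    BaseChange.isFlatOver_of_isFlat _ (isFlat_of_isFinLocFree (isFinLocFree_of_iso
      ((Scheme.Modules.restrictFunctorIsoPullback k).app _).symm (isFinLocFree_pullback k (hTf i hi))))
  have hTA : DerSch.HasTorAmplitude (j.opensRange.ι ≫ f) a b T₁ :=
    hasTorAmplitude_of_iso (((rdQ j.opensRange.ι).app G).symm ≪≫ e₁.symm) fun w => by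
      refine (at_restrict j.opensRange.ι f a b G w).2 (hG _ ?_)
      obtain ⟨u, hu⟩ := w.2
      have h2 : V.ι.base (W.ι.base u) = w.1 := hu
      rw [show j.opensRange.ι.base w = w.1 from rfl, ← h2]
      exact (W.ι.base u).2.2
  refine ⟨j.opensRange, T₁, C, ⟨⟨⟨x, hxV', hx⟩, hxW⟩, rfl⟩, hz, fun i => ⟨?_, fun w => ?_⟩, ⟨e₁⟩⟩
  · rcases lt_trichotomy i a with hi | rfl | hi
    · exact isFP_restrict k (H8Props.FinLocFree.isFP_of_isFinLocFree _ (isFinLocFree_of_isZero (hTz i (Or.inl hi))))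
    · exact isFP_restrict k (isFP_truncGE ⟨⟨p, q, hpq⟩, hPf⟩ i)
    · exact isFP_restrict k (H8Props.FinLocFree.isFP_of_isFinLocFree _ (hTf i hi))
  · rcases lt_trichotomy i a with hi | rfl | hi
    · exact BaseChange.isFlatOver_of_isFlat _ (isFlat_of_isZero (hz i (Or.inl hi))) w
    · exact flat_bot_of_ta (W := (DerSch.stalkCxOver (j.opensRange.ι ≫ f) w).obj T₁) (n := b) (C := C) (by omega)
        (fun l hl => (DerSch.stalkOver (j.opensRange.ι ≫ f) w).map_isZero (hz l hl))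
        (fun l hl => hfl l hl w) (hTA w)
    · exact hfl i hi w

/-- Relative perfectness and bounded complexes of finitely presented flat modules. -/
theorem rp_iff_relFlat_cx [Flat f] [LocallyOfFinitePresentation f] (K : DCoh.D X) :
    RP f K ↔
      ∀ x : X, ∃ V : X.Opens, x ∈ V ∧ ∀ F : CochainComplex X.Modules ℤ, Nonempty (DCoh.toD X F ≅ K) →
        ∃ (G : CochainComplex (V : Scheme.{u}).Modules ℤ) (a b : ℤ), DCoh.VanishesOutside G a b ∧
          (∀ i : ℤ, CohB1.IsFP (G.X i) ∧ FlatMod.IsFlatOver (V.ι ≫ f) (G.X i)) ∧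
          Nonempty (DerivedCategory.Q.obj ((DCoh.restrictCx V).obj F) ≅ DerivedCategory.Q.obj G) := by
  let F₀ := DerivedCategory.Q.objPreimage K
  let eF : DCoh.toD X F₀ ≅ K := DerivedCategory.Q.objObjPreimageIso K
  constructor
  · rintro ⟨hpc, htor⟩ x
    obtain ⟨V₀, a, b, hx, hV₀⟩ := (locHasFiniteRelTorDim_iff f eF).1 htor x
    have hTA : DerSch.HasTorAmplitude (V₀.ι ≫ f) a b ((DCoh.restrictCx V₀).obj F₀) := fun w =>
      (at_restrict V₀.ι f a b F₀ w).2 (hV₀ _ w.2)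
    let R₀ := (DCoh.restrictCx V₀).obj F₀
    haveI : (DCoh.toD _ R₀).IsGE a := (bounds_of_ta _ hTA).1
    haveI : R₀.IsGE a := (DerivedCategory.isGE_Q_obj_iff R₀ a).1 inferInstance
    haveI : IsIso (DerivedCategory.Q.map (CochainComplex.πTruncGE R₀ a)) :=
      isIso_Q_map _ (inferInstance : QuasiIso (CochainComplex.πTruncGE R₀ a))
    let e : DCoh.toD _ (R₀.truncGE a) ≅ (rd V₀.ι).obj K :=
      (asIso (DerivedCategory.Q.map (CochainComplex.πTruncGE R₀ a))).symm ≪≫ ((rdQ V₀.ι).app F₀).symm ≪≫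
        (rd V₀.ι).mapIso eF
    obtain ⟨V, E, C, hxV, hE, hEX, ⟨θ⟩⟩ := exists_relFlat_model (V₀.ι ≫ f) (G := R₀.truncGE a) (a := a) (b := b)
      (isPseudoCoherentD_of_iso e.symm (isPseudoCoherentD_rd V₀.ι (hpc (a - 1)))) ⊤
      (fun y _ => hasTorAmplitude_of_iso (asIso (DerivedCategory.Q.map (CochainComplex.πTruncGE R₀ a))) hTA y)
      (x := ⟨x, hx⟩) trivial
    let j := V.ι ≫ V₀.ι
    let k := j.isoOpensRange.inv
    refine ⟨j.opensRange, ⟨⟨⟨x, hx⟩, hxV⟩, rfl⟩, fun F ⟨e'⟩ =>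
      ⟨((Scheme.Modules.restrictFunctor k).mapHomologicalComplex (ComplexShape.up ℤ)).obj E, a, C,
        fun i hi => (Scheme.Modules.restrictFunctor k).map_isZero (hE i hi), fun i => ⟨isFP_restrict k (hEX i).1, ?_⟩,
        ⟨(rdQ j.opensRange.ι).symm.app F ≪≫ (rd j.opensRange.ι).mapIso e' ≪≫
          rdComp k j j.opensRange.ι j.isoOpensRange_inv_comp _ ≪≫
          (rd k).mapIso (rdComp V.ι V₀.ι j rfl _ ≪≫ (rd V.ι).mapIso e.symm ≪≫ θ.symm) ≪≫
          (rdQ k).app E⟩⟩⟩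
    have h := isFlatOver_restrict (V.ι ≫ V₀.ι ≫ f) k (hEX i).2
    have hk : k ≫ V.ι ≫ V₀.ι ≫ f = j.opensRange.ι ≫ f := by
      rw [← Category.assoc V.ι, ← Category.assoc k, j.isoOpensRange_inv_comp]
    intro w
    rw [← H06Mod.isFlatOverAt_congr hk]
    exact h w
  · intro h
    refine rp_of_cover f fun x => ?_
    obtain ⟨V, hx, hV⟩ := h x
    obtain ⟨G, a, b, hG, hGX, ⟨e⟩⟩ := hV F₀ ⟨eF⟩
    let e' : DCoh.toD (V : Scheme.{u}) G ≅ (Dual.rA V).obj K :=
      e.symm ≪≫ ((rdQ V.ι).app F₀).symm ≪≫ (rd V.ι).mapIso eF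
    refine ⟨V, hx, fun m => isPseudoCoherentD_of_iso e' (isPseudoCoherentD_of_relFlat (V.ι ≫ f) b
      (fun i hi => hG i (Or.inr hi)) hGX m), ?_⟩
    exact (locHasFiniteRelTorDim_iff (V.ι ≫ f) e').2 fun w => ⟨⊤, a, b, trivial, fun y _ =>
      hasTorAmplitude_of_flat _ hG (fun i => (hGX i).2) y⟩

end Groth.Agent.H16Derived.TorTest
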