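import Groth.Prelude.Def_CxOX
import Groth.Prelude.Def_DualSh
import Groth.Prelude.Def_DCoh3
import Mathlib.AlgebraicGeometry.Morphisms.Flat
import Mathlib.AlgebraicGeometry.Morphisms.FinitePresentation
import Groth.Agent.S1004
import Groth.Agent.H16Derived.TorTest.RelTildeAmp
import Groth.Agent.H16Derived.TorTest.RelTorLoc
import Groth.Agent.H16Derived.TorTest.RpushAmpLoc
import Groth.Agent.H16Derived.TorTest.RelPerfTensor
import Groth.Agent.H16Derived.QCohD.Equiv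
import Groth.Agent.H4DR.PCoh.Stage

/-!
# Relative perfectness is affine-locally algebraic perfectness
-/

set_option autoImplicit false
set_option linter.style.haveILetI false
set_option backward.isDefEq.respectTransparency false

universe u

open CategoryTheory CategoryTheory.Limits AlgebraicGeometry
open Groth.Agent.H16Derived.KFlat Groth.Agent.H16Derived.KFlat.Stalk

attribute [local instance] HasDerivedCategory.standard

namespace Groth.Agent.H16Derived.TorTest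

variable {X S : Scheme.{u}}

/-- Pseudo-coherence is local for open immersions. -/
theorem pc_of_immersions {m : ℤ} {K : DCoh.D X}
    (h : ∀ x : X, ∃ (Z : Scheme.{u}) (j : Z ⟶ X) (_ : IsOpenImmersion j), x ∈ j.opensRange ∧
      DCoh.IsPseudoCoherentD m ((rd j).obj K)) : DCoh.IsPseudoCoherentD m K :=
  isPseudoCoherentD_of_local fun x => by
    obtain ⟨Z, j, _, ⟨z, rfl⟩, hj⟩ := h x
    obtain ⟨W, hW, a⟩ := (isPseudoCoherentD_iff m _).1 hj z
    exact ⟨_, W.ι ≫ j, inferInstance, ⟨⟨z, hW⟩, rfl⟩, a.of_rd⟩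

/-- Finite tor dimension of `E` over the base, read on an affine chart over an affine open of the base. -/
theorem ta_chart_iff (f : X ⟶ S) {A B : Type u} [CommRing A] [CommRing B] (φ : A →+* B)
    (j : Spec (CommRingCat.of B) ⟶ X) [IsOpenImmersion j]
    (i : Spec (CommRingCat.of A) ⟶ S) [IsOpenImmersion i]
    (h : Spec.map (CommRingCat.ofHom φ) ≫ i = j ≫ f)
    [PreservesFiniteLimits (tilde.functor (CommRingCat.of B))] {E : DCoh.D X}
    {F : CochainComplex X.Modules ℤ} (eF : DCoh.toD X F ≅ E) (M : Dual.D B)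
    (e : (rd j).obj E ≅ (DCoh.tildeD (CommRingCat.of B)).obj M) (a b : ℤ) :
    (∀ y, DerSch.HasTorAmplitudeAt f a b F (j.base y)) ↔
      DRing.HasTorAmplitudeIn A a b ((DRing.restrictD φ).obj M) := by
  let eF' : DCoh.toD _ (((Scheme.Modules.restrictFunctor j).mapHomologicalComplex (ComplexShape.up ℤ)).obj F) ≅
      (DCoh.tildeD (CommRingCat.of B)).obj M :=
    ((rdQ j).app F).symm ≪≫ (rd j).mapIso eF ≪≫ e
  rw [← hasTorAmplitude_tildeD_iff φ M _ eF' a b]
  refine forall_congr' fun y => ?_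
  rw [← at_restrict j f a b F y, ← at_congr h]
  exact ⟨at_cancel _ i, at_comp _ i⟩

theorem chart_eq (f : X ⟶ S) {U : X.Opens} (hU : IsAffineOpen U) {V : S.Opens} (hV : IsAffineOpen V)
    (hUV : U ≤ f ⁻¹ᵁ V) :
    Spec.map (f.appLE V U hUV) ≫ hV.fromSpec = (hU.isoSpec.inv ≫ U.ι) ≫ f :=
  IsAffineOpen.SpecMap_appLE_fromSpec f hV hU hUV

variable [∀ R : CommRingCat.{u}, PreservesFiniteLimits (tilde.functor R)]

/-- A relatively perfect object is algebraically perfect on every affine chart. -/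
theorem isRelPerfect_of_rp (f : X ⟶ S) [Flat f] {E : DCoh.D X} (hE : RP f E) {U : X.Opens}
    (hU : IsAffineOpen U) {V : S.Opens} (hV : IsAffineOpen V) (hUV : U ≤ f ⁻¹ᵁ V)
    (M : DerivedCategory (ModuleCat.{u} Γ(X, U)))
    (e : (rd hU.isoSpec.inv).obj ((rd U.ι).obj E) ≅ (DCoh.tildeD Γ(X, U)).obj M) :
    @Dual2.IsRelPerfect Γ(S, V) Γ(X, U) _ _ (f.appLE V U hUV).hom.toAlgebra M := by
  letI := (f.appLE V U hUV).hom.toAlgebra
  let j : Spec Γ(X, U) ⟶ X := hU.isoSpec.inv ≫ U.ι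
  let e' : (rd j).obj E ≅ (DCoh.tildeD Γ(X, U)).obj M := rdComp hU.isoSpec.inv U.ι j rfl E ≪≫ e
  refine ⟨H4DR.PCoh.pc'_iff.2 fun m => (Groth.Agent.S1004.result _ M m).1
    (isPseudoCoherentD_of_iso e' (isPseudoCoherentD_rd j (hE.1 m))), ?_⟩
  let F := DerivedCategory.Q.objPreimage E
  let eF : DCoh.toD X F ≅ E := DerivedCategory.Q.objObjPreimageIso E
  have key := ta_chart_iff f (f.appLE V U hUV).hom j hV.fromSpec (chart_eq f hU hV hUV) eF M e'
  choose W a b hx hW using fun x => (locHasFiniteRelTorDim_iff f eF).1 hE.2 x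
  obtain ⟨s, hs⟩ := hU.isCompact.elim_finite_subcover (fun x : X => (W x : Set X)) (fun x => (W x).2)
    (fun x _ => Set.mem_iUnion.2 ⟨x, hx x⟩)
  have hmem : ∀ y, j.base y ∈ U := fun y => (hU.isoSpec.inv.base y).2
  rcases s.eq_empty_or_nonempty with rfl | hne
  · exact ⟨0, 0, (key 0 0).1 fun y => (by simpa using hs (hmem y))⟩
  refine ⟨s.inf' hne a, s.sup' hne b, (key _ _).1 fun y => ?_⟩
  obtain ⟨i, hi, hxi⟩ := Set.mem_iUnion₂.1 (hs (hmem y))
  exact at_mono (Finset.inf'_le _ hi) (Finset.le_sup' _ hi) (hW i _ hxi)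

/-- Algebraic perfectness on an affine covering gives relative perfectness. -/
theorem rp_of_isRelPerfect (f : X ⟶ S) [Flat f] {E : DCoh.D X} (hE : DCoh.IsQCohD E)
    (h : ∀ x : X, ∃ (U : X.Opens) (hU : IsAffineOpen U) (V : S.Opens) (_ : IsAffineOpen V)
      (hUV : U ≤ f ⁻¹ᵁ V), x ∈ U ∧ ∀ M : DerivedCategory (ModuleCat.{u} Γ(X, U)),
        Nonempty ((rd hU.isoSpec.inv).obj ((rd U.ι).obj E) ≅ (DCoh.tildeD Γ(X, U)).obj M) →
          @Dual2.IsRelPerfect Γ(S, V) Γ(X, U) _ _ (f.appLE V U hUV).hom.toAlgebra M) :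
    RP f E := by
  let F := DerivedCategory.Q.objPreimage E
  let eF : DCoh.toD X F ≅ E := DerivedCategory.Q.objObjPreimageIso E
  have key : ∀ x : X, ∃ U : X.Opens, x ∈ U ∧
      (∀ m, ∃ (Z : Scheme.{u}) (j : Z ⟶ X) (_ : IsOpenImmersion j), x ∈ j.opensRange ∧
        DCoh.IsPseudoCoherentD m ((rd j).obj E)) ∧
      ∃ a b : ℤ, ∀ x' ∈ U, DerSch.HasTorAmplitudeAt f a b F x' := by
    intro x
    obtain ⟨U, hU, V, hV, hUV, hxU, hM⟩ := h x
    letI := (f.appLE V U hUV).hom.toAlgebra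
    let j : Spec Γ(X, U) ⟶ X := hU.isoSpec.inv ≫ U.ι
    have hq : DCoh.IsQCohD ((rd j).obj E) := fun i => by
      haveI : (DCoh.HD E i).IsQuasicoherent := hE i
      exact QCohD.isQCoh_iso (homologyRdIso j E i).symm
        (Scheme.Modules.isQuasicoherent_restrictFunctor j (DCoh.HD E i))
    obtain ⟨M, ⟨eM⟩⟩ := QCohD.exists_tildeD_iso Γ(X, U) hq
    obtain ⟨hpc, a, b, hab⟩ := hM M ⟨(rdComp hU.isoSpec.inv U.ι j rfl E).symm ≪≫ eM.symm⟩
    have hid : hU.isoSpec.hom ≫ j = U.ι := Iso.hom_inv_id_assoc _ _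
    have hsurj : ∀ x' ∈ U, ∃ y, j.base y = x' := fun x' hx' =>
      ⟨hU.isoSpec.hom.base ⟨x', hx'⟩, congr($(hid).base ⟨x', hx'⟩)⟩
    refine ⟨U, hxU, fun m => ⟨_, j, inferInstance, hsurj x hxU, isPseudoCoherentD_of_iso eM
      ((Groth.Agent.S1004.result _ M m).2 (H4DR.PCoh.pc'_iff.1 hpc m))⟩, a, b, fun x' hx' => ?_⟩
    obtain ⟨y, rfl⟩ := hsurj x' hx'
    exact (ta_chart_iff f (f.appLE V U hUV).hom j hV.fromSpec (chart_eq f hU hV hUV) eF M eM.symm a b).2 hab y
  refine ⟨fun m => pc_of_immersions fun x => ?_, (locHasFiniteRelTorDim_iff f eF).2 fun x => ?_⟩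
  · obtain ⟨U, -, hpc, -⟩ := key x
    exact hpc m
  · obtain ⟨U, hxU, -, a, b, hab⟩ := key x
    exact ⟨U, a, b, hxU, hab⟩

end Groth.Agent.H16Derived.TorTest
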