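import Groth.Agent.H16Derived.TorTest.RelTorLoc
import Groth.Agent.H16Derived.KFlat.PerfTri
import Groth.Agent.H16Derived.KFlat.PerfFlat
import Groth.Agent.H16Derived.Thomason.Supp
import Groth.Agent.S0888
import Groth.Agent.S0889

/-!
# Relatively perfect complexes form a saturated triangulated subcategory
-/

set_option autoImplicit false
set_option linter.style.haveILetI false
set_option backward.isDefEq.respectTransparency false

universe u

open CategoryTheory CategoryTheory.Limits AlgebraicGeometry Pretriangulated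
open Groth.Agent.H16Derived Groth.Agent.H16Derived.KFlat Groth.Agent.H16Derived.KFlat.Stalk
open Groth.Agent.H4DR.TorAmp

attribute [local instance] HasDerivedCategory.standard

namespace Groth.Agent.H16Derived.TorTest

variable {X S : Scheme.{u}} (f : X ⟶ S)

/-- Tor amplitude over the base at a point, in the derived category. -/
def AtD (a b : ℤ) (K : DCoh.D X) (x : X) : Prop :=
  haveI : PreservesFiniteLimits (DerSch.stalkOver f x) := comp_preservesFiniteLimits _ _
  haveI : PreservesFiniteColimits (DerSch.stalkOver f x) := comp_preservesFiniteColimits _ _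
  DRing.HasTorAmplitudeIn (S.presheaf.stalk (f.base x)) a b ((DerSch.stalkOver f x).mapDerivedCategory.obj K)

/-- `AtD` locally with uniform bounds. -/
def LocTA (K : DCoh.D X) : Prop :=
  ∀ x : X, ∃ (V : X.Opens) (a b : ℤ), x ∈ V ∧ ∀ x' : X, x' ∈ V → AtD f a b K x'

theorem atD_iff {a b : ℤ} {K : DCoh.D X} {F : CochainComplex X.Modules ℤ} (eF : DCoh.toD X F ≅ K) (x : X) :
    AtD f a b K x ↔ DerSch.HasTorAmplitudeAt f a b F x := by
  haveI : PreservesFiniteLimits (DerSch.stalkOver f x) := comp_preservesFiniteLimits _ _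
  haveI : PreservesFiniteColimits (DerSch.stalkOver f x) := comp_preservesFiniteColimits _ _
  let e := (DerSch.stalkOver f x).mapDerivedCategory.mapIso eF.symm ≪≫
    (DerSch.stalkOver f x).mapDerivedCategoryFactors.app F
  exact ⟨fun h => ta_of_iso e h, fun h => ta_of_iso e.symm h⟩

theorem locTA_iff [Flat f] (K : DCoh.D X) : LocTA f K ↔ DCoh.LocHasFiniteRelTorDim f K := by
  let eF := DerivedCategory.Q.objObjPreimageIso K
  rw [locHasFiniteRelTorDim_iff f eF]
  exact forall_congr' fun x => exists_congr fun V => exists_congr fun a => exists_congr fun b =>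
    and_congr_right fun _ => forall_congr' fun x' => imp_congr_right fun _ => atD_iff f eF x'

theorem locTA_of_isZero {K : DCoh.D X} (hK : IsZero K) : LocTA f K := fun x =>
  ⟨⊤, 0, 0, trivial, fun x' _ => ta_of_isZero (Functor.map_isZero _ hK)⟩

theorem locTA_shift {K : DCoh.D X} (h : LocTA f K) (n : ℤ) : LocTA f (K⟦n⟧) := fun x => by
  obtain ⟨V, a, b, hx, hV⟩ := h x
  refine ⟨V, a - n, b - n, hx, fun x' hx' => ?_⟩
  haveI : PreservesFiniteLimits (DerSch.stalkOver f x') := comp_preservesFiniteLimits _ _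
  haveI : PreservesFiniteColimits (DerSch.stalkOver f x') := comp_preservesFiniteColimits _ _
  exact ta_of_iso (((DerSch.stalkOver f x').mapDerivedCategory.commShiftIso n).app K).symm
    (ta_shift n (by omega) (by omega) (hV x' hx'))

theorem locTA_obj₂ {T : Triangle (DCoh.D X)} (hT : T ∈ distTriang _) (h₁ : LocTA f T.obj₁)
    (h₃ : LocTA f T.obj₃) : LocTA f T.obj₂ := fun x => by
  obtain ⟨V, a, b, hx, hV⟩ := h₁ x
  obtain ⟨W, c, d, hx', hW⟩ := h₃ x
  refine ⟨V ⊓ W, min a c, max b d, ⟨hx, hx'⟩, fun y hy => ?_⟩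
  haveI : PreservesFiniteLimits (DerSch.stalkOver f y) := comp_preservesFiniteLimits _ _
  haveI : PreservesFiniteColimits (DerSch.stalkOver f y) := comp_preservesFiniteColimits _ _
  exact ta_obj₂ _ ((DerSch.stalkOver f y).mapDerivedCategory.map_distinguished T hT)
    (ta_mono (min_le_left _ _) (le_max_left _ _) (hV y hy.1))
    (ta_mono (min_le_right _ _) (le_max_right _ _) (hW y hy.2))

theorem locTA_of_retract {K L : DCoh.D X} (r : Retract K L) (h : LocTA f L) : LocTA f K := fun x => by
  obtain ⟨V, a, b, hx, hV⟩ := h x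
  refine ⟨V, a, b, hx, fun y hy => ?_⟩
  haveI : PreservesFiniteLimits (DerSch.stalkOver f y) := comp_preservesFiniteLimits _ _
  haveI : PreservesFiniteColimits (DerSch.stalkOver f y) := comp_preservesFiniteColimits _ _
  let G := (DerSch.stalkOver f y).mapDerivedCategory
  exact ta_of_retract (G.map r.i) (G.map r.r) (by rw [← G.map_comp, r.retract, G.map_id]) (hV y hy)

/-- A retract of a pseudo-coherent object is pseudo-coherent. -/
theorem isPseudoCoherentD_of_retract {K L : DCoh.D X} {m : ℤ} (r : Retract K L)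
    (h : DCoh.IsPseudoCoherentD m L) : DCoh.IsPseudoCoherentD m K := by
  obtain ⟨C, g, w, hT⟩ := distinguished_cocone_triangle r.i
  have hw : w = 0 := by
    have h1 : w ≫ r.i⟦(1 : ℤ)⟧' = 0 := comp_distTriang_mor_zero₃₁ _ hT
    rw [← Category.comp_id w, ← (shiftFunctor (DCoh.D X) (1 : ℤ)).map_id K, ← r.retract, Functor.map_comp, reassoc_of% h1, zero_comp]
  obtain ⟨e, -⟩ := exists_iso_binaryBiproduct_of_distTriang _ hT hw
  exact (S0888.result m K C (isPseudoCoherentD_of_iso e h)).1

/-- The relatively perfect objects form a saturated triangulated subcategory. -/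
theorem isTriangulated_relPerf [Flat f] :
    ObjectProperty.IsTriangulated (fun E : DCoh.D X => (∀ m : ℤ, DCoh.IsPseudoCoherentD m E) ∧ DCoh.LocHasFiniteRelTorDim f E) ∧
    ObjectProperty.IsStableUnderRetracts (fun E : DCoh.D X => (∀ m : ℤ, DCoh.IsPseudoCoherentD m E) ∧ DCoh.LocHasFiniteRelTorDim f E) := by
  let P : ObjectProperty (DCoh.D X) := fun E => (∀ m : ℤ, DCoh.IsPseudoCoherentD m E) ∧ DCoh.LocHasFiniteRelTorDim f E
  have hr : P.IsStableUnderRetracts := ⟨fun {A B} r hB => ⟨fun m => isPseudoCoherentD_of_retract r (hB.1 m),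
    (locTA_iff f A).1 (locTA_of_retract f r ((locTA_iff f B).2 hB.2))⟩⟩
  haveI : P.IsClosedUnderIsomorphisms := inferInstance
  refine ⟨{ exists_zero := ⟨_, isZero_zero _, fun m => isPseudoCoherentD_of_isPerfect (Thomason.isPerfect_zero (isZero_zero _)) m,
              (locTA_iff f _).1 (locTA_of_isZero f (isZero_zero _))⟩
            isStableUnderShiftBy := fun n => ⟨fun A hA =>
              ⟨fun m => isPseudoCoherentD_shift (hA.1 (m + n)) n m (by omega),
                (locTA_iff f _).1 (locTA_shift f ((locTA_iff f A).2 hA.2) n)⟩⟩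
            toIsTriangulatedClosed₂ := ObjectProperty.IsTriangulatedClosed₂.mk' (fun T hT h₁ h₃ =>
              ⟨fun m => (S0889.result m T hT).2.1 (h₁.1 m) (h₃.1 m),
                (locTA_iff f _).1 (locTA_obj₂ f hT ((locTA_iff f _).2 h₁.2) ((locTA_iff f _).2 h₃.2))⟩) }, hr⟩

end Groth.Agent.H16Derived.TorTest
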