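import Groth.Agent.H16Derived.TorTest.SmoothTA
import Groth.Agent.H16Derived.TorTest.RelFlatRel
import Groth.Agent.H16Derived.TorTest.FlatDescent
import Groth.Agent.H16Derived.TorTest.RpushAmp
import Mathlib.RingTheory.MvPolynomial.Localization
import Mathlib.RingTheory.RingHom.StandardSmooth
import Mathlib.AlgebraicGeometry.Morphisms.Smooth
import Groth.Agent.S6200

/-!
# Absolute tor amplitude from tor amplitude relative to a smooth morphism
-/

set_option autoImplicit false
set_option linter.style.haveILetI false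
set_option backward.isDefEq.respectTransparency false

universe u

open CategoryTheory CategoryTheory.Limits AlgebraicGeometry TensorProduct
open Groth.Agent.H16Derived Groth.Agent.H16Derived.KFlat Groth.Agent.H16Derived.KFlat.Stalk
open Groth.Agent.H4DR.TorAmp

attribute [local instance] HasDerivedCategory.standard

namespace Groth.Agent.H16Derived.TorTest

attribute [local instance] MvPolynomial.algebraMvPolynomial in
/-- Localisations of standard smooth maps of relative dimension `n`. -/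
theorem dim_localization_smooth {R B S C : Type u} [CommRing R] [CommRing B] [CommRing S] [CommRing C]
    [Algebra R S] [Algebra R B] [Algebra B C] [Algebra R C] [IsScalarTower R B C] (M : Submonoid R)
    [IsLocalization M S] (N : Submonoid B) [IsLocalization N C] (n : ℕ)
    (hf : (algebraMap R B).IsStandardSmoothOfRelativeDimension n) (σ : S →+* C)
    (hσ : σ.comp (algebraMap R S) = algebraMap R C) : Dim σ n := by
  obtain ⟨g, hg, het⟩ := hf.exists_etale_mvPolynomial
  letI : Algebra (MvPolynomial (Fin n) R) B := g.toAlgebra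
  haveI : Algebra.Etale (MvPolynomial (Fin n) R) B := het
  letI : Algebra (MvPolynomial (Fin n) R) C := ((algebraMap B C).comp g).toAlgebra
  haveI : IsScalarTower (MvPolynomial (Fin n) R) B C := .of_algebraMap_eq fun _ => rfl
  let χ : MvPolynomial (Fin n) S →+* C :=
    MvPolynomial.eval₂Hom σ fun i => algebraMap B C (g (MvPolynomial.X i))
  letI : Algebra (MvPolynomial (Fin n) S) C := χ.toAlgebra
  haveI : IsScalarTower (MvPolynomial (Fin n) R) (MvPolynomial (Fin n) S) C := by
    refine .of_algebraMap_eq' ?_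
    refine MvPolynomial.ringHom_ext (fun r => ?_) fun i => ?_
    · show algebraMap B C (g (MvPolynomial.C r)) = χ (MvPolynomial.map (algebraMap R S) (MvPolynomial.C r))
      rw [MvPolynomial.map_C]
      show _ = MvPolynomial.eval₂Hom σ _ (MvPolynomial.C (algebraMap R S r))
      rw [MvPolynomial.eval₂Hom_C, show g (MvPolynomial.C r) = algebraMap R B r from congr($hg r),
        ← IsScalarTower.algebraMap_apply R B C]
      exact congr($hσ r).symm
    · show algebraMap B C (g (MvPolynomial.X i)) = χ (MvPolynomial.map (algebraMap R S) (MvPolynomial.X i))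
      rw [MvPolynomial.map_X]
      exact (MvPolynomial.eval₂Hom_X' σ (fun i => algebraMap B C (g (MvPolynomial.X i))) i).symm
  have e : σ = χ.comp MvPolynomial.C := RingHom.ext fun r => (MvPolynomial.eval₂Hom_C σ _ r).symm
  rw [e]
  haveI : Module.Flat B C := IsLocalization.flat C N
  haveI : Module.Flat (MvPolynomial (Fin n) R) C := Module.Flat.trans (MvPolynomial (Fin n) R) B C
  haveI : Module.Flat (MvPolynomial (Fin n) S) C :=
    (Module.flat_iff_of_isLocalization (MvPolynomial (Fin n) S) (M.map (MvPolynomial.C (σ := Fin n))) C).2 inferInstance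
  haveI : Algebra.FormallyUnramified B C := Algebra.FormallyUnramified.of_isLocalization N
  haveI : Algebra.FormallyUnramified (MvPolynomial (Fin n) R) C :=
    Algebra.FormallyUnramified.comp (MvPolynomial (Fin n) R) B C
  haveI : Algebra.EssFiniteType B C := Algebra.EssFiniteType.of_isLocalization C N
  haveI : Algebra.EssFiniteType (MvPolynomial (Fin n) R) C :=
    Algebra.EssFiniteType.comp (MvPolynomial (Fin n) R) B C
  have h := (dim_mvPolynomial (A := S) n).comp (dim_unramified χ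
    (Algebra.FormallyUnramified.of_restrictScalars (MvPolynomial (Fin n) R) _ C)
    (Algebra.EssFiniteType.of_comp (MvPolynomial (Fin n) R) _ C) (RingHom.flat_algebraMap_iff.2 ‹_›))
  intro K a b hK
  exact ta_mono (by push_cast; omega) le_rfl (h K a b hK)

variable {X X' Y : Scheme.{u}}

/-- The stalk maps over an affine chart of a standard smooth morphism. -/
theorem dim_of_appLE (f : X' ⟶ Y) {U : Y.Opens} (hU : IsAffineOpen U) {V₂ : X'.Opens} (hV₂ : IsAffineOpen V₂)
    (e₂ : V₂ ≤ f ⁻¹ᵁ U) {n : ℕ} (hB : (f.appLE U V₂ e₂).hom.IsStandardSmoothOfRelativeDimension n)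
    (x : X') (hxV₂ : x ∈ V₂) : Dim (f.stalkMap x).hom n := by
  letI := (f.appLE U V₂ e₂).hom.toAlgebra
  letI := TopCat.Presheaf.algebra_section_stalk Y.presheaf (U := U) ⟨f.base x, e₂ hxV₂⟩
  letI := TopCat.Presheaf.algebra_section_stalk X'.presheaf (U := V₂) ⟨x, hxV₂⟩
  haveI : IsLocalization.AtPrime (Y.presheaf.stalk (f.base x)) (hU.primeIdealOf ⟨f.base x, e₂ hxV₂⟩).asIdeal :=
    hU.isLocalization_stalk ⟨f.base x, e₂ hxV₂⟩
  haveI : IsLocalization.AtPrime (X'.presheaf.stalk x) (hV₂.primeIdealOf ⟨x, hxV₂⟩).asIdeal :=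
    hV₂.isLocalization_stalk ⟨x, hxV₂⟩
  letI : Algebra Γ(Y, U) (X'.presheaf.stalk x) :=
    ((algebraMap Γ(X', V₂) (X'.presheaf.stalk x)).comp (f.appLE U V₂ e₂).hom).toAlgebra
  haveI : IsScalarTower Γ(Y, U) Γ(X', V₂) (X'.presheaf.stalk x) := .of_algebraMap_eq fun _ => rfl
  refine dim_localization_smooth (R := Γ(Y, U)) (B := Γ(X', V₂))
    (hU.primeIdealOf ⟨f.base x, e₂ hxV₂⟩).asIdeal.primeCompl (hV₂.primeIdealOf ⟨x, hxV₂⟩).asIdeal.primeCompl n hB
    (f.stalkMap x).hom (RingHom.ext fun r => ?_)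
  refine (Scheme.Hom.germ_stalkMap_apply f U x (e₂ hxV₂) r).trans ?_
  exact (TopCat.Presheaf.germ_res_apply X'.presheaf (homOfLE e₂) x hxV₂ (f.app U r)).symm

/-- Near every point a smooth morphism has bounded relative dimension. -/
theorem exists_dim_nhd (f : X' ⟶ Y) [Smooth f] (x : X') :
    ∃ (n : ℕ) (V : X'.Opens), x ∈ V ∧ ∀ y ∈ V, Dim (f.stalkMap y).hom n := by
  obtain ⟨U, hU, V, hV, hx, e, hstd⟩ := (Smooth.iff_forall_exists_isStandardSmooth f).mp ‹_› x
  letI := (f.appLE U V e).hom.toAlgebra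
  obtain ⟨ι, σ, _, _, ⟨P⟩⟩ := hstd
  exact ⟨P.dimension, V, hx, fun y hy => dim_of_appLE f hU hV e ⟨ι, σ, _, ‹_›, P, rfl⟩ y hy⟩

/-- The stalk maps of a smooth morphism of relative dimension `n`. -/
theorem dim_stalkMap (f : X' ⟶ Y) {n : ℕ} {V : X'.Opens} [SmoothOfRelativeDimension n (V.ι ≫ f)] (x : X')
    (hx : x ∈ V) : Dim (f.stalkMap x).hom n := by
  obtain ⟨U, hU, V₁, hV₁, hxV, e, hstd⟩ :=
    SmoothOfRelativeDimension.exists_isStandardSmoothOfRelativeDimension (n := n) (f := V.ι ≫ f) ⟨x, hx⟩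
  let V₂ : X'.Opens := V.ι ''ᵁ V₁
  have hV₂ : IsAffineOpen V₂ := hV₁.image_of_isOpenImmersion V.ι
  have hxV₂ : x ∈ V₂ := ⟨⟨x, hx⟩, hxV, rfl⟩
  have e₂ : V₂ ≤ f ⁻¹ᵁ U := by
    rintro _ ⟨v, hv, rfl⟩
    exact e hv
  have eι : V₁ ≤ V.ι ⁻¹ᵁ V₂ := fun v hv => ⟨v, hv, rfl⟩
  haveI : IsIso (V.ι.appLE V₂ V₁ eι) := by
    have h1 : V.ι ⁻¹ᵁ V₂ = V₁ := V.ι.preimage_image_eq V₁
    have h2 : V.ι.appLE V₂ V₁ eι =
        V.ι.app V₂ ≫ (V : Scheme.{u}).presheaf.map (eqToHom h1.symm).op := by
      rw [Scheme.Hom.app_eq_appLE, Scheme.Hom.appLE_map]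
    rw [h2]
    infer_instance
  have hB : (f.appLE U V₂ e₂).hom.IsStandardSmoothOfRelativeDimension n := by
    have h := RingHom.isStandardSmoothOfRelativeDimension_respectsIso.1 ((V.ι ≫ f).appLE U V₁ e).hom
      (asIso (V.ι.appLE V₂ V₁ eι)).commRingCatIsoToRingEquiv.symm hstd
    convert! h using 1
    ext r
    show _ = (asIso (V.ι.appLE V₂ V₁ eι)).inv ((V.ι ≫ f).appLE U V₁ e r)
    rw [← Scheme.Hom.appLE_comp_appLE V.ι f U V₂ V₁ e₂ eι]
    exact congr($((asIso (V.ι.appLE V₂ V₁ eι)).hom_inv_id) (f.appLE U V₂ e₂ r)).symm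
  exact dim_of_appLE f hU hV₂ e₂ hB x hxV₂

/-- Tor amplitude over the base gives absolute amplitude, with the relative dimension lost. -/
theorem hasFlatAmplitudeIn_of_smooth (f : X' ⟶ Y) (d : ℕ)
    (hd : ∀ x : X', ∃ (n : ℕ) (V : X'.Opens), n ≤ d ∧ x ∈ V ∧ SmoothOfRelativeDimension n (V.ι ≫ f))
    (G : CochainComplex X'.Modules ℤ) {a b : ℤ} (hG : DerSch.HasTorAmplitude f a b G) :
    DerSch.HasTorAmplitude (𝟙 X') (a - d) b G := fun x => by
  obtain ⟨n, V, hn, hx, hV⟩ := hd x
  refine ta_of_iso (DerivedCategory.Q.mapIso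
    ((NatIso.mapHomologicalComplex (stalkOverIdIso x) (ComplexShape.up ℤ)).app G)).symm ?_
  have h := dim_stalkMap (n := n) f x hx ((Sx x).obj G) a b (ta_of_iso (Iso.refl _) (hG x))
  exact ta_mono (by omega) le_rfl h

/-- Tor amplitude of a direct image over the base. -/
theorem hasTorAmplitude_push (i : X ⟶ X') [IsClosedImmersion i] (p : X' ⟶ Y) (F : CochainComplex X.Modules ℤ)
    {a b : ℤ} (hF : DerSch.HasTorAmplitude (i ≫ p) a b F) :
    DerSch.HasTorAmplitude p a b
      (((Scheme.Modules.pushforward i).mapHomologicalComplex (ComplexShape.up ℤ)).obj F) := fun y => by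
  by_cases hy : y ∈ Set.range i.base
  · obtain ⟨x, rfl⟩ := hy
    exact (at_push_comp_iff i p a b F x).1 (hF x)
  · refine ta_of_isZero (DerivedCategory.Q.map_isZero ?_)
    rw [IsZero.iff_id_eq_zero]
    refine HomologicalComplex.hom_ext _ _ fun j => ?_
    haveI := ProjFormula.subsingleton_stalk_push i (F.X j) y hy
    refine IsZero.eq_of_src ?_ _ _
    exact (ModuleCat.restrictScalars.{u} _).map_isZero
      (show IsZero ((DerSch.stalkFunctor X' y).obj ((Scheme.Modules.pushforward i).obj (F.X j))) from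
        @ModuleCat.isZero_of_subsingleton _ _ _ this)

/-- Local finiteness of the amplitude, absolute from relative to a smooth morphism. -/
theorem locFiniteTorAmplitude_id_push (i : X ⟶ X') [IsClosedImmersion i] (p : X' ⟶ Y) [Smooth p]
    (F : CochainComplex X.Modules ℤ) (hF : DerSch.LocFiniteTorAmplitude (i ≫ p) F) :
    DerSch.LocFiniteTorAmplitude (𝟙 X')
      (((Scheme.Modules.pushforward i).mapHomologicalComplex (ComplexShape.up ℤ)).obj F) := fun y => by
  obtain ⟨n, V₂, hyV₂, hV₂⟩ := exists_dim_nhd p y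
  let Fi := ((Scheme.Modules.pushforward i).mapHomologicalComplex (ComplexShape.up ℤ)).obj F
  have key : ∀ (a b : ℤ) (y' : X'), y' ∈ V₂ → DerSch.HasTorAmplitudeAt p a b Fi y' →
      DerSch.HasTorAmplitudeAt (𝟙 X') (a - n) b Fi y' := fun a b y' hy' h => by
    refine ta_of_iso (DerivedCategory.Q.mapIso
      ((NatIso.mapHomologicalComplex (stalkOverIdIso y') (ComplexShape.up ℤ)).app Fi)).symm ?_
    exact hV₂ y' hy' ((Sx y').obj Fi) a b (ta_of_iso (Iso.refl _) h)
  have hoff : ∀ (a b : ℤ) (y' : X'), y' ∉ Set.range i.base → DerSch.HasTorAmplitudeAt p a b Fi y' := fun a b y' hy' => by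
    refine ta_of_isZero (DerivedCategory.Q.map_isZero ?_)
    rw [IsZero.iff_id_eq_zero]
    refine HomologicalComplex.hom_ext _ _ fun j => ?_
    haveI := ProjFormula.subsingleton_stalk_push i (F.X j) y' hy'
    refine IsZero.eq_of_src ?_ _ _
    exact (ModuleCat.restrictScalars.{u} _).map_isZero
      (show IsZero ((DerSch.stalkFunctor X' y').obj ((Scheme.Modules.pushforward i).obj (F.X j))) from
        @ModuleCat.isZero_of_subsingleton _ _ _ this)
  by_cases hy : y ∈ Set.range i.base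
  · obtain ⟨x, rfl⟩ := hy
    obtain ⟨V, a, b, hx, hV⟩ := hF x
    let W : X'.Opens := ⟨(i.base '' (↑V)ᶜ)ᶜ, (i.isClosedEmbedding.isClosedMap _ V.2.isClosed_compl).isOpen_compl⟩
    refine ⟨V₂ ⊓ W, a - n, b, ⟨hyV₂, ?_⟩, fun y' hy' => key a b y' hy'.1 ?_⟩
    · rintro ⟨w, hw, e⟩
      exact hw (i.isClosedEmbedding.injective e ▸ hx)
    by_cases h : y' ∈ Set.range i.base
    · obtain ⟨x', rfl⟩ := h
      refine (at_push_comp_iff i p a b F x').1 (hV x' ?_)
      by_contra hc
      exact hy'.2 ⟨x', hc, rfl⟩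
    · exact hoff a b y' h
  · refine ⟨V₂ ⊓ ⟨(Set.range i.base)ᶜ, i.isClosedEmbedding.isClosed_range.isOpen_compl⟩, 0 - n, 0, ⟨hyV₂, hy⟩,
      fun y' hy' => key 0 0 y' hy'.1 (hoff 0 0 y' hy'.2)⟩

end Groth.Agent.H16Derived.TorTest
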