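import Groth.Agent.H16Derived.TorTest.RelTildeAmp
import Groth.Agent.H4DR.TorAmp.Derived
import Mathlib.RingTheory.Unramified.Finite
import Mathlib.Algebra.MvPolynomial.Equiv

/-!
# Tor amplitude over the source of a smooth ring map

`Dim ψ d`: an object of tor amplitude in `[a, b]` over `A` has tor amplitude in `[a - d, b]` over `B`.
-/

set_option autoImplicit false
set_option linter.style.haveILetI false
set_option backward.isDefEq.respectTransparency false

universe u

open CategoryTheory CategoryTheory.Limits TensorProduct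
open Groth.Agent.H16Derived Groth.Agent.H4DR.TorAmp

attribute [local instance] HasDerivedCategory.standard

namespace Groth.Agent.H16Derived.TorTest

variable {A B C : Type u} [CommRing A] [CommRing B] [CommRing C]

/-- Objects of tor amplitude in `[a, b]` over `A` have tor amplitude in `[a - d, b]` over `B`. -/
def Dim (ψ : A →+* B) (d : ℕ) : Prop :=
  ∀ (K : DRing.Cx B) (a b : ℤ), DRing.HasTorAmplitudeIn A a b (DRing.toD ((DTen.resCx ψ).obj K)) →
    DRing.HasTorAmplitudeIn B (a - d) b (DRing.toD K)

theorem Dim.comp {ψ : A →+* B} {χ : B →+* C} {d e : ℕ} (hψ : Dim ψ d) (hχ : Dim χ e) :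
    Dim (χ.comp ψ) (e + d) := fun K a b h => by
  refine ta_mono (by push_cast; omega) le_rfl (hχ K (a - d) b (hψ _ a b ?_))
  exact ta_of_iso (DerivedCategory.Q.mapIso (resCompCx ψ χ (χ.comp ψ) rfl K)) h

/-- Extension after restriction has the amplitude of the restriction. -/
theorem ta_extend_restrict (ψ : A →+* B) (hψ : ψ.Flat) {K : DRing.Cx B} {a b : ℤ}
    (h : DRing.HasTorAmplitudeIn A a b (DRing.toD ((DTen.resCx ψ).obj K))) :
    DRing.HasTorAmplitudeIn B a b (DRing.toD ((DTen.extCx ψ).obj ((DTen.resCx ψ).obj K))) := by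
  haveI : PreservesFiniteLimits (ModuleCat.extendScalars.{u, u, u} ψ) :=
    ModuleCat.preservesFiniteLimits_extendScalars_of_flat hψ
  exact ta_of_iso ((ModuleCat.extendScalars.{u, u, u} ψ).mapDerivedCategoryFactors.app
    ((DTen.resCx ψ).obj K)) (ta_extend ψ hψ h)

section Poly

variable (ψ : A →+* B)

/-- `B ⊗_A M ⟶ M`. -/
noncomputable def evB :
    ModuleCat.restrictScalars.{u} ψ ⋙ ModuleCat.extendScalars.{u, u, u} ψ ⟶ 𝟭 (ModuleCat.{u} B) where
  app M :=
    letI := ψ.toAlgebra
    letI : Module A M := Module.compHom M ψ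
    haveI : IsScalarTower A B M := .of_algebraMap_smul fun _ _ => rfl
    ModuleCat.ofHom
      { toFun := fun t => (LinearMap.id (R := A) (M := M)).liftBaseChange B t
        map_add' := fun s t => map_add _ s t
        map_smul' := fun c t => ((LinearMap.id (R := A) (M := M)).liftBaseChange B).map_smul c t }
  naturality {M N} g := by
    letI := ψ.toAlgebra
    letI : Module A M := Module.compHom M ψ
    haveI : IsScalarTower A B M := .of_algebraMap_smul fun _ _ => rfl
    letI : Module A N := Module.compHom N ψ
    haveI : IsScalarTower A B N := .of_algebraMap_smul fun _ _ => rfl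
    refine ModuleCat.hom_ext (LinearMap.ext fun (t : B ⊗[A] M) => ?_)
    show (LinearMap.id (R := A) (M := N)).liftBaseChange B ((g.hom.restrictScalars A).lTensor B t) =
      g.hom ((LinearMap.id (R := A) (M := M)).liftBaseChange B t)
    induction t using TensorProduct.induction_on with
    | zero => simp
    | add s t hs ht => simp only [map_add, hs, ht]
    | tmul c m =>
      rw [LinearMap.lTensor_tmul, LinearMap.liftBaseChange_tmul, LinearMap.liftBaseChange_tmul]
      exact (g.hom.map_smul c m).symm

/-- `x ⊗ 1 - 1 ⊗ x` on `B ⊗_A M`. -/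
noncomputable def dlt (x : B) :
    ModuleCat.restrictScalars.{u} ψ ⋙ ModuleCat.extendScalars.{u, u, u} ψ ⟶
      ModuleCat.restrictScalars.{u} ψ ⋙ ModuleCat.extendScalars.{u, u, u} ψ where
  app M :=
    x • 𝟙 _ - (ModuleCat.restrictScalars.{u} ψ ⋙ ModuleCat.extendScalars.{u, u, u} ψ).map (x • 𝟙 M)
  naturality {M N} g := by
    rw [Preadditive.comp_sub, Preadditive.sub_comp, Linear.comp_smul, Linear.smul_comp, Category.comp_id,
      Category.id_comp, ← Functor.map_comp, ← Functor.map_comp, Linear.comp_smul, Linear.smul_comp,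
      Category.comp_id, Category.id_comp]

theorem dlt_apply (x : B) (M : ModuleCat.{u} B) :
    letI := ψ.toAlgebra
    letI : Module A M := Module.compHom M ψ
    ∀ (c : B) (m : M), ((dlt ψ x).app M).hom (c ⊗ₜ[A] m) = (x * c) ⊗ₜ[A] m - c ⊗ₜ[A] (x • m) := by
  intro c m
  rfl

/-- The sequence of a polynomial variable is exact. -/
theorem shortExact_dlt (Φ : Polynomial A ≃+* B) (hΦ : ∀ a, Φ (Polynomial.C a) = ψ a) (M : ModuleCat.{u} B)
    (w : (dlt ψ (Φ Polynomial.X)).app M ≫ (evB ψ).app M = 0) :
    (ShortComplex.mk _ _ w).ShortExact := by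
  letI := ψ.toAlgebra
  letI : Module A M := Module.compHom M ψ
  haveI : IsScalarTower A B M := .of_algebraMap_smul fun _ _ => rfl
  let x := Φ Polynomial.X
  let l : B ≃ₗ[A] (ℕ →₀ A) :=
    { toFun := fun b => (Φ.symm b).toFinsupp.coeff
      invFun := fun f => Φ ⟨⟨f⟩⟩
      map_add' := fun b c => by simp [map_add]
      map_smul' := fun r b => by
        have h : Φ.symm (r • b) = Polynomial.C r * Φ.symm b := by
          rw [Algebra.smul_def, map_mul]
          exact congrArg (· * Φ.symm b) (Φ.symm_apply_eq.2 (hΦ r).symm)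
        ext k
        show (Φ.symm (r • b)).coeff k = r • (Φ.symm b).coeff k
        rw [h, Polynomial.coeff_C_mul, smul_eq_mul]
      left_inv := fun b => Φ.apply_symm_apply b
      right_inv := fun f => by simp }
  let e : B ⊗[A] M ≃ₗ[A] (ℕ →₀ M) :=
    (TensorProduct.congr l (LinearEquiv.refl A M)).trans (TensorProduct.finsuppScalarLeft A M ℕ)
  have he : ∀ (c : B) (m : M) (k : ℕ), e (c ⊗ₜ[A] m) k = (Φ.symm c).coeff k • m := fun c m k => by
    simp [e, l, TensorProduct.finsuppScalarLeft_apply_tmul_apply]
    rfl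
  let d : B ⊗[A] M → B ⊗[A] M := fun t => ((dlt ψ x).app M).hom t
  have hd0 : d 0 = 0 := map_zero _
  have hd1 : ∀ s t, d (s + t) = d s + d t := fun s t => map_add _ s t
  have hd : ∀ (c : B) (m : M), d (c ⊗ₜ[A] m) = (x * c) ⊗ₜ[A] m - c ⊗ₜ[A] (x • m) := dlt_apply ψ x M
  have hk : ∀ t k, e (d t) (k + 1) = e t k - x • e t (k + 1) := by
    intro t k
    induction t using TensorProduct.induction_on with
    | zero => simp [hd0]
    | add s t hs ht =>
      simp only [hd1, map_add, Finsupp.add_apply, hs, ht, smul_add]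
      abel
    | tmul c m =>
      rw [hd, map_sub, Finsupp.sub_apply, he, he, he, he, map_mul, RingEquiv.symm_apply_apply,
        Polynomial.coeff_X_mul, smul_comm x]
  have hinj : ∀ t, d t = 0 → t = 0 := fun t h0 => by
    have h1 : ∀ k, e t k = x • e t (k + 1) := fun k => sub_eq_zero.1 (by rw [← hk, h0]; simp)
    apply e.injective
    rw [map_zero]
    ext k
    obtain ⟨N, hN⟩ : ∃ N, ∀ j, N ≤ j → e t j = 0 :=
      ⟨(e t).support.sup id + 1, fun j hj => Finsupp.notMem_support_iff.1 fun hj' => by
        have := Finset.le_sup (f := id) hj'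
        simp only [id_eq] at this
        omega⟩
    have h2 : ∀ i, ∀ j, N ≤ j + i → e t j = 0 := by
      intro i
      induction i with
      | zero => exact fun j hj => hN j hj
      | succ i ih => intro j hj; rw [h1 j, ih (j + 1) (by omega), smul_zero]
    exact h2 N k (by omega)
  have hmem : ∀ t : B ⊗[A] M, ∃ s, d s = t - (1 : B) ⊗ₜ[A] ((LinearMap.id (R := A) (M := M)).liftBaseChange B t) := by
    intro t
    induction t using TensorProduct.induction_on with
    | zero => exact ⟨0, by simp [hd0]⟩
    | add s t hs ht =>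
      obtain ⟨u, hu⟩ := hs
      obtain ⟨v, hv⟩ := ht
      exact ⟨u + v, by rw [hd1, hu, hv, map_add, TensorProduct.tmul_add]; abel⟩
    | tmul c m =>
      rw [LinearMap.liftBaseChange_tmul, LinearMap.id_apply, ← Φ.apply_symm_apply c]
      induction Φ.symm c using Polynomial.induction_on' generalizing m with
      | add p q hp hq =>
        obtain ⟨u, hu⟩ := hp m
        obtain ⟨v, hv⟩ := hq m
        exact ⟨u + v, by rw [hd1, hu, hv, map_add, TensorProduct.add_tmul, add_smul, TensorProduct.tmul_add]; abel⟩
      | monomial k a =>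
        induction k generalizing m with
        | zero =>
          refine ⟨0, ?_⟩
          rw [hd0, Polynomial.monomial_zero_left, hΦ, eq_comm, sub_eq_zero]
          show algebraMap A B a ⊗ₜ[A] m = (1 : B) ⊗ₜ[A] (algebraMap A B a • m)
          rw [algebraMap_smul, TensorProduct.tmul_smul, TensorProduct.smul_tmul', Algebra.algebraMap_eq_smul_one]
        | succ k ih =>
          obtain ⟨u, hu⟩ := ih (x • m)
          refine ⟨Φ (Polynomial.monomial k a) ⊗ₜ[A] m + u, ?_⟩
          have hx : Φ (Polynomial.monomial (k + 1) a) = x * Φ (Polynomial.monomial k a) := by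
            rw [← Polynomial.X_mul_monomial, map_mul]
          rw [hd1, hu, hd, hx, smul_smul, mul_comm (Φ (Polynomial.monomial k a)) x]
          abel
  refine { exact := ?_, mono_f := ?_, epi_g := ?_ }
  · rw [ShortComplex.ShortExact.moduleCat_exact_iff_function_exact]
    intro (t : B ⊗[A] M)
    refine ⟨fun (ht : (LinearMap.id (R := A) (M := M)).liftBaseChange B t = 0) => ?_, ?_⟩
    · obtain ⟨s, hs⟩ := hmem t
      exact ⟨s, hs.trans (by rw [ht, TensorProduct.tmul_zero, sub_zero])⟩
    · rintro ⟨s, rfl⟩
      exact congr($(congrArg ModuleCat.Hom.hom w) s)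
  · refine (ModuleCat.mono_iff_injective _).2 fun (s t : B ⊗[A] M) hst => ?_
    refine sub_eq_zero.1 (hinj _ ?_)
    exact (map_sub ((dlt ψ x).app M).hom s t).trans (sub_eq_zero.2 hst)
  · refine (ModuleCat.epi_iff_surjective _).2 fun (m : M) => ⟨(1 : B) ⊗ₜ[A] m, ?_⟩
    show (LinearMap.id (R := A) (M := M)).liftBaseChange B ((1 : B) ⊗ₜ[A] m) = m
    simp

/-- A polynomial variable costs one degree of amplitude. -/
theorem dim_polynomial (Φ : Polynomial A ≃+* B) (hΦ : ∀ a, Φ (Polynomial.C a) = ψ a) : Dim ψ 1 := by
  intro K a b h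
  letI := ψ.toAlgebra
  have hflat : ψ.Flat := by
    have e : ψ = (Φ : Polynomial A →+* B).comp Polynomial.C := RingHom.ext fun r => (hΦ r).symm
    rw [e]
    exact RingHom.Flat.comp
      (show (algebraMap A (Polynomial A)).Flat from RingHom.flat_algebraMap_iff.2 inferInstance)
      (RingHom.Flat.of_bijective Φ.bijective)
  let x := Φ Polynomial.X
  have w : ∀ M : ModuleCat.{u} B, (dlt ψ x).app M ≫ (evB ψ).app M = 0 := fun M => by
    letI : Module A M := Module.compHom M ψ
    haveI : IsScalarTower A B M := .of_algebraMap_smul fun _ _ => rfl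
    refine ModuleCat.hom_ext (LinearMap.ext fun (t : B ⊗[A] M) => ?_)
    let d : B ⊗[A] M → B ⊗[A] M := fun t => ((dlt ψ x).app M).hom t
    have hd0 : d 0 = 0 := map_zero _
    have hd1 : ∀ s t, d (s + t) = d s + d t := fun s t => map_add _ s t
    have hd : ∀ (c : B) (m : M), d (c ⊗ₜ[A] m) = (x * c) ⊗ₜ[A] m - c ⊗ₜ[A] (x • m) := dlt_apply ψ x M
    show (LinearMap.id (R := A) (M := M)).liftBaseChange B (d t) = 0
    induction t using TensorProduct.induction_on with
    | zero => rw [hd0, map_zero]
    | add s t hs ht => rw [hd1, map_add, hs, ht, add_zero]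
    | tmul c m =>
      rw [hd, map_sub, LinearMap.liftBaseChange_tmul, LinearMap.liftBaseChange_tmul]
      simp [smul_smul, mul_comm]
  let S : ShortComplex (DRing.Cx B) := ShortComplex.mk
    ((NatTrans.mapHomologicalComplex (dlt ψ x) (ComplexShape.up ℤ)).app K)
    ((NatTrans.mapHomologicalComplex (evB ψ) (ComplexShape.up ℤ)).app K ≫
      (Functor.mapHomologicalComplexIdIso (ModuleCat.{u} B) (ComplexShape.up ℤ)).hom.app K)
    (HomologicalComplex.hom_ext _ _ fun i => by
      show (dlt ψ x).app (K.X i) ≫ ((evB ψ).app (K.X i) ≫ 𝟙 (K.X i)) = 0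
      exact (congrArg ((dlt ψ x).app (K.X i) ≫ ·) (Category.comp_id ((evB ψ).app (K.X i)))).trans (w (K.X i)))
  have hS : S.ShortExact := HomologicalComplex.shortExact_of_degreewise_shortExact _ fun i =>
    ShortComplex.shortExact_of_iso
      (ShortComplex.isoMk (S₁ := ShortComplex.mk _ _ (w (K.X i))) (S₂ := S.map (HomologicalComplex.eval _ _ i))
        (Iso.refl _) (Iso.refl _) (Iso.refl _)
        (by show 𝟙 _ ≫ (dlt ψ x).app (K.X i) = (dlt ψ x).app (K.X i) ≫ 𝟙 _; simp)
        (by show 𝟙 _ ≫ ((evB ψ).app (K.X i) ≫ 𝟙 _) = (evB ψ).app (K.X i) ≫ 𝟙 _; simp))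
      (shortExact_dlt ψ Φ hΦ (K.X i) (w (K.X i)))
  have hE := ta_extend_restrict ψ hflat h
  exact ta_obj₃ _ (DerivedCategory.triangleOfSES_distinguished hS)
    (ta_mono (by omega) (by omega) hE) (ta_mono (by omega) le_rfl hE)

end Poly

section Unramified

/-- Formally unramified flat maps of essentially finite type keep the amplitude. -/
theorem dim_unramified (ψ : A →+* B)
    (h₁ : letI := ψ.toAlgebra; Algebra.FormallyUnramified A B)
    (h₂ : letI := ψ.toAlgebra; Algebra.EssFiniteType A B) (hflat : ψ.Flat) : Dim ψ 0 := by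
  intro K a b h
  letI := ψ.toAlgebra
  haveI := h₁
  haveI := h₂
  let e := Algebra.FormallyUnramified.elem A B
  let G := ModuleCat.restrictScalars.{u} ψ ⋙ ModuleCat.extendScalars.{u, u, u} ψ
  let T : ∀ M : ModuleCat.{u} B, letI : Module A M := Module.compHom M ψ
      (B ⊗[A] B →ₗ[A] M →ₗ[A] B ⊗[A] M) := fun M =>
    letI : Module A M := Module.compHom M ψ
    haveI : IsScalarTower A B M := .of_algebraMap_smul fun _ _ => rfl
    TensorProduct.lift (LinearMap.mk₂ A
      (fun (c d : B) => (TensorProduct.mk A B M c).comp ((LinearMap.lsmul B M d).restrictScalars A))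
      (fun c c' d => LinearMap.ext fun m => by simp [TensorProduct.add_tmul])
      (fun r c d => LinearMap.ext fun m => by simp [TensorProduct.smul_tmul'])
      (fun c d d' => LinearMap.ext fun m => by simp [add_smul, TensorProduct.tmul_add])
      (fun r c d => LinearMap.ext fun m => by simp [smul_assoc]))
  let s : ∀ M : ModuleCat.{u} B, M ⟶ G.obj M := fun M =>
    letI : Module A M := Module.compHom M ψ
    haveI : IsScalarTower A B M := .of_algebraMap_smul fun _ _ => rfl
    ModuleCat.ofHom
      { toFun := fun m => T M e m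
        map_add' := fun m n => map_add (T M e) m n
        map_smul' := fun c m => by
          have k1 : ∀ z : B ⊗[A] B, T M z (c • m) = T M ((1 ⊗ₜ c) * z) m := fun z => by
            induction z using TensorProduct.induction_on with
            | zero => simp
            | add z z' hz hz' => simp [mul_add, hz, hz']
            | tmul p q => simp [T, smul_smul, mul_comm]
          have k2 : ∀ z : B ⊗[A] B, T M ((c ⊗ₜ 1) * z) m = c • T M z m := fun z => by
            induction z using TensorProduct.induction_on with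
            | zero => simp
            | add z z' hz hz' => simp [mul_add, hz, hz']
            | tmul p q => simp [T, TensorProduct.smul_tmul']
          exact ((k1 e).trans (congrArg (fun z => T M z m)
            (Algebra.FormallyUnramified.one_tmul_mul_elem c))).trans (k2 e) }
  let sN : 𝟭 (ModuleCat.{u} B) ⟶ G :=
    { app := s
      naturality := fun M N g => by
        letI : Module A M := Module.compHom M ψ
        haveI : IsScalarTower A B M := .of_algebraMap_smul fun _ _ => rfl
        letI : Module A N := Module.compHom N ψ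
        haveI : IsScalarTower A B N := .of_algebraMap_smul fun _ _ => rfl
        refine ModuleCat.hom_ext (LinearMap.ext fun (m : M) => ?_)
        show T N e (g.hom m) = (g.hom.restrictScalars A).lTensor B (T M e m)
        induction e using TensorProduct.induction_on with
        | zero => simp
        | add z z' hz hz' => simp [hz, hz']
        | tmul p q => simp [T] }
  have hrs : sN ≫ evB ψ = 𝟙 _ := NatTrans.ext (funext fun M => by
    letI : Module A M := Module.compHom M ψ
    haveI : IsScalarTower A B M := .of_algebraMap_smul fun _ _ => rfl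
    refine ModuleCat.hom_ext (LinearMap.ext fun (m : M) => ?_)
    show (LinearMap.id (R := A) (M := M)).liftBaseChange B (T M e m) = m
    have k : ∀ z : B ⊗[A] B, (LinearMap.id (R := A) (M := M)).liftBaseChange B (T M z m) =
        (Algebra.TensorProduct.lmul' A z) • m := fun z => by
      induction z using TensorProduct.induction_on with
      | zero => simp
      | add z z' hz hz' => simp [hz, hz', add_smul]
      | tmul p q => simp [T, smul_smul]
    rw [k e, Algebra.FormallyUnramified.lmul_elem, one_smul])
  let S₁ : K ⟶ (DTen.extCx ψ).obj ((DTen.resCx ψ).obj K) :=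
    (Functor.mapHomologicalComplexIdIso (ModuleCat.{u} B) (ComplexShape.up ℤ)).inv.app K ≫
      (NatTrans.mapHomologicalComplex sN (ComplexShape.up ℤ)).app K
  let R₁ : (DTen.extCx ψ).obj ((DTen.resCx ψ).obj K) ⟶ K :=
    (NatTrans.mapHomologicalComplex (evB ψ) (ComplexShape.up ℤ)).app K ≫
      (Functor.mapHomologicalComplexIdIso (ModuleCat.{u} B) (ComplexShape.up ℤ)).hom.app K
  have hSR : S₁ ≫ R₁ = 𝟙 K := HomologicalComplex.hom_ext _ _ fun i => by
    show (𝟙 (K.X i) ≫ sN.app (K.X i)) ≫ ((evB ψ).app (K.X i) ≫ 𝟙 (K.X i)) = 𝟙 _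
    simp only [Category.id_comp, Category.comp_id]
    exact congr($(hrs).app (K.X i))
  exact ta_mono (by simp) le_rfl (ta_of_retract (DerivedCategory.Q.map S₁) (DerivedCategory.Q.map R₁)
    ((DerivedCategory.Q.map_comp _ _).symm.trans ((congrArg DerivedCategory.Q.map hSR).trans
      (DerivedCategory.Q.map_id K))) (ta_extend_restrict ψ hflat h))

end Unramified

/-- Isomorphisms keep the amplitude. -/
theorem dim_of_bijective (ψ : A →+* B) (hb : Function.Bijective ψ) : Dim ψ 0 := by
  letI := ψ.toAlgebra
  haveI : Algebra.FiniteType A B := RingHom.FiniteType.of_surjective ψ hb.2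
  exact dim_unramified ψ
    (Algebra.FormallyUnramified.of_surjective (Algebra.ofId A B) hb.2)
    (inferInstanceAs (Algebra.EssFiniteType A B)) (RingHom.Flat.of_bijective hb)

/-- Polynomial rings in `n` variables cost `n` degrees. -/
theorem dim_mvPolynomial : ∀ (n : ℕ), Dim (MvPolynomial.C : A →+* MvPolynomial (Fin n) A) n
  | 0 => dim_of_bijective _ ⟨MvPolynomial.C_injective _ _, MvPolynomial.C_surjective _⟩
  | n + 1 => by
    let ψ : MvPolynomial (Fin n) A →+* MvPolynomial (Fin (n + 1)) A :=
      (MvPolynomial.finSuccEquiv A n).symm.toRingEquiv.toRingHom.comp Polynomial.C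
    have h : (MvPolynomial.C : A →+* MvPolynomial (Fin (n + 1)) A) = ψ.comp MvPolynomial.C :=
      RingHom.ext fun r => by
        show _ = (MvPolynomial.finSuccEquiv A n).symm (Polynomial.C (MvPolynomial.C r))
        rw [eq_comm, AlgEquiv.symm_apply_eq, MvPolynomial.finSuccEquiv_apply]
        simp
    rw [h]
    have hd := (dim_mvPolynomial n).comp (dim_polynomial ψ (MvPolynomial.finSuccEquiv A n).symm.toRingEquiv fun _ => rfl)
    intro K a b hK
    exact ta_mono (by push_cast; omega) le_rfl (hd K a b hK)

end Groth.Agent.H16Derived.TorTest
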