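import Groth.Agent.H16Derived.TorTest.StalkAmp
import Groth.Agent.H4DR.TorAmp.Descent
import Groth.Agent.H8Props.NilThickStalk

/-!
# Tor amplitude and open subschemes
-/

set_option autoImplicit false
set_option linter.style.haveILetI false

universe u

open CategoryTheory CategoryTheory.Limits AlgebraicGeometry MonoidalCategory
open Groth.Agent.H16Derived
open Groth.Agent.H16Derived.KFlat Groth.Agent.H16Derived.KFlat.Stalk
open Groth.Agent.H4DR.TorAmp

attribute [local instance] HasDerivedCategory.standard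

namespace Groth.Agent.H16Derived.TorTest

/-- Tor amplitude through an isomorphism of rings. -/
theorem ta_of_bijective {A C : Type u} [CommRing A] [CommRing C] (φ : A →+* C)
    (hφ : Function.Bijective φ) {W : DRing.Cx C} {a b : ℤ}
    (h : DRing.HasTorAmplitudeIn A a b (DRing.toD ((DTen.resCx φ).obj W))) :
    DRing.HasTorAmplitudeIn C a b (DRing.toD W) := by
  let σ := RingEquiv.ofBijective φ hφ
  letI : Algebra C A := σ.symm.toRingHom.toAlgebra
  have hB : DRing.HasTorAmplitudeIn C (-((0 : ℕ) : ℤ)) 0 (Dual.inD C A) := by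
    refine (ta_inD_iff 0 (ModuleCat.of C A)).2 (H8Props.PseudoCoh.hasTorDimLE_zero_iff.2 ?_)
    exact RingHom.Flat.of_bijective (f := σ.symm.toRingHom) σ.symm.bijective
  have h' := ta_restrict hB h
  rw [Nat.cast_zero, sub_zero] at h'
  refine ta_of_iso ((DTen.resFactors (algebraMap C A)).app _ ≪≫ DerivedCategory.Q.mapIso ?_) h'
  refine HomologicalComplex.Hom.isoOfComponents (fun i => LinearEquiv.toModuleIso
    (AddEquiv.toLinearEquiv (AddEquiv.refl _) (fun r v => ?_) :
      (((DTen.resCx (algebraMap C A)).obj ((DTen.resCx φ).obj W)).X i) ≃ₗ[C] (W.X i))) (fun i k _ => rfl)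
  exact congrArg (fun s : C => (HSMul.hSMul s (show W.X i from v) : W.X i)) (σ.apply_symm_apply r)

variable {X Y : Scheme.{u}}

/-- The stalk of the restriction to an open, over the big local ring. -/
noncomputable def stalkRestrictIso (j : X ⟶ Y) [IsOpenImmersion j] (F : CochainComplex Y.Modules ℤ) (x : X) :
    (DerSch.stalkCxOver j x).obj (((Scheme.Modules.restrictFunctor j).mapHomologicalComplex (ComplexShape.up ℤ)).obj F) ≅
      (Sx (j.base x)).obj F :=
  HomologicalComplex.Hom.isoOfComponents (fun i => LinearEquiv.toModuleIso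
    (AddEquiv.toLinearEquiv (H8Props.NilThick.rsE j (F.X i) x) (fun r v => H8Props.NilThick.rsE_smul j (F.X i) x r v) :
      ((DerSch.stalkOver j x).obj ((Scheme.Modules.restrictFunctor j).obj (F.X i))) ≃ₗ[Y.presheaf.stalk (j.base x)]
        ((DerSch.stalkFunctor Y (j.base x)).obj (F.X i))))
    fun i k _ => ModuleCat.hom_ext (LinearMap.ext fun v =>
      (H8Props.NilThick.rsE_map j (F.d i k) x v).symm)

/-- Tor amplitude relative to `f` restricts to the opens `f⁻¹ V → V`. -/
theorem hasTorAmplitude_restrict (f : X ⟶ Y) {F : CochainComplex X.Modules ℤ} {a b : ℤ}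
    (h : DerSch.HasTorAmplitude f a b F) (V : Y.Opens) :
    DerSch.HasTorAmplitude (f ∣_ V) a b ((DCoh.restrictCx (f ⁻¹ᵁ V)).obj F) := by
  have h1 : DerSch.HasTorAmplitude ((f ⁻¹ᵁ V).ι ≫ f) a b ((DCoh.restrictCx (f ⁻¹ᵁ V)).obj F) := fun x =>
    ta_of_iso (DerivedCategory.Q.mapIso (stalkOverCompIso (f ⁻¹ᵁ V).ι f x _ ≪≫
      (DTen.resCx (f.stalkMap ((f ⁻¹ᵁ V).ι.base x)).hom).mapIso (stalkRestrictIso (f ⁻¹ᵁ V).ι F x))).symm
      (h ((f ⁻¹ᵁ V).ι.base x))
  rw [← morphismRestrict_ι] at h1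
  intro x
  exact ta_of_bijective (V.ι.stalkMap ((f ∣_ V).base x)).hom
    (ConcreteCategory.bijective_of_isIso (V.ι.stalkMap ((f ∣_ V).base x)))
    (ta_of_iso (DerivedCategory.Q.mapIso (stalkOverCompIso (f ∣_ V) V.ι x _)) (h1 x))

/-- `Lf^* M ⊗^L F` for a module `M` lives in the amplitude of `F`. -/
theorem isZero_hd_tensor_inD (f : X ⟶ Y) [DCoh.HasLpull f] (F : CochainComplex X.Modules ℤ)
    [DCoh.HasLTensorCx F] {a b : ℤ} (hF : DerSch.HasTorAmplitude f a b F) (M : Y.Modules)
    {i : ℤ} (hi : i < a ∨ b < i) :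
    IsZero (DCoh.HD ((DCoh.LTensorCx F).obj ((DCoh.Lpull f).obj (DCoh.inD Y M))) i) := by
  let M' : CochainComplex Y.Modules ℤ :=
    (HomologicalComplex.single Y.Modules (ComplexShape.up ℤ) 0).obj M
  let eM : DCoh.toD Y M' ≅ DCoh.inD Y M := ((DerivedCategory.singleFunctorIsoCompQ Y.Modules 0).app M).symm
  obtain ⟨P, hP, ⟨eP⟩⟩ := exists_kflat_rep (DCoh.toD Y M')
  let Q := ((Scheme.Modules.pullback f).mapHomologicalComplex (ComplexShape.up ℤ)).obj P
  let T := ((DCoh.tensorCx (X := X)).obj Q).obj F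
  have e₂ : DCoh.toD X T ≅ (DCoh.LTensorCx F).obj ((DCoh.Lpull f).obj (DCoh.inD Y M)) :=
    ((ltensorCxIso F).app ⟨Q, lkflat_of_kflat (isKFlat_pullback f hP)⟩).symm ≪≫
      (DCoh.LTensorCx F).mapIso ((lpullObjIso f P hP).symm ≪≫ (DCoh.Lpull f).mapIso (eP ≪≫ eM))
  refine IsZero.of_iso ?_ (((DerivedCategory.homologyFunctor X.Modules i).mapIso e₂.symm) ≪≫
    (DerivedCategory.homologyFunctorFactors X.Modules i).app T)
  refine (ShortComplex.exact_iff_isZero_homology _).1 ((exact_iff _).2 fun x => ?_)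
  suffices hx : ((DerSch.stalkCxOver f x).obj T).ExactAt i by
    have h' : ((DTen.resCx (f.stalkMap x).hom).obj ((Sx x).obj T)).ExactAt i := hx
    exact (HomologicalComplex.exactAt_iff _ _).1 ((exactAt_res_iff _ _ i).1 h')
  refine HomologicalComplex.ExactAt.of_iso ?_ (stalkPullTensorIso f x P F).symm
  obtain ⟨E, hE, hf, ⟨e⟩⟩ := hF x
  obtain ⟨e'⟩ := tensor_congr (fun j hj => hE j (Or.inr hj))
    ((H25DTen.isKFlat_iff _).1 ((isKFlat_iff_stalk P).1 hP (f.base x))) e
  have hP' : ∀ j : ℤ, (j < 0 ∨ 0 < j) → ((Sx (f.base x)).obj P).ExactAt j := fun j hj => by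
    have hPj : P.ExactAt j := by
      refine (HomologicalComplex.exactAt_iff_isZero_homology _ _).2 (IsZero.of_iso ?_
        (((DerivedCategory.homologyFunctorFactors Y.Modules j).app P).symm ≪≫
          (DerivedCategory.homologyFunctor Y.Modules j).mapIso eP ≪≫
          (DerivedCategory.homologyFunctorFactors Y.Modules j).app M'))
      exact ((HomologicalComplex.exactAt_iff M' j).2 (ShortComplex.exact_of_isZero_X₂ (M'.sc j)
        (show IsZero (M'.X j) from HomologicalComplex.isZero_single_obj_X (ComplexShape.up ℤ) 0 M j (by omega)))).isZero_homology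
    exact (HomologicalComplex.exactAt_iff _ _).2 ((exact_iff _).1 hPj (f.base x))
  have h0 := exactAt_flat_tensor hE hf hP' (i := i) (by omega)
  rw [HomologicalComplex.exactAt_iff_isZero_homology] at h0 ⊢
  exact h0.of_iso (((DerivedCategory.homologyFunctorFactors _ i).app _).symm ≪≫
    (DerivedCategory.homologyFunctor _ i).mapIso e'.symm ≪≫
    (DerivedCategory.homologyFunctorFactors _ i).app _)

end Groth.Agent.H16Derived.TorTest
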