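import Groth.Agent.H16Derived.TorTest.FlatBaseTA
import Groth.Agent.H4DR.TorAmp.Derived
import Groth.Agent.H4DR.TorAmp.Exists
import Groth.Agent.H16Derived.TorTest.RpushAmp

/-!
# Tor-independent base change of relative tor amplitude

The base change `R → R'` is assumed to come from a base change `R₀ → R₀'` with `R` flat over `R₀`.
-/

set_option autoImplicit false
set_option linter.style.haveILetI false
set_option backward.isDefEq.respectTransparency false

universe u

open CategoryTheory CategoryTheory.Limits AlgebraicGeometry TensorProduct MonoidalCategory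
open Groth.Agent.H16Derived Groth.Agent.H16Derived.KFlat Groth.Agent.H16Derived.KFlat.Stalk
open Groth.Agent.H4DR.TorAmp

attribute [local instance] HasDerivedCategory.standard

namespace Groth.Agent.H16Derived.TorTest

section Algebra

attribute [local instance] Algebra.TensorProduct.rightAlgebra

/-- Extension of scalars of an object of given tor amplitude, along a tor-independent map. -/
theorem ta_ext_of_indep (R₀ R R₀' R' : Type u) [CommRing R₀] [CommRing R] [CommRing R₀'] [CommRing R']
    [Algebra R₀ R] [Algebra R₀ R₀'] [Algebra R₀ R'] [Algebra R₀' R'] [IsScalarTower R₀ R₀' R'] (ρ : R →+* R')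
    (hρ : ρ.comp (algebraMap R₀ R) = algebraMap R₀ R')
    (hflat₀ : letI := ρ.toAlgebra; haveI : IsScalarTower R₀ R R' := .of_algebraMap_eq' hρ.symm
      (H06Mod.tensorLift R₀ R R₀' R').toRingHom.Flat) [Module.Flat R₀ R]
    (M : DRing.Cx R) (c : ℤ) (hMb : DRing.VanishesAbove M c)
    (hM₀ : ∀ i, letI := Module.compHom (M.X i) (algebraMap R₀ R); Module.Flat R₀ (M.X i))
    {a b : ℤ} (hM : DRing.HasTorAmplitudeIn R a b (DRing.toD M)) :
    DRing.HasTorAmplitudeIn R' a b (DRing.toD ((DTen.extCx ρ).obj M)) := by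
  letI := ρ.toAlgebra
  haveI : IsScalarTower R₀ R R' := .of_algebraMap_eq' hρ.symm
  obtain ⟨P, hP, ⟨e⟩⟩ := exists_projRep (K := DRing.toD M) (c := max b c) fun i hi =>
    bound_of_ta hM i (Or.inr (lt_of_le_of_lt (le_max_left b c) hi))
  obtain ⟨f, hf, -⟩ := exists_qis hP e
  let W := CochainComplex.mappingCone f
  have hWa : W.Acyclic := (AcyclicLES.quasiIso_iff_acyclic_mappingCone f).1 hf
  have hWb : ∀ i, max b c < i → IsZero (W.X i) := fun i hi =>
    ((CochainComplex.mappingCone.triangleRotateShortComplexSplitting f i).shortExact.exact).isZero_of_both_zeros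
      ((hMb i (lt_of_le_of_lt (le_max_right b c) hi)).eq_of_src _ _)
      ((hP.above (i + 1) (by omega)).eq_of_tgt _ _)
  have hW₀ : ∀ i, letI := Module.compHom (W.X i) (algebraMap R₀ R); Module.Flat R₀ (W.X i) := fun i => by
    let S := (CochainComplex.mappingCone.triangleRotateShortComplex f).map
      (HomologicalComplex.eval (ModuleCat.{u} R) (ComplexShape.up ℤ) i)
    have hS := (CochainComplex.mappingCone.triangleRotateShortComplexSplitting f i).shortExact
    letI : ∀ N : ModuleCat.{u} R, Module R₀ N := fun N => Module.compHom N (algebraMap R₀ R)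
    haveI : ∀ N : ModuleCat.{u} R, IsScalarTower R₀ R N := fun N => .of_algebraMap_smul fun _ _ => rfl
    haveI : Module.Flat R₀ (M.X i) := hM₀ i
    haveI : Module.Flat R₀ (P.X (i + 1)) :=
      haveI := hP.proj (i + 1)
      Module.Flat.trans R₀ R (P.X (i + 1))
    haveI : Module.Flat R₀ S.X₁ := inferInstanceAs (Module.Flat R₀ (M.X i))
    haveI : Module.Flat R₀ S.X₃ := inferInstanceAs (Module.Flat R₀ (P.X (i + 1)))
    have i₁ : Function.Injective S.f.hom := (ModuleCat.mono_iff_injective S.f).1 hS.mono_f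
    have i₂ : Function.Exact S.f.hom S.g.hom :=
      (ShortComplex.ShortExact.moduleCat_exact_iff_function_exact S).1 hS.exact
    have i₃ : Function.Surjective S.g.hom := (ModuleCat.epi_iff_surjective S.g).1 hS.epi_g
    exact H06Mod.flat_of_exact_middle (S.f.hom.restrictScalars R₀) (S.g.hom.restrictScalars R₀) i₁ i₂ i₃
  have hWex : ∀ j, Function.Exact (W.d (j - 1) j).hom (W.d j (j + 1)).hom := fun j =>
    (ShortComplex.ShortExact.moduleCat_exact_iff_function_exact _).1
      ((W.exactAt_iff' (j - 1) j (j + 1) (by simp) (by simp)).1 (hWa j))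
  have hq : QuasiIso ((DTen.extCx ρ).map f) := by
    refine (AcyclicLES.quasiIso_iff_acyclic_mappingCone _).2 (KFlat.acyclic_of_iso
      (CochainComplex.mappingCone.mapHomologicalComplexIso f (ModuleCat.extendScalars.{u, u, u} ρ)) ?_)
    intro i
    rw [HomologicalComplex.exactAt_iff' _ (i - 1) i (i + 1) (by simp) (by simp)]
    exact (ShortComplex.ShortExact.moduleCat_exact_iff_function_exact _).2
      (BaseChange.lTensor_exact_of_flat R₀ R R₀' R' hflat₀ W (max b c) hWb hWex hW₀ i)
  haveI : IsIso (DerivedCategory.Q.map ((DTen.extCx ρ).map f)) :=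
    (DerivedCategory.isIso_Q_map_iff_quasiIso (φ := (DTen.extCx ρ).map f)).2 hq
  haveI := hasLBaseChange ρ
  exact ta_of_iso (asIso (DerivedCategory.Q.map ((DTen.extCx ρ).map f)))
    (ta_of_iso (lbaseObj ρ P (isKFlat_of_flat hP.above hP.flat)) (ta_lbase ρ (ta_of_iso e.symm hM)))

variable (R A R' C : Type u) [CommRing R] [CommRing A] [CommRing R'] [CommRing C]
  [Algebra R A] [Algebra R C] [Algebra A C] [Algebra R' C] [IsScalarTower R A C] (ρ : R →+* R')

/-- Tor amplitude after a base change, given that of the extension of scalars. -/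
theorem ta_baseChange_of_ext (htow : (algebraMap R' C).comp ρ = algebraMap R C)
    (hflat : letI := ρ.toAlgebra; haveI : IsScalarTower R R' C := .of_algebraMap_eq' htow.symm
      (H06Mod.tensorLift R A R' C).toRingHom.Flat)
    (W : DRing.Cx A) {a b : ℤ}
    (hW : DRing.HasTorAmplitudeIn R' a b (DRing.toD
      ((DTen.extCx ρ).obj ((DTen.resCx (algebraMap R A)).obj W)))) :
    DRing.HasTorAmplitudeIn R' a b (DRing.toD
      ((DTen.resCx (algebraMap R' C)).obj ((DTen.extCx (algebraMap A C)).obj W))) := by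
  letI := ρ.toAlgebra
  haveI : IsScalarTower R R' C := .of_algebraMap_eq' htow.symm
  let D := R' ⊗[R] A
  let ψ : D →+* C :=
    (H06Mod.tensorLift R A R' C).toRingHom.comp (Algebra.TensorProduct.comm R R' A).toAlgHom.toRingHom
  have hψ : ψ.Flat := (RingHom.Flat.of_bijective (f := (Algebra.TensorProduct.comm R R' A).toAlgHom.toRingHom)
    (Algebra.TensorProduct.comm R R' A).bijective).comp hflat
  have hA : algebraMap A C = ψ.comp (algebraMap A D) := RingHom.ext fun r => by
    show algebraMap A C r = H06Mod.tensorLift R A R' C (Algebra.TensorProduct.comm R R' A (1 ⊗ₜ r))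
    rw [Algebra.TensorProduct.comm_tmul]
    simp [H06Mod.tensorLift]
  have hR' : algebraMap R' C = ψ.comp (algebraMap R' D) := RingHom.ext fun r => by
    show algebraMap R' C r = H06Mod.tensorLift R A R' C (Algebra.TensorProduct.comm R R' A (r ⊗ₜ 1))
    rw [Algebra.TensorProduct.comm_tmul]
    simp [H06Mod.tensorLift]
  have h1 : DRing.HasTorAmplitudeIn R' a b (DRing.toD
      ((DTen.resCx (algebraMap R' D)).obj ((DTen.extCx (algebraMap A D)).obj W))) :=
    ta_of_iso
      (DerivedCategory.Q.mapIso ((NatIso.mapHomologicalComplex (pushoutExtIso R A R' ρ).symm (ComplexShape.up ℤ)).app W))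
      hW
  have h2 := ta_restrict_extend (algebraMap R' D) ψ hψ h1
  refine ta_of_iso (DerivedCategory.Q.mapIso ((resCompCx (algebraMap R' D) ψ (algebraMap R' C) hR' _).symm ≪≫
    (DTen.resCx (algebraMap R' C)).mapIso ?_)) h2
  exact (NatIso.mapHomologicalComplex ((ModuleCat.extendScalarsComp (algebraMap A D) ψ).symm ≪≫
    eqToIso (congrArg ModuleCat.extendScalars hA.symm)) (ComplexShape.up ℤ)).app W

end Algebra

section Scheme

attribute [local instance] H06Mod.stalkAlgebra

variable {X Y Y' X' S T : Scheme.{u}} {f : X ⟶ Y} {g : Y' ⟶ Y} {g' : X' ⟶ X} {f' : X' ⟶ Y'}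
  {t : Y ⟶ S} {q : T ⟶ S} {tY' : Y' ⟶ T}

/-- Tor-independent base change of tor amplitude relative to a morphism, at a point. -/
theorem at_pullback_indep (H : IsPullback g' f' f g) (H₀ : IsPullback g tY' t q) [Flat t] [Flat (f ≫ t)]
    (P : CochainComplex X.Modules ℤ) (c : ℤ) (hPb : ∀ i, c < i → IsZero (P.X i))
    (hPf : ∀ i, FlatMod.IsFlat (P.X i)) {a b : ℤ}
    (x' : X') (hP : DerSch.HasTorAmplitudeAt f a b P (g'.base x')) :
    DerSch.HasTorAmplitudeAt f' a b
      (((Scheme.Modules.pullback g').mapHomologicalComplex (ComplexShape.up ℤ)).obj P) x' := by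
  let x := g'.base x'
  let y' := f'.base x'
  let s := t.base (f.base x)
  let τ := tY'.base y'
  have hy : g.base y' = f.base x := by
    show g.base (f'.base x') = f.base (g'.base x')
    rw [← Scheme.Hom.comp_apply, ← Scheme.Hom.comp_apply, H.w]
  have hs : q.base τ = s := by
    show q.base (tY'.base y') = t.base (f.base x)
    rw [← hy]
    exact congr($(H₀.w) y').symm
  let β : Y.presheaf.stalk (f.base x) ⟶ Y'.presheaf.stalk y' :=
    Y.presheaf.stalkSpecializes (specializes_of_eq hy) ≫ g.stalkMap y'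
  let β₀ : S.presheaf.stalk s ⟶ T.presheaf.stalk τ :=
    S.presheaf.stalkSpecializes (specializes_of_eq hs) ≫ q.stalkMap τ
  letI : Algebra (Y.presheaf.stalk (f.base x)) (X.presheaf.stalk x) := H06Mod.stalkAlgebra f x
  letI : Algebra (X.presheaf.stalk x) (X'.presheaf.stalk x') := H06Mod.stalkAlgebra g' x'
  letI : Algebra (Y'.presheaf.stalk y') (X'.presheaf.stalk x') := H06Mod.stalkAlgebra f' x'
  letI : Algebra (Y.presheaf.stalk (f.base x)) (X'.presheaf.stalk x') :=
    (f.stalkMap x ≫ g'.stalkMap x').hom.toAlgebra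
  haveI : IsScalarTower (Y.presheaf.stalk (f.base x)) (X.presheaf.stalk x)
      (X'.presheaf.stalk x') := .of_algebraMap_eq fun _ => rfl
  letI : Algebra (S.presheaf.stalk s) (Y.presheaf.stalk (f.base x)) := H06Mod.stalkAlgebra t (f.base x)
  letI : Algebra (S.presheaf.stalk s) (T.presheaf.stalk τ) := β₀.hom.toAlgebra
  letI : Algebra (T.presheaf.stalk τ) (Y'.presheaf.stalk y') := H06Mod.stalkAlgebra tY' y'
  letI : Algebra (S.presheaf.stalk s) (Y'.presheaf.stalk y') := (t.stalkMap (f.base x) ≫ β).hom.toAlgebra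
  have hb' : Spec.map β ≫ Y.fromSpecStalk (f.base x) = Y'.fromSpecStalk y' ≫ g := by
    rw [Spec.map_comp, Category.assoc, Scheme.SpecMap_stalkSpecializes_fromSpecStalk,
      Scheme.SpecMap_stalkMap_fromSpecStalk]
  have ha : Spec.map (f.stalkMap x) ≫ Y.fromSpecStalk (f.base x) = X.fromSpecStalk x ≫ f :=
    Scheme.SpecMap_stalkMap_fromSpecStalk f
  have hb₀ : Spec.map β₀ ≫ S.fromSpecStalk s = T.fromSpecStalk τ ≫ q := by
    rw [Spec.map_comp, Category.assoc, Scheme.SpecMap_stalkSpecializes_fromSpecStalk,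
      Scheme.SpecMap_stalkMap_fromSpecStalk]
  have ha₀ : Spec.map (t.stalkMap (f.base x)) ≫ S.fromSpecStalk s = Y.fromSpecStalk (f.base x) ≫ t :=
    Scheme.SpecMap_stalkMap_fromSpecStalk t
  clear_value β β₀
  have hcomm : β ≫ f'.stalkMap x' = f.stalkMap x ≫ g'.stalkMap x' := by
    apply Spec.map_injective
    rw [← cancel_mono (Y.fromSpecStalk (f.base x)), Spec.map_comp, Spec.map_comp, Category.assoc,
      Category.assoc, hb', ha, ← Category.assoc, ← Category.assoc,
      Scheme.SpecMap_stalkMap_fromSpecStalk, Scheme.SpecMap_stalkMap_fromSpecStalk, Category.assoc,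
      Category.assoc, H.w]
  have hcomm₀ : β₀ ≫ tY'.stalkMap y' = t.stalkMap (f.base x) ≫ β := by
    apply Spec.map_injective
    rw [← cancel_mono (S.fromSpecStalk s), Spec.map_comp, Spec.map_comp, Category.assoc,
      Category.assoc, hb₀, ha₀, ← Category.assoc, ← Category.assoc, hb',
      Scheme.SpecMap_stalkMap_fromSpecStalk, Category.assoc, Category.assoc, H₀.w]
  haveI : IsScalarTower (S.presheaf.stalk s) (T.presheaf.stalk τ) (Y'.presheaf.stalk y') :=
    .of_algebraMap_eq fun r => congr($(congrArg CommRingCat.Hom.hom hcomm₀) r).symm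
  have hC : letI := β.hom.toAlgebra
      haveI : IsScalarTower (Y.presheaf.stalk (f.base x)) (Y'.presheaf.stalk y') (X'.presheaf.stalk x') :=
        .of_algebraMap_eq fun r => congr($(congrArg CommRingCat.Hom.hom hcomm) r).symm
      (H06Mod.tensorLift (Y.presheaf.stalk (f.base x)) (X.presheaf.stalk x)
        (Y'.presheaf.stalk y') (X'.presheaf.stalk x')).toRingHom.Flat := by
    letI := β.hom.toAlgebra
    haveI : IsScalarTower (Y.presheaf.stalk (f.base x)) (Y'.presheaf.stalk y') (X'.presheaf.stalk x') :=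
      .of_algebraMap_eq fun r => congr($(congrArg CommRingCat.Hom.hom hcomm) r).symm
    refine H06Mod.flat_tensorLift (Y.presheaf.stalk (f.base x)) (X.presheaf.stalk x)
      (Y'.presheaf.stalk y') (X'.presheaf.stalk x') f g (X.fromSpecStalk x)
      (Y.fromSpecStalk (f.base x)) (Y'.fromSpecStalk y') ha hb' (X'.fromSpecStalk x' ≫ H.isoPullback.hom) ?_ ?_
    · rw [Category.assoc, H.isoPullback_hom_fst]
      exact Scheme.SpecMap_stalkMap_fromSpecStalk _
    · rw [Category.assoc, H.isoPullback_hom_snd]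
      exact Scheme.SpecMap_stalkMap_fromSpecStalk _
  have hC₀ : letI := β.hom.toAlgebra
      haveI : IsScalarTower (S.presheaf.stalk s) (Y.presheaf.stalk (f.base x)) (Y'.presheaf.stalk y') :=
        .of_algebraMap_eq fun _ => rfl
      (H06Mod.tensorLift (S.presheaf.stalk s) (Y.presheaf.stalk (f.base x))
        (T.presheaf.stalk τ) (Y'.presheaf.stalk y')).toRingHom.Flat := by
    letI := β.hom.toAlgebra
    haveI : IsScalarTower (S.presheaf.stalk s) (Y.presheaf.stalk (f.base x)) (Y'.presheaf.stalk y') :=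
      .of_algebraMap_eq fun _ => rfl
    refine H06Mod.flat_tensorLift (S.presheaf.stalk s) (Y.presheaf.stalk (f.base x))
      (T.presheaf.stalk τ) (Y'.presheaf.stalk y') t q (Y.fromSpecStalk (f.base x))
      (S.fromSpecStalk s) (T.fromSpecStalk τ) ha₀ hb₀ (Y'.fromSpecStalk y' ≫ H₀.isoPullback.hom) ?_ ?_
    · rw [Category.assoc, H₀.isoPullback_hom_fst]
      exact hb'
    · rw [Category.assoc, H₀.isoPullback_hom_snd]
      exact Scheme.SpecMap_stalkMap_fromSpecStalk _
  haveI : Module.Flat (S.presheaf.stalk s) (Y.presheaf.stalk (f.base x)) := Flat.stalkMap t (f.base x)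
  refine ta_of_iso (DerivedCategory.Q.mapIso ((DTen.resCx (f'.stalkMap x').hom).mapIso
    ((NatIso.mapHomologicalComplex (pullStalkExtIso g' x') (ComplexShape.up ℤ)).app P))).symm ?_
  refine ta_baseChange_of_ext _ _ _ _ β.hom (congrArg CommRingCat.Hom.hom hcomm) hC
    (((DerSch.stalkFunctor X x).mapHomologicalComplex (ComplexShape.up ℤ)).obj P) ?_
  refine ta_ext_of_indep (S.presheaf.stalk s) (Y.presheaf.stalk (f.base x)) (T.presheaf.stalk τ)
    (Y'.presheaf.stalk y') β.hom rfl hC₀ _ c
    (fun i hi => (ModuleCat.restrictScalars.{u} _).map_isZero ((DerSch.stalkFunctor X x).map_isZero (hPb i hi))) (fun i => ?_) (ta_of_iso (Iso.refl _) hP)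
  have h := BaseChange.isFlatOver_of_isFlat (f ≫ t) (hPf i) x
  letI := Module.compHom (((DTen.resCx (algebraMap (Y.presheaf.stalk (f.base x)) (X.presheaf.stalk x))).obj
    (((DerSch.stalkFunctor X x).mapHomologicalComplex (ComplexShape.up ℤ)).obj P)).X i)
    (algebraMap (S.presheaf.stalk s) (Y.presheaf.stalk (f.base x)))
  letI : Module (S.presheaf.stalk s) ((P.X i).presheaf.stalk x) := FlatMod.moduleStalkOver (f ≫ t) (P.X i) x
  let eq : ((P.X i).presheaf.stalk x) ≃ₗ[S.presheaf.stalk s]
      ((((DTen.resCx (algebraMap (Y.presheaf.stalk (f.base x)) (X.presheaf.stalk x))).obj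
        (((DerSch.stalkFunctor X x).mapHomologicalComplex (ComplexShape.up ℤ)).obj P)).X i) :) :=
    { toFun := fun m => m
      invFun := fun m => m
      map_add' := fun _ _ => rfl
      map_smul' := fun r m => by
        show ((f ≫ t).stalkMap x).hom r • m = (f.stalkMap x).hom ((t.stalkMap (f.base x)).hom r) • m
        rw [Scheme.Hom.stalkMap_comp]
        rfl
      left_inv := fun _ => rfl
      right_inv := fun _ => rfl }
  haveI : Module.Flat (S.presheaf.stalk s) ((P.X i).presheaf.stalk x) := h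
  exact Module.Flat.of_linearEquiv eq.symm

/-- Tor-independent base change of tor amplitude relative to a morphism. -/
theorem hasTorAmplitudeD_pullback_indep (H : IsPullback g' f' f g) (H₀ : IsPullback g tY' t q) [Flat t]
    [Flat (f ≫ t)] [DCoh.HasLpull g'] {F : CochainComplex X.Modules ℤ} {a b : ℤ}
    (hF : DerSch.HasTorAmplitude f a b F) :
    DerSch.HasTorAmplitudeD f' a b ((DCoh.Lpull g').obj (DCoh.toD X F)) := by
  intro F' hF'
  haveI := (bounds_of_ta f hF).2
  obtain ⟨K, hK, ⟨eK⟩⟩ := (DCoh.toD X F).exists_iso_Q_obj_of_isLE b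
  haveI := hK
  obtain ⟨P, α, hP₀, hPf, hα⟩ := exists_flat_resolution K b
  haveI := hP₀
  haveI : IsIso (DerivedCategory.Q.map α) := isIso_Q_map α hα
  let eP : DerivedCategory.Q.obj P ≅ DCoh.toD X F := asIso (DerivedCategory.Q.map α) ≪≫ eK.symm
  have hk := kflat_of_boundedAbove P b (fun i hi => P.isZero_of_isStrictlyLE b i hi) hPf
  exact hasTorAmplitude_of_iso ((hF'.some ≪≫ (DCoh.Lpull _).mapIso eP.symm ≪≫ lpullObjIso _ P hk)).symm
    fun x' => at_pullback_indep H H₀ P b (fun i hi => P.isZero_of_isStrictlyLE b i hi) hPf x'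
      (hasTorAmplitude_of_iso eP.symm hF _)

end Scheme

end Groth.Agent.H16Derived.TorTest
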